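import Groth.Agent.KoszulLCI.BaseChange
import Mathlib.AlgebraicGeometry.Morphisms.Descent
import Mathlib.AlgebraicGeometry.Morphisms.FlatDescent
import Mathlib.RingTheory.RingHom.FaithfullyFlat

/-!
# Descent of local complete intersection morphisms
-/

set_option autoImplicit false

universe u

open CategoryTheory CategoryTheory.Limits AlgebraicGeometry TensorProduct MorphismProperty

namespace Groth.KoszulLCI

/-- The ring map property. -/
def RingLCI {R S : Type u} [CommRing R] [CommRing S] (f : R →+* S) : Prop :=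
  @LCI.IsLCI R _ S _ f.toAlgebra

theorem ringLCI_algebraMap {R S : Type u} [CommRing R] [CommRing S] [Algebra R S] :
    RingLCI (algebraMap R S) ↔ LCI.IsLCI R S := by
  unfold RingLCI
  rw [show (algebraMap R S).toAlgebra = ‹Algebra R S› from Algebra.algebra_ext _ _ fun _ => rfl]

theorem ringLCI_stableUnderComposition : RingHom.StableUnderComposition @RingLCI := by
  intro R S T _ _ _ f g hf hg
  let _ := f.toAlgebra
  let _ := g.toAlgebra
  let _ := (g.comp f).toAlgebra
  have : IsScalarTower R S T := .of_algebraMap_eq fun _ => rfl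
  exact isLCI_trans (B := S) hf hg

theorem ringLCI_holdsForLocalizationAway : RingHom.HoldsForLocalizationAway @RingLCI := by
  intro R S _ _ _ r _
  exact ringLCI_algebraMap.mpr (isLCI_away r)

theorem ringLCI_propertyIsLocal : RingHom.PropertyIsLocal @RingLCI where
  localizationAwayPreserves := by
    intro R S _ _ f r R' S' _ _ _ _ _ _ hf
    let _ := f.toAlgebra
    let F : R' →+* S' := IsLocalization.Away.map R' S' f r
    let _ := F.toAlgebra
    let _ : Algebra R S' := ((algebraMap S S').comp f).toAlgebra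
    have : IsScalarTower R S S' := .of_algebraMap_eq fun _ => rfl
    have : IsScalarTower R R' S' := .of_algebraMap_eq fun x => by
      show algebraMap S S' (f x) = F (algebraMap R R' x)
      simp [F, IsLocalization.Away.map]
    have : IsLocalization (Algebra.algebraMapSubmonoid S (Submonoid.powers r)) S' := by
      rw [Algebra.algebraMapSubmonoid_powers]
      assumption
    have := (Algebra.isPushout_of_isLocalization (Submonoid.powers r) R' S S')
    have : Module.Flat R R' := IsLocalization.flat R' (Submonoid.powers r)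
    show LCI.IsLCI R' S'
    have hpo : Algebra.IsPushout R R' S S' := by
      first | exact this | exact (Algebra.isPushout_of_isLocalization (Submonoid.powers r) R' S S').symm
    exact isLCI_baseChange (A := R) (B := S) hf
  ofLocalizationSpanTarget := by
    intro R S _ _ f s hs h
    let _ := f.toAlgebra
    refine isLCI_of_span_eq_top s hs fun g hg => ?_
    exact ringLCI_algebraMap.mp (h ⟨g, hg⟩)
  ofLocalizationSpan := RingHom.OfLocalizationSpanTarget.ofLocalizationSpan
    (by
      intro R S _ _ f s hs h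
      let _ := f.toAlgebra
      refine isLCI_of_span_eq_top s hs fun g hg => ?_
      exact ringLCI_algebraMap.mp (h ⟨g, hg⟩))
    (ringLCI_stableUnderComposition.stableUnderCompositionWithLocalizationAway
      ringLCI_holdsForLocalizationAway).left
  StableUnderCompositionWithLocalizationAwayTarget :=
    (ringLCI_stableUnderComposition.stableUnderCompositionWithLocalizationAway
      ringLCI_holdsForLocalizationAway).right

theorem ringLCI_codescendsAlong : RingHom.CodescendsAlong @RingLCI @RingHom.FaithfullyFlat := by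
  refine .mk _ ringLCI_propertyIsLocal.respectsIso fun R S T _ _ _ _ _ h h' => ?_
  rw [RingHom.faithfullyFlat_algebraMap_iff] at h
  rw [ringLCI_algebraMap] at h' ⊢
  have := h'.1
  have hft : Algebra.FiniteType R T := Algebra.FiniteType.of_finiteType_tensorProduct_of_faithfullyFlat S
  let _ : Algebra T (S ⊗[R] T) := Algebra.TensorProduct.rightAlgebra
  exact isLCI_of_baseChange (A' := S) (B' := S ⊗[R] T) hft h'

/-- The morphism property of local complete intersection morphisms, affine-locally. -/
def MorLCI : MorphismProperty Scheme.{u} := affineLocally @RingLCI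

instance : HasRingHomProperty MorLCI.{u} @RingLCI := ⟨ringLCI_propertyIsLocal, rfl⟩

theorem morLCI_iff {X Y : Scheme.{u}} (f : X ⟶ Y) :
    MorLCI f ↔ ∀ (U : X.Opens) (V : Y.Opens) (_ : IsAffineOpen U) (_ : IsAffineOpen V)
      (hUV : U ≤ f ⁻¹ᵁ V), letI := (f.appLE V U hUV).hom.toAlgebra; LCI.IsLCI Γ(Y, V) Γ(X, U) := by
  rw [MorLCI, affineLocally_iff_affineOpens_le]
  exact ⟨fun h U V hU hV hUV => h ⟨V, hV⟩ ⟨U, hU⟩ hUV, fun h V U hUV => h U.1 V.1 U.2 V.2 hUV⟩

set_option backward.isDefEq.respectTransparency false in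
set_option backward.isDefEq.respectTransparency.types false in
theorem morLCI_descends : MorLCI.{u}.DescendsAlong (@Surjective ⊓ @Flat ⊓ @QuasiCompact) := by
  apply IsZariskiLocalAtTarget.descendsAlong
  intro R X Y f g hf h
  obtain ⟨⟨hsurj, hflat⟩, hqc⟩ := hf
  have : CompactSpace X := by simpa [← quasiCompact_iff_compactSpace f] using hqc
  let 𝒰 := X.affineCover.finiteSubcover
  let W := ∐ fun i : 𝒰.I₀ ↦ 𝒰.X i
  let p : W ⟶ X := Sigma.desc fun i ↦ 𝒰.f i
  have hp : Surjective p := ⟨fun x ↦ by
    obtain ⟨i, x, rfl⟩ := X.affineCover.finiteSubcover.exists_eq x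
    use Sigma.ι X.affineCover.finiteSubcover.X i x
    rw [← Scheme.Hom.comp_apply, Sigma.ι_desc]⟩
  have hpflat : Flat p := by
    rw [IsZariskiLocalAtSource.iff_of_openCover (P := @Flat) (sigmaOpenCover _)]
    intro i
    have : IsOpenImmersion (Sigma.ι (fun i : 𝒰.I₀ ↦ 𝒰.X i) i ≫ p) := by
      rw [Sigma.ι_desc]; infer_instance
    exact (inferInstance : Flat (Sigma.ι (fun i : 𝒰.I₀ ↦ 𝒰.X i) i ≫ p))
  have hW : MorLCI (pullback.fst p (pullback.fst f g)) := by
    rw [IsZariskiLocalAtTarget.iff_of_openCover (P := MorLCI) (sigmaOpenCover _)]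
    intro i
    have : IsOpenImmersion (Sigma.ι (fun i : 𝒰.I₀ ↦ 𝒰.X i) i ≫ p) := by
      rw [Sigma.ι_desc]; infer_instance
    have hpb := ((IsPullback.of_hasPullback (pullback.fst p (pullback.fst f g))
      (Sigma.ι (fun i : 𝒰.I₀ ↦ 𝒰.X i) i)).flip.paste_vert
      (IsPullback.of_hasPullback p (pullback.fst f g))).flip
    exact IsZariskiLocalAtTarget.of_isPullback hpb h
  have hW' : MorLCI (pullback.fst (p ≫ f) g) := by
    rw [← pullbackRightPullbackFstIso_inv_fst f g p, MorLCI.cancel_left_of_respectsIso]
    exact hW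
  obtain ⟨φ, hφ⟩ := Spec.map_surjective (W.isoSpec.inv ≫ p ≫ f)
  have hW'' : MorLCI (pullback.fst (Spec.map φ) g) := by
    rw [hφ, ← pullbackRightPullbackFstIso_inv_fst (p ≫ f) g W.isoSpec.inv,
      MorLCI.cancel_left_of_respectsIso]
    exact IsZariskiLocalAtTarget.of_isPullback (IsPullback.of_hasPullback W.isoSpec.inv _).flip hW'
  have hff : φ.hom.FaithfullyFlat := by
    rw [← flat_and_surjective_SpecMap_iff, hφ]
    exact ⟨inferInstance, inferInstance⟩
  have hY : ∀ (S : CommRingCat.{u}) (g : Spec S ⟶ Spec R), MorLCI (pullback.fst (Spec.map φ) g) → MorLCI g :=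
    fun S g hg => of_pullback_fst_Spec_of_codescendsAlong (P := MorLCI)
      (Q := fun f ↦ RingLCI f) (Q' := RingHom.FaithfullyFlat) (P' := @Surjective ⊓ @Flat)
      ringLCI_codescendsAlong
      (fun {_ _ f} hf => by rwa [← flat_and_surjective_SpecMap_iff, and_comm])
      (fun {_ _ _} => HasRingHomProperty.Spec_iff (P := MorLCI))
      (show (@Surjective ⊓ @Flat : MorphismProperty Scheme.{u}) (Spec.map φ) from
        by obtain ⟨h1, h2⟩ := (flat_and_surjective_SpecMap_iff φ).mpr hff; exact ⟨h2, h1⟩) hg
  rw [IsZariskiLocalAtSource.iff_of_openCover (P := MorLCI) Y.affineCover]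
  intro i
  have heq : pullback.fst (Spec.map φ) (Y.affineCover.f i ≫ g) =
      pullback.map _ _ _ _ (𝟙 _) (Y.affineCover.f i) (𝟙 _) (by simp) (by simp) ≫
        pullback.fst (Spec.map φ) g := (pullback.lift_fst _ _ _).symm
  exact hY _ _ (heq ▸ AlgebraicGeometry.IsZariskiLocalAtSource.comp hW'' _)

end Groth.KoszulLCI
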