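import Groth.Agent.KoszulLCI.SmoothCancel
import Groth.Agent.KoszulLCI.SchemeDescent
import Groth.Agent.KoszulReg.Immersion
import Groth.Prelude.Def_RegImm
import Mathlib.AlgebraicGeometry.Morphisms.Immersion
import Mathlib.AlgebraicGeometry.Morphisms.Smooth

/-!
# Koszul-regular immersions and Koszul morphisms versus local complete intersection morphisms

`MorLCI f` (affine-locally an LCI ring map) is equivalent to `∀ x, Synt.IsKoszulAt f x`, and a
Koszul-regular immersion is an immersion with `MorLCI`.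
-/

set_option autoImplicit false

universe u

open CategoryTheory CategoryTheory.Limits AlgebraicGeometry MorphismProperty

namespace Groth.KoszulLCI

instance : MorLCI.{u}.IsStableUnderComposition :=
  HasRingHomProperty.stableUnderComposition (P := MorLCI) ringLCI_stableUnderComposition

variable {X Y Z : Scheme.{u}}

theorem morLCI_iff_exists (f : X ⟶ Y) :
    MorLCI f ↔ ∀ x : X, ∃ (U : Y.affineOpens) (V : X.affineOpens) (_ : x ∈ V.1) (e : V.1 ≤ f ⁻¹ᵁ U.1),
      RingLCI (f.appLE U.1 V.1 e).hom :=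
  HasRingHomProperty.iff_exists_appLE (P := MorLCI)
    (ringLCI_stableUnderComposition.stableUnderCompositionWithLocalizationAway
      ringLCI_holdsForLocalizationAway).left

theorem morLCI_of_smooth (f : X ⟶ Y) [Smooth f] : MorLCI f := by
  rw [morLCI_iff]
  intro U V hU hV hUV
  have h := HasRingHomProperty.appLE (P := @Smooth) f ‹_› ⟨V, hV⟩ ⟨U, hU⟩ hUV
  let _ := (f.appLE V U hUV).hom.toAlgebra
  have : Algebra.Smooth Γ(Y, V) Γ(X, U) := h
  exact isLCI_of_smooth _

theorem ringLCI_of_surjective {R S : Type u} [CommRing R] [CommRing S] (f : R →+* S)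
    (hs : Function.Surjective f) (h : LCI.IsKoszulRegularIdeal (RingHom.ker f)) : RingLCI f := by
  let _ := f.toAlgebra
  exact isLCI_of_surjective (A := R) (B := S) hs h

theorem isKoszulRegularIdeal_ker_of_ringLCI {R S : Type u} [CommRing R] [CommRing S] (f : R →+* S)
    (hs : Function.Surjective f) (h : RingLCI f) : LCI.IsKoszulRegularIdeal (RingHom.ker f) := by
  let _ := f.toAlgebra
  exact isKoszulRegularIdeal_of_isLCI_surjective (A := R) (B := S) hs h

theorem morLCI_of_isRegularImmersion (i : Z ⟶ X) (h : RegImm.IsRegularImmersion .koszul i) :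
    MorLCI i := by
  rw [morLCI_iff_exists]
  intro z
  obtain ⟨U, hzU, hci, rs, hrs, hker⟩ := h.2 z
  refine ⟨U, ⟨i ⁻¹ᵁ U.1, Groth.KoszulReg.isAffineOpen_preimage i U.1 U.2⟩, hzU, le_rfl, ?_⟩
  rw [← Scheme.Hom.app_eq_appLE]
  exact ringLCI_of_surjective _ (Groth.KoszulReg.surjective_app i U.1 U.2)
    (hker ▸ isKoszulRegularIdeal_ofList hrs)

theorem ker_app_basicOpen (i : Z ⟶ X) {U : X.Opens} (hU : IsAffineOpen U)
    [IsClosedImmersion (i ∣_ U)] (f : Γ(X, U)) :
    RingHom.ker (i.app (X.basicOpen f)).hom =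
      (RingHom.ker (i.app U).hom).map (X.presheaf.map (homOfLE (X.basicOpen_le f)).op).hom := by
  set res := (X.presheaf.map (homOfLE (X.basicOpen_le f)).op).hom
  have hle : i ⁻¹ᵁ X.basicOpen f ≤ i ⁻¹ᵁ U := i.preimage_mono (X.basicOpen_le f)
  have hnat : ∀ x, (i.app (X.basicOpen f)).hom (res x) =
      (Z.presheaf.map (homOfLE hle).op).hom ((i.app U).hom x) :=
    fun x => congr_arg (fun φ => φ.hom x) (i.naturality (homOfLE (X.basicOpen_le f)).op)
  refine le_antisymm (fun x hx => ?_) (Ideal.map_le_iff_le_comap.mpr fun x hx => ?_)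
  · let _ := res.toAlgebra
    have := hU.isLocalization_of_eq_basicOpen f (homOfLE (X.basicOpen_le f)) rfl
    obtain ⟨a, ⟨_, k, rfl⟩, rfl⟩ := IsLocalization.exists_mk'_eq (Submonoid.powers f) x
    change _ ∈ (RingHom.ker (i.app U).hom).map (algebraMap Γ(X, U) Γ(X, X.basicOpen f))
    rw [IsLocalization.mk'_mem_map_algebraMap_iff]
    have h1 : (i.app (X.basicOpen f)).hom (res a) = 0 := by
      change (i.app (X.basicOpen f)).hom (algebraMap Γ(X, U) Γ(X, X.basicOpen f) a) = 0
      rw [← IsLocalization.mk'_spec' Γ(X, X.basicOpen f) a (⟨f ^ k, ⟨k, rfl⟩⟩ : Submonoid.powers f),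
        map_mul, RingHom.mem_ker.mp hx, mul_zero]
    rw [hnat] at h1
    have hW : i ⁻¹ᵁ X.basicOpen f = Z.basicOpen ((i.app U).hom f) := Scheme.preimage_basicOpen ..
    let _ := (Z.presheaf.map (homOfLE hle).op).hom.toAlgebra
    have := (Groth.KoszulReg.isAffineOpen_preimage i U hU).isLocalization_of_eq_basicOpen _
      (homOfLE hle) hW
    change algebraMap Γ(Z, i ⁻¹ᵁ U) Γ(Z, i ⁻¹ᵁ X.basicOpen f) ((i.app U).hom a) = 0 at h1
    rw [IsLocalization.map_eq_zero_iff (Submonoid.powers ((i.app U).hom f))] at h1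
    obtain ⟨⟨_, n, rfl⟩, hn⟩ := h1
    refine ⟨f ^ n, ⟨n, rfl⟩, ?_⟩
    rw [RingHom.mem_ker, map_mul, map_pow]
    exact hn
  · rw [Ideal.mem_comap, RingHom.mem_ker, hnat, RingHom.mem_ker.mp hx, map_zero]

theorem isClosedImmersion_restrict_coborder (i : Z ⟶ X) [IsImmersion i] :
    IsClosedImmersion (i ∣_ i.coborderRange) := by
  have h := isPullback_morphismRestrict i i.coborderRange
  have htop : i ⁻¹ᵁ i.coborderRange = ⊤ := top_unique fun x _ => subset_coborder ⟨x, rfl⟩
  have e : i ∣_ i.coborderRange = (Scheme.isoOfEq Z htop).hom ≫ Z.topIso.hom ≫ i.liftCoborder := by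
    rw [← cancel_mono i.coborderRange.ι]
    simp [Scheme.Hom.liftCoborder_ι, morphismRestrict_ι]
  rw [e]
  infer_instance

theorem isRegularImmersion_of_morLCI (i : Z ⟶ X) [IsImmersion i] (h : MorLCI i) :
    RegImm.IsRegularImmersion .koszul i := by
  refine ⟨inferInstance, fun z => ?_⟩
  have := isClosedImmersion_restrict_coborder i
  obtain ⟨W, hW, hzW, hWle⟩ := exists_isAffineOpen_mem_and_subset
    (show i z ∈ i.coborderRange from subset_coborder ⟨z, rfl⟩)
  have : IsClosedImmersion (i ∣_ W) := Groth.KoszulReg.isClosedImmersion_restrict i hWle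
  have hA := Groth.KoszulReg.isAffineOpen_preimage i W hW
  have hs := Groth.KoszulReg.surjective_app i W hW
  have h1 := HasRingHomProperty.appLE (P := MorLCI) i h ⟨W, hW⟩ ⟨i ⁻¹ᵁ W, hA⟩ le_rfl
  rw [← Scheme.Hom.app_eq_appLE] at h1
  have hI := isKoszulRegularIdeal_ker_of_ringLCI _ hs h1
  have hp : RingHom.ker (i.app W).hom ≤ (hW.primeIdealOf ⟨i z, hzW⟩).asIdeal := by
    intro a ha
    by_contra hna
    have h2 : i z ∈ X.basicOpen a := by
      have h3 : hW.primeIdealOf ⟨i z, hzW⟩ ∈ PrimeSpectrum.basicOpen a := hna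
      rw [← hW.fromSpec_preimage_basicOpen] at h3
      have h5 : hW.fromSpec (hW.primeIdealOf ⟨i z, hzW⟩) ∈ X.basicOpen a := h3
      rwa [hW.fromSpec_primeIdealOf] at h5
    have h4 : z ∈ i ⁻¹ᵁ X.basicOpen a := h2
    rw [Scheme.preimage_basicOpen, RingHom.mem_ker.mp ha, Scheme.basicOpen_zero] at h4
    exact h4
  obtain ⟨g, hg, r, hr⟩ := exists_locReg hI _ hp
  have hzg : i z ∈ X.basicOpen g := by
    have h3 : hW.primeIdealOf ⟨i z, hzW⟩ ∈ PrimeSpectrum.basicOpen g := hg
    rw [← hW.fromSpec_preimage_basicOpen] at h3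
    have h5 : hW.fromSpec (hW.primeIdealOf ⟨i z, hzW⟩) ∈ X.basicOpen g := h3
    rwa [hW.fromSpec_primeIdealOf] at h5
  let _ := (X.presheaf.map (homOfLE (X.basicOpen_le g)).op).hom.toAlgebra
  have := hW.isLocalization_basicOpen g
  let e := IsLocalization.algEquiv (Submonoid.powers g) (Localization.Away g) Γ(X, X.basicOpen g)
  obtain ⟨l, -, hl, hlI⟩ := hr.map e.toAlgHom.toRingHom (RingHom.Flat.of_bijective e.bijective)
  refine ⟨⟨X.basicOpen g, hW.basicOpen g⟩, hzg,
    Groth.KoszulReg.isClosedImmersion_restrict i (X.basicOpen_le g), l, hl, ?_⟩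
  rw [hlI, Ideal.map_map, ker_app_basicOpen i hW g]
  congr 1
  exact RingHom.ext fun a => (e.commutes a).symm

theorem isRegularImmersion_koszul_iff (i : Z ⟶ X) :
    RegImm.IsRegularImmersion .koszul i ↔ IsImmersion i ∧ MorLCI i :=
  ⟨fun h => ⟨h.1, morLCI_of_isRegularImmersion i h⟩,
    fun ⟨_, h⟩ => isRegularImmersion_of_morLCI i h⟩

theorem morLCI_of_isKoszulAt (f : X ⟶ Y) (h : ∀ x : X, Synt.IsKoszulAt f x) : MorLCI f := by
  choose U P i π hxU _ hi hπ hfac using h
  rw [IsZariskiLocalAtSource.iff_of_openCover (P := MorLCI) (X.openCoverOfIsOpenCover U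
    (TopologicalSpace.IsOpenCover.mk (top_unique fun x _ => TopologicalSpace.Opens.mem_iSup.mpr ⟨x, hxU x⟩)))]
  intro x
  show MorLCI ((U x).ι ≫ f)
  rw [← hfac x]
  have := hπ x
  exact comp_mem _ _ _ (morLCI_of_isRegularImmersion (i x) (hi x)) (morLCI_of_smooth (π x))

theorem isKoszulAt_of_morLCI (f : X ⟶ Y) (h : MorLCI f) (x : X) : Synt.IsKoszulAt f x := by
  obtain ⟨V, hV, hxV, -⟩ := exists_isAffineOpen_mem_and_subset (show f x ∈ (⊤ : Y.Opens) from trivial)
  obtain ⟨U, hU, hxU, hUV'⟩ := exists_isAffineOpen_mem_and_subset (show x ∈ f ⁻¹ᵁ V from hxV)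
  have hUV : U ≤ f ⁻¹ᵁ V := hUV'
  let _ := (f.appLE V U hUV).hom.toAlgebra
  obtain ⟨-, n, α, hα, hI⟩ := (morLCI_iff f).mp h U V hU hV hUV
  let P := CommRingCat.of (MvPolynomial (Fin n) Γ(Y, V))
  let C' : Γ(Y, V) ⟶ P := CommRingCat.ofHom MvPolynomial.C
  let α' : P ⟶ Γ(X, U) := CommRingCat.ofHom α.toRingHom
  have hcomp : C' ≫ α' = f.appLE V U hUV := CommRingCat.hom_ext (RingHom.ext fun a => α.commutes a)
  let i : (U : Scheme.{u}) ⟶ Spec P := hU.isoSpec.hom ≫ Spec.map α'
  let π : Spec P ⟶ Y := Spec.map C' ≫ hV.fromSpec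
  have : Smooth (Spec.map C') := by
    rw [HasRingHomProperty.Spec_iff (P := @Smooth)]
    show (algebraMap Γ(Y, V) (MvPolynomial (Fin n) Γ(Y, V))).Smooth
    rw [RingHom.smooth_algebraMap]
    exact ⟨inferInstance, inferInstance⟩
  have : IsClosedImmersion (Spec.map α') := IsClosedImmersion.spec_of_surjective α' hα
  have hlci : MorLCI (Spec.map α') := by
    rw [HasRingHomProperty.Spec_iff (P := MorLCI)]
    exact ringLCI_of_surjective _ hα hI
  have hfac : i ≫ π = U.ι ≫ f := by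
    simp only [i, π, Category.assoc]
    rw [← Spec.map_comp_assoc, hcomp, hV.SpecMap_appLE_fromSpec f hU hUV,
      ← IsAffineOpen.isoSpec_inv_ι, Category.assoc, Iso.hom_inv_id_assoc]
  refine ⟨U, Spec P, i, π, hxU, ?_, ?_, inferInstance, hfac⟩
  · rw [← hfac]
    infer_instance
  · refine isRegularImmersion_of_morLCI i ?_
    simp only [i, MorLCI.cancel_left_of_respectsIso]
    exact hlci

theorem isKoszulAt_iff_morLCI (f : X ⟶ Y) : (∀ x : X, Synt.IsKoszulAt f x) ↔ MorLCI f :=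
  ⟨morLCI_of_isKoszulAt f, isKoszulAt_of_morLCI f⟩

end Groth.KoszulLCI
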