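import Groth.Agent.KoszulLCI.Immersion
import Mathlib.Algebra.Category.Ring.Constructions

/-!
# Base change and cancellation for local complete intersection morphisms
-/

set_option autoImplicit false

universe u

open CategoryTheory CategoryTheory.Limits AlgebraicGeometry MorphismProperty

namespace Groth.KoszulLCI

variable {X Y Z : Scheme.{u}}

/-- Cancellation of a smooth morphism. -/
theorem morLCI_of_comp_smooth (f : X ⟶ Y) (g : Y ⟶ Z) [Smooth g] (h : MorLCI (f ≫ g)) : MorLCI f := by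
  rw [morLCI_iff_exists]
  intro x
  obtain ⟨W, hW, hxW, -⟩ := exists_isAffineOpen_mem_and_subset
    (show g (f x) ∈ (⊤ : Z.Opens) from trivial)
  obtain ⟨V, hV, hxV, hVW'⟩ := exists_isAffineOpen_mem_and_subset (show f x ∈ g ⁻¹ᵁ W from hxW)
  have hVW : V ≤ g ⁻¹ᵁ W := hVW'
  obtain ⟨U, hU, hxU, hUV'⟩ := exists_isAffineOpen_mem_and_subset (show x ∈ f ⁻¹ᵁ V from hxV)
  have hUV : U ≤ f ⁻¹ᵁ V := hUV'
  refine ⟨⟨V, hV⟩, ⟨U, hU⟩, hxU, hUV, ?_⟩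
  have hUW : U ≤ (f ≫ g) ⁻¹ᵁ W := hUV.trans (f.preimage_mono hVW)
  let _ := (g.appLE W V hVW).hom.toAlgebra
  let _ := (f.appLE V U hUV).hom.toAlgebra
  let _ := ((f ≫ g).appLE W U hUW).hom.toAlgebra
  have : IsScalarTower Γ(Z, W) Γ(Y, V) Γ(X, U) := IsScalarTower.of_algebraMap_eq' (by
    change ((f ≫ g).appLE _ _ _).hom = (f.appLE _ _ _).hom.comp (g.appLE _ _ _).hom
    rw [← CommRingCat.hom_comp, Scheme.Hom.appLE_comp_appLE])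
  have : Algebra.Smooth Γ(Z, W) Γ(Y, V) := HasRingHomProperty.appLE (P := @Smooth) g ‹_› ⟨W, hW⟩ ⟨V, hV⟩ hVW
  exact isLCI_of_smooth_tower ((morLCI_iff _).mp h U W hU hW hUW)

/-- Flat base change. -/
theorem morLCI_of_isPullback_flat {X' Y' : Scheme.{u}} {f : X ⟶ Y} {g : Y' ⟶ Y} [Flat g]
    {f' : X' ⟶ Y'} {g' : X' ⟶ X} (hsq : IsPullback g' f' f g) (h : MorLCI f) : MorLCI f' := by
  rw [morLCI_iff_exists]
  intro x
  obtain ⟨V, hV, hxV, -⟩ := exists_isAffineOpen_mem_and_subset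
    (show g (f' x) ∈ (⊤ : Y.Opens) from trivial)
  obtain ⟨V', hV', hxV', hVV'⟩ := exists_isAffineOpen_mem_and_subset (show f' x ∈ g ⁻¹ᵁ V from hxV)
  have hV'V : V' ≤ g ⁻¹ᵁ V := hVV'
  have hxfV : f (g' x) ∈ V := by
    rw [← Scheme.Hom.comp_apply, hsq.w]
    exact hxV
  obtain ⟨U, hU, hxU, hUV'⟩ := exists_isAffineOpen_mem_and_subset (show g' x ∈ f ⁻¹ᵁ V from hxfV)
  have hUV : U ≤ f ⁻¹ᵁ V := hUV'
  have hUY : g' ⁻¹ᵁ U ⊓ f' ⁻¹ᵁ V' = g' ⁻¹ᵁ U ⊓ f' ⁻¹ᵁ V' := rfl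
  have hU' : IsAffineOpen (g' ⁻¹ᵁ U ⊓ f' ⁻¹ᵁ V') := by
    have : IsAffine V.toScheme := hV
    have : IsAffine V'.toScheme := hV'
    have : IsAffine U.toScheme := hU
    exact IsAffine.of_isIso
      ((Scheme.Hom.isPullback_resLE hsq hV'V hUV hUY).isoPullback).hom
  refine ⟨⟨V', hV'⟩, ⟨_, hU'⟩, ⟨hxU, hxV'⟩, inf_le_right, ?_⟩
  have hpo := (isIso_pushoutSection_iff hsq hV'V hUV hUY).mp
    (isIso_pushoutSection_of_isAffineOpen hsq hV'V hUV hUY hV hV' hU)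
  let _ := (g.appLE V V' hV'V).hom.toAlgebra
  let _ := (f.appLE V U hUV).hom.toAlgebra
  let _ := (f'.appLE V' (g' ⁻¹ᵁ U ⊓ f' ⁻¹ᵁ V') inf_le_right).hom.toAlgebra
  let _ : Algebra Γ(X, U) Γ(X', g' ⁻¹ᵁ U ⊓ f' ⁻¹ᵁ V') :=
    (g'.appLE U (g' ⁻¹ᵁ U ⊓ f' ⁻¹ᵁ V') inf_le_left).hom.toAlgebra
  let _ : Algebra Γ(Y, V) Γ(X', g' ⁻¹ᵁ U ⊓ f' ⁻¹ᵁ V') :=
    ((f'.appLE V' (g' ⁻¹ᵁ U ⊓ f' ⁻¹ᵁ V') inf_le_right).hom.comp (g.appLE V V' hV'V).hom).toAlgebra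
  have : IsScalarTower Γ(Y, V) Γ(Y', V') Γ(X', g' ⁻¹ᵁ U ⊓ f' ⁻¹ᵁ V') := .of_algebraMap_eq fun _ => rfl
  have : IsScalarTower Γ(Y, V) Γ(X, U) Γ(X', g' ⁻¹ᵁ U ⊓ f' ⁻¹ᵁ V') := .of_algebraMap_eq' (by
    have := congrArg (fun φ => φ.hom) hpo.w
    simp only [CommRingCat.hom_comp] at this
    first | exact this | exact this.symm)
  have : Algebra.IsPushout Γ(Y, V) Γ(Y', V') Γ(X, U) Γ(X', g' ⁻¹ᵁ U ⊓ f' ⁻¹ᵁ V') := by
    rw [← CommRingCat.isPushout_iff_isPushout]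
    first | exact hpo | exact hpo.flip
  have : Module.Flat Γ(Y, V) Γ(Y', V') := Flat.flat_appLE g hV hV' hV'V
  exact isLCI_baseChange (A := Γ(Y, V)) (B := Γ(X, U)) ((morLCI_iff f).mp h U V hU hV hUV)

end Groth.KoszulLCI
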