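import Groth.Agent.KoszulLCI.Extend
import Mathlib.RingTheory.MvPolynomial.Localization
import Mathlib.RingTheory.RingHom.FiniteType

/-!
# Local complete intersection ring maps: locality and composition
-/

set_option autoImplicit false

universe u

open IsLocalRing MvPolynomial

namespace Groth.KoszulLCI

variable {A B C R S : Type u} [CommRing A] [CommRing B] [CommRing C] [CommRing R] [CommRing S]

section Append

variable (π : R →+* S) (hπ : Function.Surjective π)
include hπ

theorem ker_localRingHom_eq_map (q' : Ideal S) [q'.IsPrime] :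
    RingHom.ker (Localization.localRingHom (q'.comap π) q' π rfl) =
      (RingHom.ker π).map (algebraMap R (Localization.AtPrime (q'.comap π))) := by
  refine le_antisymm (fun x hx => ?_) ?_
  · obtain ⟨a, s, rfl⟩ := IsLocalization.exists_mk'_eq (q'.comap π).primeCompl x
    rw [RingHom.mem_ker, Localization.localRingHom_mk', IsLocalization.mk'_eq_zero_iff] at hx
    obtain ⟨⟨c', hc'⟩, hca⟩ := hx
    obtain ⟨c, rfl⟩ := hπ c'
    have hmem : c * a ∈ RingHom.ker π := by rw [RingHom.mem_ker, map_mul]; exact hca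
    have h1 := Ideal.mem_map_of_mem (algebraMap R (Localization.AtPrime (q'.comap π))) hmem
    rw [map_mul,
      Ideal.unit_mul_mem_iff_mem _ (IsLocalization.map_units _ (⟨c, hc'⟩ : (q'.comap π).primeCompl))] at h1
    rw [IsLocalization.mk'_eq_mul_mk'_one]
    exact Ideal.mul_mem_right _ _ h1
  · rw [Ideal.map_le_iff_le_comap]
    intro a ha
    rw [Ideal.mem_comap, RingHom.mem_ker, Localization.localRingHom_to_map, RingHom.mem_ker.mp ha,
      map_zero]

theorem locReg_append (J : Ideal S) (q' : Ideal S) [q'.IsPrime] {r s : ℕ}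
    (h₁ : LocReg (RingHom.ker π) (q'.comap π) r) (h₂ : LocReg J q' s) :
    LocReg (J.comap π) (q'.comap π) (r + s) := by
  let P := Localization.AtPrime (q'.comap π)
  let θ : P →+* Localization.AtPrime q' := Localization.localRingHom (q'.comap π) q' π rfl
  have hθ : Function.Surjective θ := surjective_localRingHom π hπ q'
  obtain ⟨f, hf, hfreg, hfI⟩ := h₁
  have hθk : RingHom.ker θ = Ideal.ofList f := (ker_localRingHom_eq_map π hπ q').trans hfI.symm
  obtain ⟨l', hl', hreg, hlI⟩ := h₂
  obtain ⟨g, rfl⟩ : ∃ g : List P, g.map θ = l' := (List.map_surjective_iff.mpr hθ) l'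
  refine ⟨g ++ f, by simp at hl' ⊢; omega,
    (isKoszulRegularSeq_append_iff f g hfreg θ hθ hθk).mpr hreg, ?_⟩
  have hk : RingHom.ker θ ≤ (J.comap π).map (algebraMap R P) := by
    rw [hθk, hfI]
    exact Ideal.map_mono fun x hx => Ideal.mem_comap.mpr (RingHom.mem_ker.mp hx ▸ J.zero_mem)
  have hm : ((J.comap π).map (algebraMap R P)).map θ = J.map (algebraMap S (Localization.AtPrime q')) := by
    rw [Ideal.map_map, show θ.comp (algebraMap R P) = (algebraMap S (Localization.AtPrime q')).comp π from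
      RingHom.ext fun a => Localization.localRingHom_to_map _ q' π rfl a, ← Ideal.map_map,
      Ideal.map_comap_of_surjective π hπ]
  have h1 : ((Ideal.ofList g).map θ).comap θ = (((J.comap π).map (algebraMap R P)).map θ).comap θ := by
    rw [hm, Ideal.map_ofList, hlI]
  rw [Ideal.comap_map_of_surjective θ hθ, Ideal.comap_map_of_surjective θ hθ] at h1
  rw [Ideal.ofList_append, ← hθk]
  exact h1.trans (sup_eq_left.mpr hk)

/-- A Koszul-regular ideal of the quotient by a Koszul-regular ideal lifts to one. -/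
theorem isKoszulRegularIdeal_comap_of_ker (hker : LCI.IsKoszulRegularIdeal (RingHom.ker π))
    {J : Ideal S} (h : LCI.IsKoszulRegularIdeal J) : LCI.IsKoszulRegularIdeal (J.comap π) := by
  classical
  have hle : RingHom.ker π ≤ J.comap π := fun x hx => Ideal.mem_comap.mpr (RingHom.mem_ker.mp hx ▸ J.zero_mem)
  have hfg : (J.comap π).FG := by
    obtain ⟨s, rfl⟩ := fg_of_isKoszulRegularIdeal h
    obtain ⟨t, ht⟩ := fg_of_isKoszulRegularIdeal hker
    choose σ hσ using hπ
    refine ⟨s.image σ ∪ t, ?_⟩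
    rw [Finset.coe_union]
    refine (Submodule.span_union _ _).trans ?_
    rw [show Submodule.span R (↑t : Set R) = RingHom.ker π from ht, Finset.coe_image]
    have h1 : Ideal.span (s : Set S) = (Ideal.span (σ '' ↑s)).map π := by
      rw [Ideal.map_span, ← Set.image_comp, show (⇑π ∘ σ) = id from funext hσ, Set.image_id]
    rw [h1, Ideal.comap_map_of_surjective π (fun y => ⟨σ y, hσ y⟩), ← RingHom.ker_eq_comap_bot]
  refine isKoszulRegularIdeal_of_locReg hfg fun q _ hq => ?_
  have hkq : RingHom.ker π ≤ q := hle.trans hq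
  have hq' : (q.map π).comap π = q := (Ideal.comap_map_of_surjective π hπ q).trans (sup_eq_left.mpr hkq)
  have : (q.map π).IsPrime := Ideal.map_isPrime_of_surjective hπ hkq
  obtain ⟨g₁, hg₁, r, hr⟩ := locReg_of_isKoszulRegularIdeal hker q hkq
  obtain ⟨g₂, hg₂, s, hs⟩ := locReg_of_isKoszulRegularIdeal h (q.map π)
    ((Ideal.map_comap_of_surjective π hπ J).symm.le.trans (Ideal.map_mono hq))
  obtain ⟨g₀, rfl⟩ := hπ g₂
  have hg₀ : g₀ ∉ q := fun hc => hg₂ (Ideal.mem_map_of_mem π hc)
  refine ⟨g₁ * g₀, fun h => (Ideal.IsPrime.mem_or_mem ‹_› h).elim hg₁ hg₀, r + s, fun q₁ _ hq₁ hg => ?_⟩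
  have hkq₁ : RingHom.ker π ≤ q₁ := hle.trans hq₁
  obtain ⟨q', _, rfl⟩ : ∃ q' : Ideal S, q'.IsPrime ∧ q'.comap π = q₁ :=
    ⟨q₁.map π, Ideal.map_isPrime_of_surjective hπ hkq₁,
      (Ideal.comap_map_of_surjective π hπ q₁).trans (sup_eq_left.mpr hkq₁)⟩
  exact locReg_append π hπ J q' (hr _ fun hc => hg (Ideal.mul_mem_right _ _ hc))
    (hs q' fun hc => hg (Ideal.mul_mem_left _ _ hc))

end Append

/-- A presentation in two steps is a presentation. -/
theorem isKoszulRegularIdeal_ker_twoStep [Algebra A C] {n m k : ℕ}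
    (γ : MvPolynomial (Fin m) (MvPolynomial (Fin n) A) →ₐ[A] C) (hγ : Function.Surjective γ)
    (β : MvPolynomial (Fin k) A →ₐ[A] C) (hβ : Function.Surjective β)
    (h : LCI.IsKoszulRegularIdeal (RingHom.ker β.toRingHom)) :
    LCI.IsKoszulRegularIdeal (RingHom.ker γ.toRingHom) := by
  let E := (MvPolynomial.renameEquiv A (finSumFinEquiv (m := m) (n := n)).symm).trans
    (MvPolynomial.sumAlgEquiv A (Fin m) (Fin n))
  have h' := isKoszulRegularIdeal_ker_of_presentation β hβ (γ.comp E.toAlgHom)
    (hγ.comp E.surjective) h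
  rw [← isKoszulRegularIdeal_comap_ringEquiv_iff E.toRingEquiv, RingHom.comap_ker]
  exact h'

/-- Composition of local complete intersection ring maps. -/
theorem isLCI_trans [Algebra A B] [Algebra B C] [Algebra A C] [IsScalarTower A B C]
    (h₁ : LCI.IsLCI A B) (h₂ : LCI.IsLCI B C) : LCI.IsLCI A C := by
  obtain ⟨hft₁, n, α, hα, hI⟩ := h₁
  obtain ⟨hft₂, m, β, hβ, hJ⟩ := h₂
  refine ⟨hft₁.trans hft₂, ?_⟩
  let P := MvPolynomial (Fin n) A
  let π : MvPolynomial (Fin m) P →+* MvPolynomial (Fin m) B := MvPolynomial.map α.toRingHom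
  have hπ : Function.Surjective π := MvPolynomial.map_surjective _ hα
  have hkerπ : LCI.IsKoszulRegularIdeal (RingHom.ker π) := by
    rw [MvPolynomial.ker_map]
    exact isKoszulRegularIdeal_map (B := MvPolynomial (Fin m) P) hI
  let γ : MvPolynomial (Fin m) P →ₐ[A] C := (β.restrictScalars A).comp (MvPolynomial.mapAlgHom α)
  have hγ : γ.toRingHom = β.toRingHom.comp π := rfl
  let E := (MvPolynomial.renameEquiv A (finSumFinEquiv (m := m) (n := n)).symm).trans
    (MvPolynomial.sumAlgEquiv A (Fin m) (Fin n))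
  refine ⟨m + n, γ.comp E.toAlgHom, (hβ.comp hπ).comp E.surjective, ?_⟩
  have : LCI.IsKoszulRegularIdeal (RingHom.ker γ.toRingHom) := by
    rw [hγ, ← RingHom.comap_ker]
    exact isKoszulRegularIdeal_comap_of_ker π hπ hkerπ hJ
  rw [← isKoszulRegularIdeal_comap_ringEquiv_iff E.toRingEquiv, RingHom.comap_ker] at this
  exact this

section Local

attribute [local instance] MvPolynomial.algebraMvPolynomial

/-- The ideal of a presentation localized at a lift of `g`. -/
theorem isKoszulRegularIdeal_map_away [Algebra A S] {n : ℕ} (α : MvPolynomial (Fin n) A →ₐ[A] S)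
    (hα : Function.Surjective α) (G : MvPolynomial (Fin n) A)
    (h : LCI.IsLCI A (Localization.Away (α G))) :
    LCI.IsKoszulRegularIdeal ((RingHom.ker α.toRingHom).map
      (algebraMap (MvPolynomial (Fin n) A) (Localization.Away G))) := by
  obtain ⟨-, k, β, hβ, hk⟩ := h
  let P := MvPolynomial (Fin n) A
  let Sg := Localization.Away (α G)
  let g := α G
  have hg : IsUnit ((algebraMap S Sg).comp α.toRingHom G) := IsLocalization.Away.algebraMap_isUnit g
  let ψ : Localization.Away G →+* Sg := IsLocalization.Away.lift G hg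
  have hψmap : ψ.comp (algebraMap P (Localization.Away G)) = (algebraMap S Sg).comp α.toRingHom :=
    IsLocalization.Away.lift_comp G hg
  have hψ : Function.Surjective ψ := by
    intro z
    obtain ⟨a, ⟨_, j, rfl⟩, rfl⟩ := IsLocalization.exists_mk'_eq (Submonoid.powers g) z
    obtain ⟨a, rfl⟩ := hα a
    refine ⟨IsLocalization.mk' _ a (⟨G ^ j, j, rfl⟩ : Submonoid.powers G), ?_⟩
    rw [IsLocalization.eq_mk'_iff_mul_eq]
    show ψ _ * algebraMap S Sg (g ^ j) = algebraMap S Sg (α a)
    rw [map_pow, show algebraMap S Sg g = ψ (algebraMap P _ G) from (RingHom.congr_fun hψmap G).symm,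
      ← map_pow, ← map_pow, ← map_mul, IsLocalization.mk'_spec]
    exact RingHom.congr_fun hψmap a
  have hkerψ : RingHom.ker ψ = (RingHom.ker α.toRingHom).map (algebraMap P (Localization.Away G)) := by
    refine le_antisymm (fun x hx => ?_) ?_
    · obtain ⟨a, ⟨_, j, rfl⟩, rfl⟩ := IsLocalization.exists_mk'_eq (Submonoid.powers G) x
      have h0 : algebraMap S Sg (α a) = 0 := by
        rw [show algebraMap S Sg (α a) = ψ (algebraMap P _ a) from (RingHom.congr_fun hψmap a).symm,
          ← IsLocalization.mk'_spec (Localization.Away G) a (⟨G ^ j, j, rfl⟩ : Submonoid.powers G),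
          map_mul, RingHom.mem_ker.mp hx, zero_mul]
      obtain ⟨⟨_, l, rfl⟩, hl⟩ := (IsLocalization.map_eq_zero_iff (Submonoid.powers g) Sg _).mp h0
      have hmem : G ^ l * a ∈ RingHom.ker α.toRingHom := by
        rw [RingHom.mem_ker]
        show α (G ^ l * a) = 0
        rw [map_mul, map_pow]
        exact hl
      have h1 := Ideal.mem_map_of_mem (algebraMap P (Localization.Away G)) hmem
      rw [map_mul, Ideal.unit_mul_mem_iff_mem _
        (IsLocalization.map_units _ (⟨G ^ l, l, rfl⟩ : Submonoid.powers G))] at h1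
      rw [IsLocalization.mk'_eq_mul_mk'_one]
      exact Ideal.mul_mem_right _ _ h1
    · rw [Ideal.map_le_iff_le_comap, RingHom.comap_ker, hψmap]
      exact fun x hx => by simp [show α x = 0 from RingHom.mem_ker.mp hx]
  rw [← hkerψ]
  let u : Fin 1 → Sg := fun _ => IsLocalization.Away.invSelf (S := Sg) g
  rw [← isKoszulRegularIdeal_ker_eval₂Hom_iff 1 _ ψ hψ u]
  -- the presentation in two steps
  let θ₀ : P →ₐ[A] Sg := (IsScalarTower.toAlgHom A S Sg).comp α
  let γ : MvPolynomial (Fin 1) P →ₐ[A] Sg :=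
    { MvPolynomial.eval₂Hom θ₀.toRingHom u with
      commutes' := fun a => by
        show MvPolynomial.eval₂Hom θ₀.toRingHom u (MvPolynomial.C (algebraMap A P a)) = _
        rw [MvPolynomial.eval₂Hom_C]
        exact θ₀.commutes a }
  have hγ : Function.Surjective γ := by
    intro z
    obtain ⟨a, ⟨_, j, rfl⟩, rfl⟩ := IsLocalization.exists_mk'_eq (Submonoid.powers g) z
    obtain ⟨a, rfl⟩ := hα a
    refine ⟨MvPolynomial.C a * MvPolynomial.X 0 ^ j, ?_⟩
    rw [IsLocalization.eq_mk'_iff_mul_eq]
    show MvPolynomial.eval₂Hom θ₀.toRingHom u _ * _ = _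
    rw [map_mul, map_pow, MvPolynomial.eval₂Hom_C, MvPolynomial.eval₂Hom_X', mul_assoc]
    show algebraMap S Sg (α a) * (IsLocalization.Away.invSelf (S := Sg) g ^ j * algebraMap S Sg (g ^ j)) = _
    rw [map_pow, ← mul_pow, mul_comm (IsLocalization.Away.invSelf (S := Sg) g),
      IsLocalization.Away.mul_invSelf, one_pow, mul_one]
  have hJ := isKoszulRegularIdeal_ker_twoStep γ hγ β hβ hk
  have hloc : IsLocalization ((Submonoid.powers G).map (MvPolynomial.C (σ := Fin 1)))
      (MvPolynomial (Fin 1) (Localization.Away G)) := MvPolynomial.isLocalization _ _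
  have : Module.Flat (MvPolynomial (Fin 1) P) (MvPolynomial (Fin 1) (Localization.Away G)) :=
    IsLocalization.flat _ ((Submonoid.powers G).map (MvPolynomial.C (σ := Fin 1)))
  have hJ' := isKoszulRegularIdeal_map (B := MvPolynomial (Fin 1) (Localization.Away G)) hJ
  have heval : (MvPolynomial.eval₂Hom ψ u).comp
      (algebraMap (MvPolynomial (Fin 1) P) (MvPolynomial (Fin 1) (Localization.Away G))) = γ.toRingHom := by
    refine MvPolynomial.ringHom_ext (fun a => ?_) fun i => ?_
    · show MvPolynomial.eval₂Hom ψ u (MvPolynomial.map (algebraMap P (Localization.Away G)) (MvPolynomial.C a)) =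
        MvPolynomial.eval₂Hom θ₀.toRingHom u (MvPolynomial.C a)
      rw [MvPolynomial.map_C, MvPolynomial.eval₂Hom_C, MvPolynomial.eval₂Hom_C]
      exact RingHom.congr_fun hψmap a
    · show MvPolynomial.eval₂Hom ψ u (MvPolynomial.map (algebraMap P (Localization.Away G)) (MvPolynomial.X i)) =
        MvPolynomial.eval₂Hom θ₀.toRingHom u (MvPolynomial.X i)
      rw [MvPolynomial.map_X, MvPolynomial.eval₂Hom_X', MvPolynomial.eval₂Hom_X']
  refine (show (RingHom.ker γ.toRingHom).map (algebraMap (MvPolynomial (Fin 1) P)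
    (MvPolynomial (Fin 1) (Localization.Away G))) = RingHom.ker (MvPolynomial.eval₂Hom ψ u) from
      le_antisymm ?_ ?_) ▸ hJ'
  · rw [Ideal.map_le_iff_le_comap, RingHom.comap_ker, heval]
  · intro x hx
    obtain ⟨⟨y, ⟨_, c, hc, rfl⟩⟩, hy⟩ :=
      IsLocalization.surj ((Submonoid.powers G).map (MvPolynomial.C (σ := Fin 1))) x
    have hunit := IsLocalization.map_units (MvPolynomial (Fin 1) (Localization.Away G))
      (⟨_, c, hc, rfl⟩ : (Submonoid.powers G).map (MvPolynomial.C (σ := Fin 1)))
    refine (Ideal.mul_unit_mem_iff_mem _ hunit).mp ?_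
    rw [hy]
    refine Ideal.mem_map_of_mem _ (RingHom.mem_ker.mpr ?_)
    rw [← heval, RingHom.comp_apply, ← hy, map_mul, RingHom.mem_ker.mp hx, zero_mul]

/-- Being a local complete intersection is local on the target ring. -/
theorem isLCI_of_span_eq_top [Algebra A S] (t : Set S) (ht : Ideal.span t = ⊤)
    (h : ∀ g ∈ t, LCI.IsLCI A (Localization.Away g)) : LCI.IsLCI A S := by
  have hft : Algebra.FiniteType A S :=
    Algebra.FiniteType.of_span_eq_top_target t ht fun g hg => (h g hg).1
  obtain ⟨n, α, hα⟩ := Algebra.FiniteType.iff_quotient_mvPolynomial''.mp hft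
  refine ⟨hft, n, α, hα, isKoszulRegularIdeal_of_cover fun p _ => ?_⟩
  by_cases hp : RingHom.ker α.toRingHom ≤ p
  · have : (p.map α.toRingHom).IsPrime := Ideal.map_isPrime_of_surjective hα hp
    obtain ⟨g, hgt, hg⟩ : ∃ g ∈ t, g ∉ p.map α.toRingHom := by
      by_contra! hc
      exact this.ne_top (top_unique (ht ▸ Ideal.span_le.mpr hc))
    obtain ⟨G, rfl⟩ := hα g
    exact ⟨G, fun hc => hg (Ideal.mem_map_of_mem _ hc), Localization.Away G, inferInstance, inferInstance,
      inferInstance, isKoszulRegularIdeal_map_away α hα G (h _ hgt)⟩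
  · obtain ⟨g, hgI, hg⟩ := SetLike.not_le_iff_exists.mp hp
    refine ⟨g, hg, Localization.Away g, inferInstance, inferInstance, inferInstance, ?_⟩
    rw [Ideal.eq_top_of_isUnit_mem _ (Ideal.mem_map_of_mem _ hgI)
      (IsLocalization.Away.algebraMap_isUnit g)]
    exact fun q hq => absurd (top_unique hq) q.isPrime.ne_top

end Local

end Groth.KoszulLCI

namespace Groth.KoszulLCI

theorem isLCI_of_algEquiv {A B B' : Type u} [CommRing A] [CommRing B] [CommRing B'] [Algebra A B]
    [Algebra A B'] (e : B ≃ₐ[A] B') (h : LCI.IsLCI A B) : LCI.IsLCI A B' := by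
  obtain ⟨hft, n, α, hα, hI⟩ := h
  refine ⟨hft.equiv e, n, e.toAlgHom.comp α, e.surjective.comp hα, ?_⟩
  have : RingHom.ker (e.toAlgHom.comp α).toRingHom = RingHom.ker α.toRingHom :=
    Ideal.ext fun x => by simp [RingHom.mem_ker]
  rwa [this]

/-- Locality, for any models of the localizations. -/
theorem isLCI_of_cover {A S : Type u} [CommRing A] [CommRing S] [Algebra A S]
    (h : ∀ q : Ideal S, q.IsPrime → ∃ g ∉ q, ∃ (T : Type u) (_ : CommRing T) (_ : Algebra S T)
      (_ : IsLocalization.Away g T) (_ : Algebra A T) (_ : IsScalarTower A S T), LCI.IsLCI A T) :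
    LCI.IsLCI A S := by
  refine isLCI_of_span_eq_top {g | LCI.IsLCI A (Localization.Away g)} ?_ fun g hg => hg
  by_contra hne
  obtain ⟨m, hm, hle⟩ := Ideal.exists_le_maximal _ hne
  obtain ⟨g, hg, T, _, _, _, _, _, hT⟩ := h m inferInstance
  exact hg (hle (Ideal.subset_span (isLCI_of_algEquiv
    ((IsLocalization.algEquiv (Submonoid.powers g) T (Localization.Away g)).restrictScalars A) hT)))

end Groth.KoszulLCI
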