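import Groth.Agent.KoszulLCI.Pres
import Mathlib.RingTheory.Extension.Presentation.Basic
import Mathlib.RingTheory.Finiteness.Descent
import Mathlib.RingTheory.LocalProperties.Basic
import Mathlib.RingTheory.TensorProduct.MvPolynomial

/-!
# Flat base change and descent of local complete intersection ring maps
-/

set_option autoImplicit false

universe u

open MvPolynomial TensorProduct

namespace Groth.KoszulLCI

attribute [local instance] MvPolynomial.algebraMvPolynomial

variable {A A' B B' : Type u} [CommRing A] [CommRing A'] [CommRing B] [CommRing B'] [Algebra A A']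
  [Algebra A B] [Algebra A B'] [Algebra A' B'] [Algebra B B'] [IsScalarTower A A' B']
  [IsScalarTower A B B'] [Algebra.IsPushout A A' B B']

/-- The base change of a presentation. -/
noncomputable def bcPres {n : ℕ} (α : MvPolynomial (Fin n) A →ₐ[A] B) :
    MvPolynomial (Fin n) A' →ₐ[A'] B' :=
  MvPolynomial.aeval fun i => algebraMap B B' (α (MvPolynomial.X i))

theorem bcPres_comp {n : ℕ} (α : MvPolynomial (Fin n) A →ₐ[A] B) :
    ((bcPres (A' := A') (B' := B') α).toRingHom.comp
      (algebraMap (MvPolynomial (Fin n) A) (MvPolynomial (Fin n) A'))) =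
      (algebraMap B B').comp α.toRingHom := by
  refine MvPolynomial.ringHom_ext (fun a => ?_) fun i => ?_
  · simp [bcPres, ← IsScalarTower.algebraMap_apply]
  · simp [bcPres]

theorem bcPres_surjective {n : ℕ} (α : MvPolynomial (Fin n) A →ₐ[A] B) (hα : Function.Surjective α) :
    Function.Surjective (bcPres (A' := A') (B' := B') α) := by
  intro y
  refine IsBaseChange.inductionOn (Algebra.IsPushout.out (R := A) (S := A') (R' := B) (S' := B')) y
    (fun z => ∃ p, bcPres (A' := A') (B' := B') α p = z) ⟨0, map_zero _⟩ ?_ ?_ ?_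
  · intro b
    obtain ⟨p, rfl⟩ := hα b
    exact ⟨algebraMap _ _ p, RingHom.congr_fun (bcPres_comp α) p⟩
  · rintro r z ⟨p, rfl⟩
    exact ⟨r • p, map_smul _ _ _⟩
  · rintro z w ⟨p, rfl⟩ ⟨q, rfl⟩
    exact ⟨p + q, map_add _ _ _⟩

theorem ker_bcPres {n : ℕ} (α : MvPolynomial (Fin n) A →ₐ[A] B) (hα : Function.Surjective α) :
    RingHom.ker (bcPres (A' := A') (B' := B') α).toRingHom =
      (RingHom.ker α.toRingHom).map (algebraMap (MvPolynomial (Fin n) A) (MvPolynomial (Fin n) A')) := by
  let J := (RingHom.ker α.toRingHom).map (algebraMap (MvPolynomial (Fin n) A) (MvPolynomial (Fin n) A'))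
  let e := Ideal.quotientKerAlgEquivOfSurjective hα
  let q : MvPolynomial (Fin n) A →ₐ[A] MvPolynomial (Fin n) A' ⧸ J :=
    ((Ideal.Quotient.mkₐ A' J).restrictScalars A).comp (IsScalarTower.toAlgHom A _ _)
  let f : B →ₐ[A] MvPolynomial (Fin n) A' ⧸ J :=
    (Ideal.Quotient.liftₐ (RingHom.ker α.toRingHom) q fun x hx =>
      Ideal.Quotient.eq_zero_iff_mem.mpr (Ideal.mem_map_of_mem _ hx)).comp e.symm.toAlgHom
  let g : A' →ₐ[A] MvPolynomial (Fin n) A' ⧸ J := IsScalarTower.toAlgHom A A' _
  let inv := Algebra.pushoutDesc (R := A) (S := A') (R' := B) B' g f fun _ _ => Commute.all _ _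
  have hf : ∀ p, f (α p) = q p := fun p => by
    have h1 : e.symm (α p) = Ideal.Quotient.mk _ p := e.symm_apply_eq.mpr rfl
    exact (congrArg (Ideal.Quotient.liftₐ (RingHom.ker α.toRingHom) q fun x hx =>
      Ideal.Quotient.eq_zero_iff_mem.mpr (Ideal.mem_map_of_mem _ hx)) h1).trans rfl
  have hinv : inv.toRingHom.comp (bcPres (A' := A') (B' := B') α).toRingHom = Ideal.Quotient.mk J := by
    refine MvPolynomial.ringHom_ext (fun a => ?_) fun i => ?_
    · show inv (bcPres α (MvPolynomial.C a)) = Ideal.Quotient.mk J (MvPolynomial.C a)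
      rw [show bcPres (B' := B') α (MvPolynomial.C a) = algebraMap A' B' a from MvPolynomial.aeval_C _ a]
      exact (Algebra.pushoutDesc_left (R := A) (S := A') (R' := B) B' g f _ a).trans rfl
    · show inv (bcPres α (MvPolynomial.X i)) = Ideal.Quotient.mk J (MvPolynomial.X i)
      rw [show bcPres (B' := B') α (MvPolynomial.X i) = algebraMap B B' (α (MvPolynomial.X i)) from
        MvPolynomial.aeval_X _ i]
      exact ((Algebra.pushoutDesc_right (R := A) (S := A') (R' := B) B' g f _ _).trans (hf _)).trans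
        (congrArg (Ideal.Quotient.mk J) (MvPolynomial.map_X _ i))
  refine le_antisymm (fun x hx => ?_) ?_
  · rw [← Ideal.Quotient.eq_zero_iff_mem, ← hinv, RingHom.comp_apply, RingHom.mem_ker.mp hx, map_zero]
  · rw [Ideal.map_le_iff_le_comap, RingHom.comap_ker, bcPres_comp]
    intro x hx
    simp [show α x = 0 from RingHom.mem_ker.mp hx]

include A in
theorem isLCI_baseChange [Module.Flat A A'] (h : LCI.IsLCI A B) : LCI.IsLCI A' B' := by
  obtain ⟨-, n, α, hα, hI⟩ := h
  have hs := bcPres_surjective (A' := A') (B' := B') α hα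
  refine ⟨Algebra.FiniteType.of_surjective (bcPres (A' := A') (B' := B') α) hs, n, _, hs, ?_⟩
  rw [ker_bcPres α hα]
  have : Module.Flat (MvPolynomial (Fin n) A) (MvPolynomial (Fin n) A') :=
    Module.Flat.of_linearEquiv (Algebra.IsPushout.equiv A (MvPolynomial (Fin n) A) A' (MvPolynomial (Fin n) A')).toLinearEquiv.symm
  exact isKoszulRegularIdeal_map hI

include A' B' in
theorem isLCI_of_baseChange [Module.FaithfullyFlat A A'] (hft : Algebra.FiniteType A B)
    (h : LCI.IsLCI A' B') : LCI.IsLCI A B := by
  obtain ⟨-, m, β, hβ, hJ⟩ := h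
  obtain ⟨n, α, hα⟩ := Algebra.FiniteType.iff_quotient_mvPolynomial''.mp hft
  refine ⟨hft, n, α, hα, ?_⟩
  have : Module.FaithfullyFlat (MvPolynomial (Fin n) A) (MvPolynomial (Fin n) A') :=
    Module.FaithfullyFlat.of_linearEquiv _ _
      (Algebra.IsPushout.equiv A (MvPolynomial (Fin n) A) A' (MvPolynomial (Fin n) A')).toLinearEquiv.symm
  refine isKoszulRegularIdeal_of_faithfullyFlat (B := MvPolynomial (Fin n) A') ?_
  rw [← ker_bcPres (B' := B') α hα]
  exact isKoszulRegularIdeal_ker_of_presentation β hβ _ (bcPres_surjective α hα) hJ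

theorem isKoszulRegularIdeal_span_singleton {R : Type u} [CommRing R] {t : R}
    (ht : t ∈ nonZeroDivisors R) : LCI.IsKoszulRegularIdeal (Ideal.span {t}) := by
  have hbot : LCI.IsKoszulRegularIdeal (⊥ : Ideal (R ⧸ Ideal.span {t})) := by
    refine isKoszulRegularIdeal_of_away fun p hp _ => ⟨1, hp.one_notMem,
      Localization.Away (1 : R ⧸ Ideal.span {t}), inferInstance, inferInstance, inferInstance, 0, [], rfl, ?_, ?_⟩
    · intro i hi
      exact HomologicalComplex.isZero_single_obj_homology _ _ _ _ hi
    · simp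
  have := isKoszulRegularIdeal_comap (Ideal.Quotient.mk (Ideal.span {t})) Ideal.Quotient.mk_surjective
    Ideal.mk_ker ht hbot
  rwa [← RingHom.ker_eq_comap_bot, Ideal.mk_ker] at this

/-- Localization at an element is a local complete intersection. -/
theorem isLCI_away {R S : Type u} [CommRing R] [CommRing S] [Algebra R S] (r : R)
    [IsLocalization.Away r S] : LCI.IsLCI R S := by
  let G := Algebra.Generators.localizationAway S r
  let e := MvPolynomial.renameEquiv R (Equiv.ofUnique (Fin 1) Unit)
  let α : MvPolynomial (Fin 1) R →ₐ[R] S := (MvPolynomial.aeval G.val).comp e.toAlgHom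
  have hα : Function.Surjective α :=
    (Function.HasRightInverse.surjective ⟨G.σ, G.aeval_val_σ⟩).comp e.surjective
  refine ⟨Algebra.FiniteType.of_surjective α hα, 1, α, hα, ?_⟩
  have hk : RingHom.ker α.toRingHom =
      (Ideal.span {MvPolynomial.C r * MvPolynomial.X () - 1}).comap e.toRingEquiv.toRingHom := by
    rw [← Algebra.Generators.ker_localizationAway (S := S) r,
      show α.toRingHom = (MvPolynomial.aeval G.val).toRingHom.comp e.toRingEquiv.toRingHom from rfl,
      ← RingHom.comap_ker, Algebra.Generators.ker_eq_ker_aeval_val]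
    rfl
  rw [hk, isKoszulRegularIdeal_comap_ringEquiv_iff]
  refine isKoszulRegularIdeal_span_singleton ?_
  rw [mem_nonZeroDivisors_iff_right]
  intro p hp
  let P := MvPolynomial.pUnitAlgEquiv R
  apply P.injective
  rw [map_zero]
  have h0 : P p * (Polynomial.C r * Polynomial.X - 1) = 0 := by
    have := congrArg P hp
    simpa [P] using this
  rw [mul_sub, mul_one, sub_eq_zero] at h0
  ext j
  induction j with
  | zero => rw [← h0, mul_left_comm, ← mul_assoc, Polynomial.coeff_mul_X_zero, Polynomial.coeff_zero]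
  | succ j ih =>
    rw [← h0, ← mul_assoc, Polynomial.coeff_mul_X, Polynomial.coeff_mul_C, ih, Polynomial.coeff_zero,
      zero_mul, Polynomial.coeff_zero]

end Groth.KoszulLCI
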