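import Groth.Agent.KoszulLCI.Local
import Mathlib.RingTheory.RingHom.Flat
import Mathlib.RingTheory.Localization.Finiteness
import Mathlib.RingTheory.Flat.FaithfullyFlat.Algebra

/-!
# Koszul-regular ideals

`LCI.IsKoszulRegularIdeal I` in terms of local rings, and faithfully flat descent.
-/

set_option autoImplicit false

universe u

open IsLocalRing

namespace Groth.KoszulLCI

variable {A B R S : Type u} [CommRing A] [CommRing B] [CommRing R] [CommRing S]

/-- `J` is generated by a Koszul-regular sequence of length `r`. -/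
def GenReg (J : Ideal R) (r : ℕ) : Prop :=
  ∃ l : List R, l.length = r ∧ LCI.IsKoszulRegularSeq R l ∧ Ideal.ofList l = J

theorem GenReg.map {J : Ideal R} {r : ℕ} (h : GenReg J r) (θ : R →+* S) (hθ : θ.Flat) :
    GenReg (J.map θ) r := by
  obtain ⟨l, hl, hreg, rfl⟩ := h
  exact ⟨l.map θ, by simpa using hl, Groth.KoszulReg.isKoszulRegularSeq_map θ hθ l hreg,
    (Ideal.map_ofList θ l).symm⟩

theorem GenReg.unique {J : Ideal R} {r s : ℕ} (h : GenReg J r) (h' : GenReg J s) (hJ : J ≠ ⊤) :
    r = s := by
  obtain ⟨l, rfl, hl, rfl⟩ := h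
  obtain ⟨l', rfl, hl', hll'⟩ := h'
  exact le_antisymm (length_le_of_regular hl hJ hll')
    (length_le_of_regular hl' (hll' ▸ hJ) hll'.symm)

theorem exists_irredundant (n : ℕ) : ∀ f : List R, f.length ≤ n →
    ∃ f' : List R, f'.length ≤ f.length ∧ Ideal.ofList f' = Ideal.ofList f ∧
      ¬ ∃ (a : R) (rest : List R), f'.Perm (a :: rest) ∧ Ideal.ofList rest = Ideal.ofList f' := by
  induction n with
  | zero =>
    intro f hf
    refine ⟨f, le_rfl, rfl, ?_⟩
    rintro ⟨a, rest, hp, -⟩
    have := hp.length_eq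
    simp at this
    omega
  | succ n ih =>
    intro f hf
    by_cases h : ∃ (a : R) (rest : List R), f.Perm (a :: rest) ∧ Ideal.ofList rest = Ideal.ofList f
    · obtain ⟨a, rest, hp, hrest⟩ := h
      have hl : f.length = rest.length + 1 := by simpa using hp.length_eq
      obtain ⟨f', h1, h2, h3⟩ := ih rest (by omega)
      exact ⟨f', by omega, h2.trans hrest, h3⟩
    · exact ⟨f, le_rfl, rfl, h⟩

/-- Descent of a regular generating sequence along a faithfully flat map of local rings. -/
theorem GenReg.descend [Algebra R S] [IsLocalRing S] [Module.FaithfullyFlat R S] {J : Ideal R}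
    (hJ : J.FG) {r : ℕ} (h : GenReg (J.map (algebraMap R S)) r)
    (hne : J.map (algebraMap R S) ≠ ⊤) : GenReg J r := by
  obtain ⟨s, hs⟩ := hJ
  obtain ⟨f, -, hfJ, hirr⟩ := exists_irredundant _ s.toList le_rfl
  have hfJ' : Ideal.ofList f = J := by
    rw [hfJ, ← hs]
    exact congrArg Ideal.span (Set.ext fun x => Finset.mem_toList)
  obtain ⟨l, hl, hreg, hlJ⟩ := h
  have hmap : Ideal.ofList (f.map (algebraMap R S)) = Ideal.ofList l := by
    rw [← Ideal.map_ofList, hfJ', hlJ]
  obtain ⟨hle, hreg', hred⟩ := exchange _ l [] (f.map (algebraMap R S)) rfl hreg (by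
    simpa [hlJ] using hne) hmap
  have hlen : (f.map (algebraMap R S)).length = l.length := by
    by_contra hne'
    obtain ⟨a, rest, hperm, hrest⟩ := hred (by omega)
    rw [List.nil_append] at hperm hrest
    -- lift the redundant element
    obtain ⟨i, hi, rfl⟩ : ∃ (i : ℕ) (hi : i < f.length), algebraMap R S f[i] = a := by
      have : a ∈ f.map (algebraMap R S) := hperm.mem_iff.mpr (List.mem_cons_self ..)
      obtain ⟨b, hb, rfl⟩ := List.mem_map.mp this
      obtain ⟨i, hi, rfl⟩ := List.mem_iff_getElem.mp hb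
      exact ⟨i, hi, rfl⟩
    have hp' : (f[i] :: f.eraseIdx i).Perm f := List.getElem_cons_eraseIdx_perm hi
    have hrest' : rest.Perm ((f.eraseIdx i).map (algebraMap R S)) :=
      (List.perm_cons _).mp (hperm.symm.trans (hp'.symm.map _))
    refine hirr ⟨f[i], f.eraseIdx i, hp'.symm,
      Ideal.map_injective_of_faithfullyFlat (A := R) (B := S) ?_⟩
    rw [Ideal.map_ofList, ← ofList_eq_of_perm hrest', hrest, Ideal.map_ofList, hmap]
  refine ⟨f, ?_, isKoszulRegularSeq_of_faithfullyFlat (B := S) f ?_, hfJ'⟩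
  · rw [← hl, ← hlen, List.length_map]
  · exact isKoszulRegularSeq_of_ofList_eq hreg hmap hlen

/-- A localization map between localizations is flat. -/
theorem flat_of_isLocalization [Algebra A R] [Algebra A S] (M : Submonoid A) [IsLocalization M R]
    [Module.Flat A S] (θ : R →+* S) (hθ : θ.comp (algebraMap A R) = algebraMap A S) : θ.Flat := by
  let _ := θ.toAlgebra
  have : IsScalarTower A R S := .of_algebraMap_eq' hθ.symm
  exact (Module.flat_iff_of_isLocalization R M S).mpr inferInstance

/-- Local Koszul regularity. -/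
abbrev LocReg (I : Ideal A) (p : Ideal A) [p.IsPrime] (r : ℕ) : Prop :=
  GenReg (I.map (algebraMap A (Localization.AtPrime p))) r

theorem map_atPrime_ne_top {I : Ideal A} {p : Ideal A} [p.IsPrime] (h : I ≤ p) :
    I.map (algebraMap A (Localization.AtPrime p)) ≠ ⊤ :=
  ne_top_of_le_ne_top (IsLocalRing.maximalIdeal.isMaximal _).ne_top
    ((Ideal.map_mono h).trans (Localization.AtPrime.map_eq_maximalIdeal).le)

/-- A regular generating sequence on `D(g)` gives one at every prime of `D(g)`. -/
theorem locReg_of_away {I : Ideal A} {g : A} [Algebra A R] [IsLocalization.Away g R] {r : ℕ}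
    (h : GenReg (I.map (algebraMap A R)) r) (p : Ideal A) [p.IsPrime] (hg : g ∉ p) :
    LocReg I p r := by
  let θ : R →+* Localization.AtPrime p := IsLocalization.Away.lift g
    (IsLocalization.map_units (Localization.AtPrime p) (⟨g, hg⟩ : p.primeCompl))
  have hθ : θ.comp (algebraMap A R) = algebraMap A _ := IsLocalization.Away.lift_comp g _
  have := h.map θ (flat_of_isLocalization (Submonoid.powers g) θ hθ)
  rwa [Ideal.map_map, hθ] at this

theorem isKoszulRegularIdeal_of_away {I : Ideal A}
    (h : ∀ p : Ideal A, p.IsPrime → I ≤ p → ∃ g ∉ p, ∃ (R : Type u) (_ : CommRing R) (_ : Algebra A R)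
      (_ : IsLocalization.Away g R) (r : ℕ), GenReg (I.map (algebraMap A R)) r) :
    LCI.IsKoszulRegularIdeal I := by
  intro p hp
  obtain ⟨g, hg, R, _, _, _, r, hr⟩ := h p.asIdeal p.isPrime hp
  let e := IsLocalization.algEquiv (Submonoid.powers g) R (Localization.Away g)
  have hflat : e.toAlgHom.toRingHom.Flat :=
    RingHom.Flat.of_bijective e.bijective
  obtain ⟨l, -, hl, hlI⟩ := hr.map e.toAlgHom.toRingHom hflat
  refine ⟨g, hg, l, hl, ?_⟩
  have he : e.toAlgHom.toRingHom.comp (algebraMap A R) = algebraMap A _ :=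
    RingHom.ext fun a => e.commutes a
  refine (hlI.trans ?_).symm
  rw [Ideal.map_map, he]

theorem exists_locReg {I : Ideal A} (h : LCI.IsKoszulRegularIdeal I) (p : Ideal A) [p.IsPrime]
    (hp : I ≤ p) : ∃ g ∉ p, ∃ r, GenReg (I.map (algebraMap A (Localization.Away g))) r := by
  obtain ⟨g, hg, l, hl, hlI⟩ := h ⟨p, inferInstance⟩ hp
  exact ⟨g, hg, l.length, l, rfl, hl, hlI.symm⟩

theorem fg_of_isKoszulRegularIdeal {I : Ideal A} (h : LCI.IsKoszulRegularIdeal I) : I.FG := by
  let t : Set A := {g | (I.map (algebraMap A (Localization.Away g))).FG}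
  have ht : Ideal.span t = ⊤ := by
    by_contra hne
    obtain ⟨m, hm, hle⟩ := Ideal.exists_le_maximal _ hne
    by_cases hIm : I ≤ m
    · obtain ⟨g, hg, r, l, -, -, hl⟩ := exists_locReg h m hIm
      exact hg (hle (Ideal.subset_span (show (I.map (algebraMap A (Localization.Away g))).FG from hl ▸ fg_ofList l)))
    · obtain ⟨g, hgI, hg⟩ := SetLike.not_le_iff_exists.mp hIm
      refine hg (hle (Ideal.subset_span ?_))
      show (I.map (algebraMap A (Localization.Away g))).FG
      rw [Ideal.eq_top_of_isUnit_mem _ (Ideal.mem_map_of_mem _ hgI)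
        (IsLocalization.Away.algebraMap_isUnit g)]
      exact ⟨{1}, by simp⟩
  exact Ideal.fg_of_localizationSpan t ht fun g => g.2

/-- An element outside `p` clearing the denominators of finitely many elements. -/
theorem exists_away_generators {I : Ideal A} (hI : I.FG) (p : Ideal A) [p.IsPrime] (f : List A)
    (hf : I.map (algebraMap A (Localization.AtPrime p)) ≤
      (Ideal.ofList f).map (algebraMap A (Localization.AtPrime p))) :
    ∃ h ∉ p, ∀ x ∈ I, h * x ∈ Ideal.ofList f := by
  classical
  obtain ⟨s, rfl⟩ := hI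
  have hx : ∀ x ∈ s, ∃ c ∉ p, c * x ∈ Ideal.ofList f := fun x hx => by
    have := hf (Ideal.mem_map_of_mem _ (Ideal.subset_span hx))
    obtain ⟨⟨⟨y, hy⟩, ⟨c, hc⟩⟩, he⟩ := (IsLocalization.mem_map_algebraMap_iff p.primeCompl _).mp this
    rw [← map_mul, IsLocalization.eq_iff_exists p.primeCompl] at he
    obtain ⟨⟨d, hd⟩, hd'⟩ := he
    refine ⟨d * c, fun h => (Ideal.IsPrime.mem_or_mem inferInstance h).elim hd hc, ?_⟩
    rw [mul_assoc, mul_comm c x, show d * (x * c) = d * y from hd']
    exact Ideal.mul_mem_left _ _ hy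
  choose! c hc hcx using hx
  refine ⟨∏ x ∈ s, c x, fun h => ?_, fun x hx => ?_⟩
  · obtain ⟨x, hx, hxp⟩ := (Ideal.IsPrime.prod_mem_iff (hp := ‹p.IsPrime›)).mp h
    exact hc x hx hxp
  · induction hx using Submodule.span_induction with
    | mem x hx =>
      rw [← Finset.prod_erase_mul _ _ hx, mul_assoc]
      exact Ideal.mul_mem_left _ _ (hcx x hx)
    | zero => rw [mul_zero]; exact zero_mem _
    | add x y _ _ hx hy => rw [mul_add]; exact add_mem hx hy
    | smul a x _ hx => rw [smul_eq_mul, mul_left_comm]; exact Ideal.mul_mem_left _ _ hx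

/-- Koszul regularity of a finitely generated ideal from the local rings. -/
theorem isKoszulRegularIdeal_of_locReg {I : Ideal A} (hI : I.FG)
    (h : ∀ p : Ideal A, p.IsPrime → I ≤ p → ∃ h ∉ p, ∃ r, ∀ (q : Ideal A) [q.IsPrime],
      I ≤ q → h ∉ q → LocReg I q r) :
    LCI.IsKoszulRegularIdeal I := by
  refine isKoszulRegularIdeal_of_away fun p _ hp => ?_
  obtain ⟨h₀, hh₀, r, hr⟩ := h p ‹_› hp
  obtain ⟨l, hlr, -, hlI⟩ := hr p hp hh₀
  choose a ha using fun x : Localization.AtPrime p =>
    IsLocalization.surj p.primeCompl x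
  -- numerators
  let f : List A := l.map fun x => (a x).1
  have hf : Ideal.ofList (f.map (algebraMap A (Localization.AtPrime p))) = Ideal.ofList l := by
    refine le_antisymm (Ideal.span_le.mpr fun y hy => ?_) (Ideal.span_le.mpr fun x hx => ?_)
    · simp only [f, List.map_map, Set.mem_setOf_eq, List.mem_map, Function.comp_apply] at hy
      obtain ⟨x, hx, rfl⟩ := hy
      rw [← ha x]
      exact Ideal.mul_mem_right _ _ (mem_ofList hx)
    · refine (Ideal.mul_unit_mem_iff_mem _ (IsLocalization.map_units _ (a x).2)).mp ?_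
      rw [ha x]
      exact mem_ofList (by
        simp only [f, List.map_map, List.mem_map]
        exact ⟨x, hx, rfl⟩)
  obtain ⟨h₁, hh₁, h₁I⟩ := exists_away_generators hI p f (by rw [Ideal.map_ofList, hf, hlI])
  have hfI : ∀ y ∈ f, ∃ d ∉ p, d * y ∈ I := fun y hy => by
    have : algebraMap A (Localization.AtPrime p) y ∈ I.map (algebraMap A (Localization.AtPrime p)) := by
      rw [← hlI, ← hf]
      exact mem_ofList (List.mem_map.mpr ⟨y, hy, rfl⟩)
    obtain ⟨⟨⟨z, hz⟩, ⟨c, hc⟩⟩, he⟩ := (IsLocalization.mem_map_algebraMap_iff p.primeCompl _).mp this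
    rw [← map_mul, IsLocalization.eq_iff_exists p.primeCompl] at he
    obtain ⟨⟨d, hd⟩, hd'⟩ := he
    refine ⟨d * c, fun h => (Ideal.IsPrime.mem_or_mem inferInstance h).elim hd hc, ?_⟩
    rw [mul_assoc, mul_comm c y, show d * (y * c) = d * z from hd']
    exact Ideal.mul_mem_left _ _ hz
  choose! d hd hdI using hfI
  classical
  let g := h₀ * h₁ * ∏ y ∈ f.toFinset, d y
  have hg : g ∉ p := fun hgp => by
    rcases Ideal.IsPrime.mem_or_mem inferInstance hgp with h' | h'
    · exact (Ideal.IsPrime.mem_or_mem inferInstance h').elim hh₀ hh₁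
    · obtain ⟨y, hy, hyp⟩ := (Ideal.IsPrime.prod_mem_iff (hp := ‹p.IsPrime›)).mp h'
      exact hd y (List.mem_toFinset.mp hy) hyp
  refine ⟨g, hg, Localization.Away g, inferInstance, inferInstance, inferInstance, r, ?_⟩
  let ι := algebraMap A (Localization.Away g)
  have hu : ∀ x, x ∣ g → IsUnit (ι x) := fun x hx =>
    isUnit_of_dvd_unit (map_dvd ι hx) (IsLocalization.Away.algebraMap_isUnit g)
  have heq : Ideal.ofList (f.map ι) = I.map ι := by
    rw [← Ideal.map_ofList]
    refine le_antisymm (Ideal.map_le_iff_le_comap.mpr (Ideal.span_le.mpr fun y hy => ?_))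
      (Ideal.map_le_iff_le_comap.mpr fun x hx => ?_)
    · show ι y ∈ I.map ι
      refine (Ideal.unit_mul_mem_iff_mem _ (hu (d y) ((Finset.dvd_prod_of_mem d (List.mem_toFinset.mpr hy)).mul_left _))).mp ?_
      rw [← map_mul]
      exact Ideal.mem_map_of_mem _ (hdI y hy)
    · show ι x ∈ (Ideal.ofList f).map ι
      refine (Ideal.unit_mul_mem_iff_mem _ (hu h₁ ((dvd_mul_left h₁ h₀).mul_right _))).mp ?_
      rw [← map_mul]
      exact Ideal.mem_map_of_mem _ (h₁I x hx)
  have hlen : (f.map ι).length = r := by simp [f, hlr]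
  refine ⟨f.map ι, hlen, isKoszulRegularSeq_of_localization _ fun m _ hm => ?_, heq⟩
  let q : Ideal A := m.comap ι
  have hIq : I ≤ q := Ideal.map_le_iff_le_comap.mp (heq ▸ hm)
  have hgq : ∀ x, x ∣ g → x ∉ q := fun x hx h' =>
    (‹m.IsMaximal›).ne_top (Ideal.eq_top_of_isUnit_mem _ h' (hu x hx))
  have : IsLocalization.AtPrime (Localization.AtPrime m) q :=
    IsLocalization.isLocalization_isLocalization_atPrime_isLocalization (Submonoid.powers g) _ m
  let e := IsLocalization.algEquiv q.primeCompl (Localization.AtPrime q) (Localization.AtPrime m)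
  have he : e.toAlgHom.toRingHom.comp (algebraMap A _) = algebraMap A _ :=
    RingHom.ext fun a => e.commutes a
  have hloc := (hr q hIq (hgq h₀ ((dvd_mul_right h₀ h₁).mul_right _))).map e.toAlgHom.toRingHom
    (RingHom.Flat.of_bijective e.bijective)
  rw [Ideal.map_map, he,
    IsScalarTower.algebraMap_eq A (Localization.Away g) (Localization.AtPrime m)] at hloc
  obtain ⟨l', hl', hreg', hl'I⟩ := hloc
  refine isKoszulRegularSeq_of_ofList_eq hreg' ?_ (by rw [List.length_map, hlen, hl'])
  rw [hl'I, ← Ideal.map_ofList, heq, Ideal.map_map]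

theorem locReg_of_isKoszulRegularIdeal {I : Ideal A} (h : LCI.IsKoszulRegularIdeal I)
    (p : Ideal A) [p.IsPrime] (hp : I ≤ p) :
    ∃ g ∉ p, ∃ r, ∀ (q : Ideal A) [q.IsPrime], g ∉ q → LocReg I q r := by
  obtain ⟨g, hg, r, hr⟩ := exists_locReg h p hp
  exact ⟨g, hg, r, fun q _ hq => locReg_of_away hr q hq⟩

/-- Faithfully flat descent of Koszul-regular ideals. -/
theorem isKoszulRegularIdeal_of_faithfullyFlat [Algebra A B] [Module.FaithfullyFlat A B]
    {I : Ideal A} (h : LCI.IsKoszulRegularIdeal (I.map (algebraMap A B))) :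
    LCI.IsKoszulRegularIdeal I := by
  classical
  have hI : I.FG := by
    obtain ⟨s, hs⟩ := fg_of_isKoszulRegularIdeal h
    have hsub : ∀ y ∈ s, ∃ t : Finset A, (↑t : Set A) ⊆ I ∧ y ∈ (Ideal.span ↑t).map (algebraMap A B) := by
      intro y hy
      have hy' : y ∈ Submodule.span B (algebraMap A B '' I) := hs.le (Ideal.subset_span hy)
      obtain ⟨t, ht, hyt⟩ := Submodule.mem_span_finite_of_mem_span hy'
      obtain ⟨t', ht', rfl⟩ := Finset.subset_set_image_iff.mp ht
      refine ⟨t', ht', ?_⟩
      rw [Ideal.map_span]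
      rwa [Finset.coe_image] at hyt
    choose! t ht hyt using hsub
    refine ⟨s.biUnion t, le_antisymm (Ideal.span_le.mpr ?_) ?_⟩
    · intro x hx
      rw [Finset.mem_coe, Finset.mem_biUnion] at hx
      obtain ⟨y, hy, hxy⟩ := hx
      exact ht y hy hxy
    · have : I.map (algebraMap A B) ≤ (Ideal.span ↑(s.biUnion t)).map (algebraMap A B) := by
        rw [← hs, Ideal.span_le]
        exact fun y hy => Ideal.map_mono
          (Ideal.span_mono (Finset.coe_subset.mpr (Finset.subset_biUnion_of_mem t hy))) (hyt y hy)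
      have h2 := Ideal.comap_mono (f := algebraMap A B) this
      rwa [Ideal.comap_map_eq_self_of_faithfullyFlat, Ideal.comap_map_eq_self_of_faithfullyFlat] at h2
  -- the local statement
  have hloc : ∀ (p : Ideal A) [p.IsPrime] (q : Ideal B) [q.IsPrime], q.comap (algebraMap A B) = p →
      I ≤ p → ∀ r, LocReg (I.map (algebraMap A B)) q r → LocReg I p r := by
    intro p _ q _ hqp hp r hr
    have hIq : I.map (algebraMap A B) ≤ q := Ideal.map_le_iff_le_comap.mpr (hqp ▸ hp)
    let θ : Localization.AtPrime p →+* Localization.AtPrime q :=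
      Localization.localRingHom p q (algebraMap A B) hqp.symm
    have hne := map_atPrime_ne_top hIq
    let _ := θ.toAlgebra
    have htow : θ.comp (algebraMap A (Localization.AtPrime p)) =
        (algebraMap B (Localization.AtPrime q)).comp (algebraMap A B) :=
      RingHom.ext fun a => Localization.localRingHom_to_map p q (algebraMap A B) hqp.symm a
    have : IsScalarTower A (Localization.AtPrime p) (Localization.AtPrime q) :=
      .of_algebraMap_eq' (by rw [IsScalarTower.algebraMap_eq A B (Localization.AtPrime q)]; exact htow.symm)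
    have : Module.Flat (Localization.AtPrime p) (Localization.AtPrime q) := by
      rw [Module.flat_iff_of_isLocalization (Localization.AtPrime p) p.primeCompl]
      exact Module.Flat.trans A B (Localization.AtPrime q)
    have : IsLocalHom (algebraMap (Localization.AtPrime p) (Localization.AtPrime q)) :=
      Localization.isLocalHom_localRingHom p q _ hqp.symm
    have : Module.FaithfullyFlat (Localization.AtPrime p) (Localization.AtPrime q) :=
      Module.FaithfullyFlat.of_flat_of_isLocalHom
    have hmap : (I.map (algebraMap A (Localization.AtPrime p))).map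
        (algebraMap (Localization.AtPrime p) (Localization.AtPrime q)) =
        (I.map (algebraMap A B)).map (algebraMap B (Localization.AtPrime q)) := by
      rw [Ideal.map_map, Ideal.map_map]
      exact congrArg (fun φ => Ideal.map φ I) htow
    exact GenReg.descend (hI.map _) (hmap.symm ▸ hr) (hmap.symm ▸ hne)
  refine isKoszulRegularIdeal_of_locReg hI fun p _ hp => ?_
  obtain ⟨⟨q, hq⟩, hqp⟩ := PrimeSpectrum.comap_surjective_of_faithfullyFlat (A := A) (B := B) ⟨p, ‹_›⟩
  have hqp' : q.comap (algebraMap A B) = p := congrArg PrimeSpectrum.asIdeal hqp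
  have hIq : I.map (algebraMap A B) ≤ q := Ideal.map_le_iff_le_comap.mpr (hqp' ▸ hp)
  obtain ⟨g₀, hg₀, r₀, hr₀⟩ := locReg_of_isKoszulRegularIdeal h q hIq
  -- the primes with another length form a closed set
  let IB := I.map (algebraMap A B)
  let Z : Set (PrimeSpectrum A) := {x | I ≤ x.asIdeal ∧ ¬ LocReg I x.asIdeal r₀}
  have hpre : ∀ y : PrimeSpectrum B, PrimeSpectrum.comap (algebraMap A B) y ∈ Z ↔
      IB ≤ y.asIdeal ∧ ¬ LocReg IB y.asIdeal r₀ := by
    intro y
    show I ≤ y.asIdeal.comap _ ∧ _ ↔ _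
    rw [← Ideal.map_le_iff_le_comap]
    refine and_congr_right fun hy => not_congr ⟨fun hx => ?_, fun hx => ?_⟩
    · let θ := Localization.localRingHom (y.asIdeal.comap (algebraMap A B)) y.asIdeal (algebraMap A B) rfl
      have hflat : θ.Flat := by
        let _ := θ.toAlgebra
        have : IsScalarTower A (Localization.AtPrime (y.asIdeal.comap (algebraMap A B))) (Localization.AtPrime y.asIdeal) :=
          .of_algebraMap_eq fun a => (Localization.localRingHom_to_map _ _ _ _ a).symm
        exact (Module.flat_iff_of_isLocalization (Localization.AtPrime (y.asIdeal.comap (algebraMap A B)))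
          (y.asIdeal.comap (algebraMap A B)).primeCompl (Localization.AtPrime y.asIdeal)).mpr
          (Module.Flat.trans A B _)
      have hc : (I.map (algebraMap A (Localization.AtPrime (y.asIdeal.comap (algebraMap A B))))).map θ =
          IB.map (algebraMap B (Localization.AtPrime y.asIdeal)) := by
        rw [Ideal.map_map, Ideal.map_map]
        exact congrArg (fun φ => Ideal.map φ I)
          (RingHom.ext fun a => Localization.localRingHom_to_map (y.asIdeal.comap (algebraMap A B))
            y.asIdeal (algebraMap A B) rfl a)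
      show GenReg (IB.map (algebraMap B (Localization.AtPrime y.asIdeal))) r₀
      rw [← hc]
      exact GenReg.map hx θ hflat
    · exact hloc _ y.asIdeal rfl (Ideal.map_le_iff_le_comap.mp hy) r₀ hx
  have hclosed : IsClosed (PrimeSpectrum.comap (algebraMap A B) ⁻¹' Z) := by
    rw [← isOpen_compl_iff, isOpen_iff_forall_mem_open]
    intro y hy
    rw [Set.mem_compl_iff, Set.mem_preimage, hpre] at hy
    by_cases hIy : IB ≤ y.asIdeal
    · obtain ⟨g, hg, r, hr⟩ := locReg_of_isKoszulRegularIdeal h y.asIdeal hIy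
      refine ⟨PrimeSpectrum.basicOpen g, fun z hz hzZ => ?_, (PrimeSpectrum.basicOpen g).2, hg⟩
      obtain ⟨hz1, hz2⟩ := (hpre z).mp hzZ
      have hrr : r = r₀ := (hr y.asIdeal hg).unique
        (not_not.mp fun hc => hy ⟨hIy, hc⟩) (map_atPrime_ne_top hIy)
      exact hz2 (hrr ▸ hr z.asIdeal hz)
    · obtain ⟨x, hxI, hx⟩ := SetLike.not_le_iff_exists.mp hIy
      exact ⟨PrimeSpectrum.basicOpen x, fun z hz hzZ => hz (((hpre z).mp hzZ).1 hxI),
        (PrimeSpectrum.basicOpen x).2, hx⟩
  have hquot : Topology.IsQuotientMap (PrimeSpectrum.comap (algebraMap A B)) :=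
    PrimeSpectrum.isQuotientMap_of_generalizingMap PrimeSpectrum.comap_surjective_of_faithfullyFlat
      (RingHom.Flat.generalizingMap_comap (RingHom.flat_algebraMap_iff.mpr inferInstance))
  have hZ : IsClosed Z := hquot.isClosed_preimage.mp hclosed
  have hpZ : (⟨p, ‹_›⟩ : PrimeSpectrum A) ∉ Z := fun hc =>
    hc.2 (hloc p q hqp' hp r₀ (hr₀ q hg₀))
  obtain ⟨_, ⟨_, ⟨h₁, rfl⟩, rfl⟩, hph, hsub⟩ :=
    PrimeSpectrum.isBasis_basic_opens.exists_subset_of_mem_open hpZ hZ.isOpen_compl
  refine ⟨h₁, hph, r₀, fun x _ hx hhx => ?_⟩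
  by_contra hc
  exact hsub (show (⟨x, ‹_›⟩ : PrimeSpectrum A) ∈ PrimeSpectrum.basicOpen h₁ from hhx) ⟨hx, hc⟩

end Groth.KoszulLCI
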