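import Groth.Agent.KoszulLCI.ConormalShortExact
import Groth.Agent.LocFree.Affine

/-!
# The conormal sheaf of an `H₁`-regular immersion is finite locally free
-/

set_option autoImplicit false
set_option linter.style.haveILetI false

universe u

open CategoryTheory Limits AlgebraicGeometry Opposite TopologicalSpace

namespace Groth.KoszulLCI

open Groth.OmegaSheaf

/-- Coefficients of a combination of an `H₁`-regular sequence lying in `I²` are in `I`. -/
theorem mem_of_sum_mem_sq {A : Type u} [CommRing A] {c : ℕ} (f : Fin c → A) (hf : CAlgX.IsH1Regular f)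
    (v : Fin c → A) (hv : ∑ k, v k * f k ∈ Ideal.span (Set.range f) ^ 2) (k : Fin c) :
    v k ∈ Ideal.span (Set.range f) := by
  classical
  have hrep : ∀ x ∈ Ideal.span (Set.range f) * Ideal.span (Set.range f),
      ∃ a : Fin c → A, (∀ k, a k ∈ Ideal.span (Set.range f)) ∧ ∑ k, a k * f k = x := by
    intro x hx
    induction hx using Submodule.mul_induction_on' with
    | mem_mul_mem r hr s hs =>
      obtain ⟨t, ht⟩ := Ideal.mem_span_range_iff_exists_fun.mp hs
      exact ⟨fun k => r * t k, fun k => Ideal.mul_mem_right _ _ hr, by simp [mul_assoc, ← Finset.mul_sum, ht]⟩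
    | add x _ y _ hx hy =>
      obtain ⟨a, ha, hax⟩ := hx
      obtain ⟨a', ha', hay⟩ := hy
      exact ⟨a + a', fun k => add_mem (ha k) (ha' k), by simp [add_mul, Finset.sum_add_distrib, hax, hay]⟩
  obtain ⟨a, ha, hsum⟩ := hrep _ (pow_two (Ideal.span (Set.range f)) ▸ hv)
  have hrel := hf (v - a) (by simp [sub_mul, Finset.sum_sub_distrib, hsum])
  have hle : ∀ w ∈ Submodule.span A {v : Fin c → A | ∃ i j, v = Pi.single i (f j) - Pi.single j (f i)},
      ∀ k, w k ∈ Ideal.span (Set.range f) := by
    intro w hw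
    induction hw using Submodule.span_induction with
    | mem w hw =>
      obtain ⟨i, j, rfl⟩ := hw
      intro k
      refine sub_mem ?_ ?_
      all_goals
        rw [Pi.single_apply]
        split_ifs
        exacts [Ideal.subset_span ⟨_, rfl⟩, zero_mem _]
    | zero => exact fun k => zero_mem _
    | add x y _ _ hx hy => exact fun k => add_mem (hx k) (hy k)
    | smul r x _ hx => exact fun k => Ideal.mul_mem_left _ _ (hx k)
  have := add_mem (hle _ hrel k) (ha k)
  rwa [Pi.sub_apply, sub_add_cancel] at this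

variable {Z X : Scheme.{u}} (i : Z ⟶ X)

/-- The sections of the conormal sheaf on an `H₁`-regular chart form a finite free module. -/
theorem exists_basis_conormal [IsImmersion i] [QuasiCompact i] {W : X.Opens} (hW : IsConormalChart i W)
    {c : ℕ} (f : Fin c → Γ(X, W)) (hf : CAlgX.IsH1Regular f)
    (hker : RingHom.ker (i.app W).hom = Ideal.span (Set.range f)) :
    ∃ B : Module.Basis (Fin c) Γ(Z, i ⁻¹ᵁ W) Γ(Omega.conormal i, i ⁻¹ᵁ W),
      ∀ (m : Fin c) (k : Γ(ClSub.idealMod i.ker, W)), OmegaSh.idealSect i.ker W k = f m →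
        B m = OmegaSh.conormalSect i W k := by
  classical
  have hI : i.ker.ideal ⟨W, hW.affine⟩ = RingHom.ker (i.app W).hom := ker_ideal_eq (i := i) hW.affine
  choose k hk using fun m : Fin c => exists_idealSect i.ker ⟨W, hW.affine⟩ (x := f m)
    (by rw [hI, hker]; exact Ideal.subset_span ⟨m, rfl⟩)
  let b : Fin c → Γ(Omega.conormal i, i ⁻¹ᵁ W) := fun m => OmegaSh.conormalSect i W (k m)
  have hcomb : ∀ v : Fin c → Γ(X, W), OmegaSh.conormalSect i W (∑ m, v m • k m) =
      ∑ m, (i.app W) (v m) • b m := by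
    intro v
    rw [map_sum]
    exact Finset.sum_congr rfl fun m _ => conormalSect_smul i _ _
  have hidl : ∀ v : Fin c → Γ(X, W), OmegaSh.idealSect i.ker W (∑ m, v m • k m) = ∑ m, v m * f m := by
    intro v
    rw [map_sum]
    exact Finset.sum_congr rfl fun m _ => by rw [idealSect_smul, hk]
  refine ⟨Module.Basis.mk (v := b) ?_ fun y _ => ?_, fun m k' hk' => by
    rw [Module.Basis.mk_apply, show k' = k m from idealSect_injective _ _ (hk'.trans (hk m).symm)]⟩
  · refine Fintype.linearIndependent_iff.mpr fun g hg m => ?_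
    choose v hv using fun m => hW.surjective (g m)
    have h0 : OmegaSh.conormalSect i W (∑ m, v m • k m) = 0 := by
      rw [hcomb, ← hg]
      exact Finset.sum_congr rfl fun m _ => by rw [hv]
    rw [hW.conormalSect_eq_zero_iff, hidl, hker] at h0
    rw [← hv, ← RingHom.mem_ker, hker]
    exact mem_of_sum_mem_sq f hf v h0 m
  · obtain ⟨s, rfl⟩ := hW.conormalSect_surjective y
    have hs : OmegaSh.idealSect i.ker W s ∈ RingHom.ker (i.app W).hom :=
      hI ▸ idealSect_mem i.ker ⟨W, hW.affine⟩ s
    rw [hker, Ideal.mem_span_range_iff_exists_fun] at hs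
    obtain ⟨v, hv⟩ := hs
    rw [show s = ∑ m, v m • k m from idealSect_injective _ _ (hv.symm.trans (hidl v).symm), hcomb]
    exact sum_mem fun m _ => Submodule.smul_mem _ _ (Submodule.subset_span ⟨m, rfl⟩)

theorem nonempty_basis_conormal [IsImmersion i] [QuasiCompact i] {W : X.Opens} (hW : IsConormalChart i W)
    {c : ℕ} (f : Fin c → Γ(X, W)) (hf : CAlgX.IsH1Regular f)
    (hker : RingHom.ker (i.app W).hom = Ideal.span (Set.range f)) :
    Nonempty (Module.Basis (Fin c) Γ(Z, i ⁻¹ᵁ W) Γ(Omega.conormal i, i ⁻¹ᵁ W)) :=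
  let ⟨B, _⟩ := exists_basis_conormal i hW f hf hker
  ⟨B⟩

theorem isFinLocFree_conormal [IsImmersion i] [QuasiCompact i]
    (hi : ∀ z : Z, RegImm.IsRegularImmersionAt .h1 i z) : FlatMod.IsFinLocFree (Omega.conormal i) := by
  refine Groth.LocFree.isFinLocFree_of_affine_cover fun z => ?_
  obtain ⟨U, hz, hci, rs, hrs, hker⟩ := hi z
  have hW : IsConormalChart i U.1 :=
    ⟨U.2, Groth.KoszulReg.isAffineOpen_preimage i U.1 U.2, Groth.KoszulReg.surjective_app i U.1 U.2⟩
  obtain ⟨b⟩ := nonempty_basis_conormal i hW rs.get hrs (by rw [hker, Set.range_list_get])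
  exact ⟨i ⁻¹ᵁ U.1, hW.affine_preimage, hz, Module.Finite.of_basis b, Module.Projective.of_basis b⟩

end Groth.KoszulLCI
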