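import Groth.Agent.KoszulLCI.Immersion
import Groth.Agent.KoszulLCI.SchemeBaseChange
import Groth.Agent.KoszulReg.Relations
import Groth.Agent.KoszulReg.Weakly
import Groth.Agent.FrobLCI.RegularSpread
import Groth.Agent.Calg1.QuasiRegular
import Groth.Agent.EGA41Two.QuasiRegularConv
import Mathlib.RingTheory.Regular.Flat
import Mathlib.RingTheory.Flat.Equalizer

/-!
# The four kinds of regular immersions
-/

set_option autoImplicit false

universe u

open CategoryTheory CategoryTheory.Limits AlgebraicGeometry TensorProduct RingTheory.Sequence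
open Groth.KoszulReg (surjective_app isAffineOpen_preimage isClosedImmersion_restrict)

namespace Groth.KoszulLCI

section Seq

variable {R B : Type u} [CommRing R] [CommRing B]

theorem isH1Regular_of_isKoszulRegularSeq {l : List R} (h : LCI.IsKoszulRegularSeq R l) :
    CAlgX.IsH1Regular l.get := by
  intro a ha
  refine Submodule.span_le.mpr ?_ (Groth.KoszulReg.koszulH1Zero_of_isKoszulRegularSeq h a
    (by simpa [smul_eq_mul, mul_comm] using ha))
  rintro _ ⟨i, j, x, rfl⟩
  have : l.get j • (Pi.single i x : Fin l.length → R) - l.get i • Pi.single j x =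
      x • (Pi.single i (l.get j) - Pi.single j (l.get i)) := by
    rw [smul_sub, ← Pi.single_smul, ← Pi.single_smul, ← Pi.single_smul, ← Pi.single_smul, smul_eq_mul, smul_eq_mul,
      smul_eq_mul, smul_eq_mul, mul_comm x, mul_comm x]
  rw [this]
  exact Submodule.smul_mem _ _ (Submodule.subset_span ⟨i, j, rfl⟩)

/-- Linear equations modulo an ideal are solved by base change along a flat map. -/
theorem mem_span_of_flat {ι : Type*} [Finite ι] (θ : R →+* B) (hθ : θ.Flat) (c : ι → R) (K : Ideal R)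
    (v : ι → B) [Fintype ι] (hv : ∑ i, v i * θ (c i) ∈ K.map θ) :
    v ∈ Submodule.span B {w | ∃ a : ι → R, ∑ i, a i * c i ∈ K ∧ w = θ ∘ a} := by
  classical
  algebraize [θ]
  let L : (ι → R) →ₗ[R] R ⧸ K := K.mkQ ∘ₗ Fintype.linearCombination R c
  have hz : L.lTensor B (∑ i, v i ⊗ₜ[R] (Pi.single i 1 : ι → R)) = 0 := by
    have h1 : ∀ i, L (Pi.single i 1) = K.mkQ (c i) := fun i => by
      simp [L, Fintype.linearCombination_apply, Pi.single_apply]
    rw [map_sum]
    simp only [LinearMap.lTensor_tmul, h1]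
    have h2 : ∀ i, v i ⊗ₜ[R] K.mkQ (c i) = (v i * θ (c i)) ⊗ₜ[R] K.mkQ 1 := fun i => by
      rw [show K.mkQ (c i) = c i • K.mkQ 1 by rw [← map_smul, smul_eq_mul, mul_one], TensorProduct.tmul_smul,
        TensorProduct.smul_tmul', Algebra.smul_def, mul_comm, RingHom.algebraMap_toAlgebra]
    simp only [h2, ← TensorProduct.sum_tmul]
    generalize ∑ i, v i * θ (c i) = w at hv
    induction hv using Submodule.span_induction with
    | mem w hw =>
      obtain ⟨r, hr, rfl⟩ := hw
      rw [show θ r = r • (1 : B) by rw [Algebra.smul_def, mul_one]; rfl, TensorProduct.smul_tmul, ← map_smul,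
        smul_eq_mul, mul_one, show K.mkQ r = 0 from (Submodule.Quotient.mk_eq_zero K).mpr hr, TensorProduct.tmul_zero]
    | zero => rw [TensorProduct.zero_tmul]
    | add x y _ _ hx hy => rw [TensorProduct.add_tmul, hx, hy, add_zero]
    | smul b x _ hx =>
      have := congrArg (b • ·) hx
      simpa [TensorProduct.smul_tmul'] using this
  obtain ⟨y, hy⟩ := (Module.Flat.lTensor_exact B L.exact_subtype_ker_map _).mp hz
  let e := TensorProduct.piScalarRight R B B ι
  have he : e (∑ i, v i ⊗ₜ[R] (Pi.single i 1 : ι → R)) = v := by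
    ext j
    rw [map_sum, Finset.sum_apply, Finset.sum_eq_single j]
    · simp [e]
    · intro i _ hij
      simp [e, hij.symm]
    · simp
  rw [← he, ← hy]
  clear hy
  induction y with
  | zero => simp
  | add x y hx hy => rw [map_add, map_add]; exact add_mem hx hy
  | tmul b a =>
    have h3 : ∑ i, (a : ι → R) i * c i ∈ K := by
      have := a.2
      rw [LinearMap.mem_ker, LinearMap.comp_apply, Fintype.linearCombination_apply] at this
      exact (Submodule.Quotient.mk_eq_zero K).mp this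
    have h4 : e ((LinearMap.ker L).subtype.lTensor B (b ⊗ₜ[R] a)) = b • (θ ∘ (a : ι → R)) := by
      ext i
      simp [e, Algebra.smul_def, RingHom.algebraMap_toAlgebra, mul_comm]
    rw [h4]
    exact Submodule.smul_mem _ _ (Submodule.subset_span ⟨_, h3, rfl⟩)

theorem isH1Regular_map (θ : R →+* B) (hθ : θ.Flat) {c : ℕ} {f : Fin c → R} (hf : CAlgX.IsH1Regular f) :
    CAlgX.IsH1Regular (θ ∘ f) := by
  intro v hv
  refine Submodule.span_le.mpr ?_ (mem_span_of_flat θ hθ f ⊥ v (by simpa [Ideal.map_bot] using hv))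
  rintro _ ⟨a, ha, rfl⟩
  rw [Ideal.mem_bot] at ha
  have hrel := hf a ha
  clear ha
  induction hrel using Submodule.span_induction with
  | mem w hw =>
    obtain ⟨i, j, rfl⟩ := hw
    refine Submodule.subset_span ⟨i, j, funext fun k => ?_⟩
    simp [Pi.single_apply, apply_ite θ]
  | zero => rw [show θ ∘ (0 : Fin c → R) = 0 from funext fun _ => map_zero θ]; exact zero_mem _
  | add x y _ _ hx hy => simpa [Function.comp_def, Pi.add_def] using add_mem hx hy
  | smul r x _ hx => simpa [Function.comp_def, Pi.smul_def] using Submodule.smul_mem _ (θ r) hx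

theorem isQuasiRegular_map (θ : R →+* B) (hθ : θ.Flat) {c : ℕ} {f : Fin c → R} (hf : CAlgX.IsQuasiRegular f) :
    CAlgX.IsQuasiRegular (θ ∘ f) := by
  classical
  intro n P hP hev d
  by_cases hd : d ∈ P.support
  swap
  · rw [MvPolynomial.notMem_support_iff.mp hd]; exact zero_mem _
  have hspan : Ideal.span (Set.range (θ ∘ f)) = (Ideal.span (Set.range f)).map θ := by
    rw [Ideal.map_span, Set.range_comp]
  have hv : ∑ s : P.support, P.coeff s * θ (∏ i, f i ^ (s : Fin c →₀ ℕ) i) ∈
      (Ideal.span (Set.range f) ^ (n + 1)).map θ := by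
    rw [Ideal.map_pow, ← hspan]
    convert hev using 1
    rw [MvPolynomial.eval_eq']
    simp only [map_prod, map_pow, Function.comp_apply]
    exact Finset.sum_coe_sort P.support fun s => P.coeff s * ∏ i, θ (f i) ^ s i
  have hmem := mem_span_of_flat θ hθ (fun s : P.support => ∏ i, f i ^ (s : Fin c →₀ ℕ) i) _
    (fun s => P.coeff s) hv
  have key : ∀ w ∈ Submodule.span B {w : P.support → B | ∃ a : P.support → R,
      (∑ s, a s * ∏ i, f i ^ (s : Fin c →₀ ℕ) i) ∈ Ideal.span (Set.range f) ^ (n + 1) ∧ w = θ ∘ a},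
      w ⟨d, hd⟩ ∈ Ideal.span (Set.range (θ ∘ f)) := by
    intro w hw
    induction hw using Submodule.span_induction with
    | mem w hw =>
      obtain ⟨a, ha, rfl⟩ := hw
      rw [hspan]
      refine Ideal.mem_map_of_mem θ ?_
      let Q : MvPolynomial (Fin c) R := ∑ s : P.support, MvPolynomial.monomial (s : Fin c →₀ ℕ) (a s)
      have hQ : Q.IsHomogeneous n := MvPolynomial.IsHomogeneous.sum _ _ _ fun s _ =>
        MvPolynomial.isHomogeneous_monomial _ (by
          have := hP (MvPolynomial.mem_support_iff.mp s.2)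
          simp only [Finsupp.weight_apply, Finsupp.sum, Pi.one_apply, smul_eq_mul, mul_one] at this
          exact this)
      have h5 := hf n Q hQ (by
        convert ha using 1
        simp [Q, map_sum, MvPolynomial.eval_monomial, Finsupp.prod_fintype]) d
      simpa [Q, MvPolynomial.coeff_sum, MvPolynomial.coeff_monomial, Finset.sum_ite_eq', Subtype.ext_iff] using
        (show Q.coeff d = a ⟨d, hd⟩ by
          simp only [Q, MvPolynomial.coeff_sum, MvPolynomial.coeff_monomial]
          rw [Finset.sum_eq_single (⟨d, hd⟩ : P.support)]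
          · simp
          · intro s _ hs
            exact if_neg fun h => hs (Subtype.ext h)
          · simp) ▸ h5
    | zero => exact zero_mem _
    | add x y _ _ hx hy => exact add_mem hx hy
    | smul r x _ hx => exact Ideal.mul_mem_left _ r hx
  exact key _ hmem

theorem get_map (θ : R → B) (l : List R) :
    (l.map θ).get = fun i => θ (l.get (i.cast (List.length_map θ))) := by
  funext i; simp

theorem cast_transfer (Q : ∀ c, (Fin c → B) → Prop) {m c : ℕ} (hc : m = c) (g : Fin c → B) (h : Q c g) :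
    Q m (fun i => g (i.cast hc)) := by
  subst hc
  exact h

/-- Sequences of each kind are preserved by flat maps, provided the ideal stays proper. -/
theorem seq_map (k : RegImm.Kind) (θ : R →+* B) (hθ : θ.Flat) {l : List R} (h : k.Seq R l)
    (hne : Ideal.ofList (l.map θ) ≠ ⊤) : k.Seq B (l.map θ) := by
  cases k with
  | regular =>
    refine ⟨?_, by simpa [smul_eq_mul, Ideal.mul_top] using hne.symm⟩
    algebraize [θ]
    exact h.toIsWeaklyRegular.of_flat
  | koszul => exact Groth.KoszulReg.isKoszulRegularSeq_map θ hθ l h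
  | h1 =>
    show CAlgX.IsH1Regular (l.map θ).get
    rw [get_map]
    exact cast_transfer (fun c g => CAlgX.IsH1Regular (c := c) g) (List.length_map (as := l) θ) (θ ∘ l.get)
      (isH1Regular_map θ hθ (f := l.get) h)
  | quasi =>
    show CAlgX.IsQuasiRegular (l.map θ).get
    rw [get_map]
    exact cast_transfer (fun c g => CAlgX.IsQuasiRegular (c := c) g) (List.length_map (as := l) θ) (θ ∘ l.get)
      (isQuasiRegular_map θ hθ (f := l.get) h)

theorem seq_koszul_of_regular {l : List R} (h : RegImm.Kind.Seq .regular R l) : RegImm.Kind.Seq .koszul R l :=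
  Groth.KoszulReg.isKoszulRegularSeq_of_isWeaklyRegular h.toIsWeaklyRegular

theorem seq_h1_of_koszul {l : List R} (h : RegImm.Kind.Seq .koszul R l) : RegImm.Kind.Seq .h1 R l :=
  isH1Regular_of_isKoszulRegularSeq h

theorem seq_quasi_of_h1 {l : List R} (h : RegImm.Kind.Seq .h1 R l) : RegImm.Kind.Seq .quasi R l :=
  Groth.Calg1.isQuasiRegular_of_isH1Regular _ h

theorem seq_quasi (k : RegImm.Kind) {l : List R} (h : k.Seq R l) : RegImm.Kind.Seq .quasi R l := by
  cases k with
  | regular => exact seq_quasi_of_h1 (seq_h1_of_koszul (seq_koszul_of_regular h))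
  | koszul => exact seq_quasi_of_h1 (seq_h1_of_koszul h)
  | h1 => exact seq_quasi_of_h1 h
  | quasi => exact h

end Seq

variable {X Y Z : Scheme.{u}}

theorem ker_app_le_primeIdealOf (i : Z ⟶ X) {W : X.Opens} (hW : IsAffineOpen W) (z : Z) (hzW : i z ∈ W) :
    RingHom.ker (i.app W).hom ≤ (hW.primeIdealOf ⟨i z, hzW⟩).asIdeal := by
  intro a ha
  by_contra hna
  have h2 : i z ∈ X.basicOpen a := by
    have h3 : hW.primeIdealOf ⟨i z, hzW⟩ ∈ PrimeSpectrum.basicOpen a := hna
    rw [← hW.fromSpec_preimage_basicOpen] at h3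
    have h5 : hW.fromSpec (hW.primeIdealOf ⟨i z, hzW⟩) ∈ X.basicOpen a := h3
    rwa [hW.fromSpec_primeIdealOf] at h5
  have h4 : z ∈ i ⁻¹ᵁ X.basicOpen a := h2
  rw [Scheme.preimage_basicOpen, RingHom.mem_ker.mp ha, Scheme.basicOpen_zero] at h4
  exact h4

theorem exists_seq_of_ker (k : RegImm.Kind) {R : Type u} [CommRing R] (i : Z ⟶ X) (z : Z) (U : X.affineOpens)
    (hz : i z ∈ U.1) (hci : IsClosedImmersion (i ∣_ U.1)) (θ : R →+* Γ(X, U.1)) (hθ : θ.Flat) (rs : List R)
    (hrs : k.Seq R rs) (hker : RingHom.ker (i.app U.1).hom = Ideal.ofList (rs.map θ)) :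
    RegImm.IsRegularImmersionAt k i z :=
  ⟨U, hz, hci, rs.map θ, seq_map k θ hθ hrs
    (hker ▸ ne_top_of_le_ne_top (U.2.primeIdealOf ⟨i z, hz⟩).isPrime.ne_top (ker_app_le_primeIdealOf i U.2 z hz)),
    hker⟩

theorem isRegularImmersionAt_baseChange_kind {X' Y' : Scheme.{u}} (k : RegImm.Kind) (i : Y ⟶ X) (g : X' ⟶ X) [Flat g]
    (i' : Y' ⟶ X') (g' : Y' ⟶ Y) (hsq : IsPullback g' i' i g) (z : Y')
    (h : RegImm.IsRegularImmersionAt k i (g' z)) :
    RegImm.IsRegularImmersionAt k i' z := by
  obtain ⟨U, hzU, hci, rs, hrs, hker⟩ := h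
  have hmem : i' z ∈ g ⁻¹ᵁ U.1 := by
    change g (i' z) ∈ U.1
    rw [← Scheme.Hom.comp_apply, ← hsq.w]
    exact hzU
  obtain ⟨U', hU', hzU', hU'le⟩ := exists_isAffineOpen_mem_and_subset hmem
  have hUX : i ⁻¹ᵁ U.1 ≤ i ⁻¹ᵁ U.1 := le_rfl
  have hUY : i' ⁻¹ᵁ U' = g' ⁻¹ᵁ (i ⁻¹ᵁ U.1) ⊓ i' ⁻¹ᵁ U' := by
    refine (inf_eq_right.mpr fun y hy => ?_).symm
    change i (g' y) ∈ U.1
    rw [← Scheme.Hom.comp_apply, hsq.w]
    exact hU'le hy
  have hpo := (isIso_pushoutSection_iff hsq hU'le hUX hUY).mp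
    (isIso_pushoutSection_of_isAffineOpen hsq hU'le hUX hUY U.2 hU'
      (isAffineOpen_preimage i U.1 U.2))
  refine exists_seq_of_ker k i' z ⟨U', hU'⟩ hzU' ?_ (g.appLE U.1 U' hU'le).hom (Flat.flat_appLE g U.2 hU' hU'le) rs hrs ?_
  · have h1 := Scheme.Hom.isPullback_resLE hsq hU'le hUX hUY
    rw [Scheme.Hom.resLE_eq_morphismRestrict, Scheme.Hom.resLE_eq_morphismRestrict] at h1
    exact MorphismProperty.of_isPullback h1 hci
  · rw [← Ideal.map_ofList, ← hker]
    have happ : ∀ (e : i' ⁻¹ᵁ U' ≤ i' ⁻¹ᵁ U'), i'.appLE U' (i' ⁻¹ᵁ U') e = i'.app U' :=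
      fun _ => (i'.app_eq_appLE).symm
    have happ' : i.appLE U.1 (i ⁻¹ᵁ U.1) hUX = i.app U.1 := (i.app_eq_appLE).symm
    rw [happ, happ'] at hpo
    refine le_antisymm ?_ (Ideal.map_le_iff_le_comap.mpr fun x hx => ?_)
    · set J := (RingHom.ker (i.app U.1).hom).map (g.appLE U.1 U' hU'le).hom
      let inl : Γ(Y, i ⁻¹ᵁ U.1) →+* Γ(X', U') ⧸ J :=
        (i.app U.1).hom.liftOfSurjective (surjective_app i U.1 U.2)
          ⟨(Ideal.Quotient.mk J).comp (g.appLE U.1 U' hU'le).hom, fun x hx =>
            Ideal.Quotient.eq_zero_iff_mem.mpr (Ideal.mem_map_of_mem _ hx)⟩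
      have hcomm : i.app U.1 ≫ CommRingCat.ofHom inl =
          g.appLE U.1 U' hU'le ≫ CommRingCat.ofHom (Ideal.Quotient.mk J) := by
        ext x
        simp only [inl, RingHom.liftOfSurjective, CommRingCat.hom_comp, CommRingCat.hom_ofHom, RingHom.comp_apply]
        exact RingHom.liftOfRightInverse_comp_apply _ _ _ _ _
      intro x hx
      rw [← Ideal.Quotient.eq_zero_iff_mem]
      have h2 := congr_arg (fun φ => φ.hom x) (hpo.inr_desc _ _ hcomm)
      simp only [CommRingCat.hom_comp, RingHom.comp_apply, CommRingCat.hom_ofHom] at h2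
      rw [← h2, RingHom.mem_ker.mp hx, map_zero]
    · rw [Ideal.mem_comap, RingHom.mem_ker]
      have h2 := congr_arg (fun φ => φ.hom x) hpo.w
      simp only [CommRingCat.hom_comp, RingHom.comp_apply] at h2
      rw [← h2, RingHom.mem_ker.mp hx, map_zero]

/-- A regular immersion of any kind into a locally Noetherian scheme is regular. -/
theorem isRegularImmersionAt_regular (i : Z ⟶ X) [IsLocallyNoetherian X] (k : RegImm.Kind) (z : Z)
    (h : RegImm.IsRegularImmersionAt k i z) : RegImm.IsRegularImmersionAt .regular i z := by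
  obtain ⟨U, hz, hci, rs, hrs, hker⟩ := h
  have : IsNoetherianRing Γ(X, U.1) := IsLocallyNoetherian.component_noetherian U
  let p := (U.2.primeIdealOf ⟨i z, hz⟩).asIdeal
  let θ := algebraMap Γ(X, U.1) (Localization.AtPrime p)
  have hle : Ideal.ofList rs ≤ p := hker ▸ ker_app_le_primeIdealOf i U.2 z hz
  have hne : Ideal.ofList (rs.map θ) ≠ ⊤ := by
    rw [← Ideal.map_ofList]; exact map_atPrime_ne_top hle
  have hq : CAlgX.IsQuasiRegular (rs.map θ).get :=
    seq_map .quasi θ (RingHom.flat_algebraMap_iff.mpr inferInstance) (seq_quasi k hrs) hne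
  have hw := Groth.EGA41Two.isWeaklyRegular_of_isQuasiRegular _ _ (rs.map θ).get (fun j => by
    rw [IsLocalRing.ringJacobson_eq_maximalIdeal]
    exact IsLocalRing.le_maximalIdeal hne (mem_ofList (List.get_mem _ j))) hq
  rw [List.ofFn_get] at hw
  obtain ⟨t, ht, hreg⟩ := Groth.FrobLCI.RegularSpread.exists_away p rs hw
  have hzt : i z ∈ X.basicOpen t := by
    have h3 : U.2.primeIdealOf ⟨i z, hz⟩ ∈ PrimeSpectrum.basicOpen t := ht
    rw [← U.2.fromSpec_preimage_basicOpen] at h3
    have h5 : U.2.fromSpec (U.2.primeIdealOf ⟨i z, hz⟩) ∈ X.basicOpen t := h3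
    rwa [U.2.fromSpec_primeIdealOf] at h5
  let _ := (X.presheaf.map (homOfLE (X.basicOpen_le t)).op).hom.toAlgebra
  have := U.2.isLocalization_basicOpen t
  let e := IsLocalization.algEquiv (Submonoid.powers t) (Localization.Away t) Γ(X, X.basicOpen t)
  have hcomp : ((e : Localization.Away t →+* Γ(X, X.basicOpen t))).comp (algebraMap _ _) =
      (X.presheaf.map (homOfLE (X.basicOpen_le t)).op).hom := RingHom.ext fun a => e.commutes a
  have hne' : Ideal.ofList (rs.map (algebraMap Γ(X, U.1) (Localization.Away t))) ≠ ⊤ := by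
    intro htop
    obtain ⟨m, ⟨k, rfl⟩, hm⟩ := (IsLocalization.algebraMap_mem_map_algebraMap_iff (Submonoid.powers t)
      (Localization.Away t) (Ideal.ofList rs) (1 : Γ(X, U.1))).1 (by rw [Ideal.map_ofList, htop]; exact Submodule.mem_top)
    rw [mul_one] at hm
    exact ht ((inferInstance : p.IsPrime).mem_of_pow_mem k (hle hm))
  refine exists_seq_of_ker .regular i z ⟨X.basicOpen t, U.2.basicOpen t⟩ hzt
    (isClosedImmersion_restrict i (X.basicOpen_le t)) (e : Localization.Away t →+* Γ(X, X.basicOpen t))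
    (RingHom.Flat.of_bijective e.bijective) (rs.map (algebraMap _ (Localization.Away t)))
    ⟨hreg t dvd_rfl, by simpa [smul_eq_mul, Ideal.mul_top] using hne'.symm⟩ ?_
  rw [List.map_map, ← RingHom.coe_comp, hcomp, ← Ideal.map_ofList, ← hker]
  exact ker_app_basicOpen i U.2 t

theorem isRegularImmersion_of_isRegularImmersion_regular (k : RegImm.Kind) (i : Z ⟶ X)
    (h : RegImm.IsRegularImmersion .regular i) : RegImm.IsRegularImmersion k i :=
  ⟨h.1, fun z => by
    obtain ⟨U, hz, hci, rs, hrs, hker⟩ := h.2 z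
    refine ⟨U, hz, hci, rs, ?_, hker⟩
    cases k with
    | regular => exact hrs
    | koszul => exact seq_koszul_of_regular hrs
    | h1 => exact seq_h1_of_koszul (seq_koszul_of_regular hrs)
    | quasi => exact seq_quasi .regular hrs⟩

/-- Over a locally Noetherian scheme the four kinds of regular immersion agree. -/
theorem isRegularImmersion_kind_iff [IsLocallyNoetherian X] (k : RegImm.Kind) (i : Z ⟶ X) :
    RegImm.IsRegularImmersion k i ↔ RegImm.IsRegularImmersion .regular i :=
  ⟨fun h => ⟨h.1, fun z => isRegularImmersionAt_regular i k z (h.2 z)⟩,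
    isRegularImmersion_of_isRegularImmersion_regular k i⟩

/-- Regularity at a point may be checked on an open of the target. -/
theorem isRegularImmersionAt_of_restrict (k : RegImm.Kind) (i : Z ⟶ X) (T : X.Opens) (z : Z) (hz : z ∈ i ⁻¹ᵁ T)
    (h : RegImm.IsRegularImmersionAt k (i ∣_ T) ⟨z, hz⟩) : RegImm.IsRegularImmersionAt k i z := by
  obtain ⟨⟨U, hU⟩, hzU, hci, rs, hrs, hker⟩ := h
  refine exists_seq_of_ker k i z ⟨T.ι ''ᵁ U, hU.image_of_isOpenImmersion T.ι⟩ ⟨_, hzU, ?_⟩
    ((MorphismProperty.arrow_mk_iso_iff @IsClosedImmersion (morphismRestrictRestrict i T U)).mp hci)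
    (RingHom.id _) (RingHom.Flat.id _) rs hrs ?_
  · show T.ι ((i ∣_ T) ⟨z, hz⟩) = i z
    exact congrArg (fun φ : (↑(i ⁻¹ᵁ T) : Scheme.{u}) ⟶ X => φ ⟨z, hz⟩) (morphismRestrict_ι i T)
  refine Eq.trans ?_ (hker.trans (congrArg Ideal.ofList (List.map_id rs).symm))
  show RingHom.ker (i.app (T.ι ''ᵁ U)).hom = RingHom.ker ((i ∣_ T).app U).hom
  rw [morphismRestrict_app]
  ext x
  refine ⟨fun hx => ?_, fun hx => ?_⟩
  · show (Z.presheaf.map _).hom ((i.app (T.ι ''ᵁ U)).hom x) = 0
    rw [show (i.app (T.ι ''ᵁ U)).hom x = 0 from hx, map_zero]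
  · exact (ConcreteCategory.bijective_of_isIso
      (Z.presheaf.map (eqToHom (image_morphismRestrict_preimage i T U)).op)).1
      (Eq.trans (show (Z.presheaf.map _).hom ((i.app (T.ι ''ᵁ U)).hom x) = 0 from hx) (map_zero _).symm)

/-- An immersion which is Koszul at a point is a Koszul-regular immersion at that point. -/
theorem isRegularImmersionAt_of_isKoszulAt (i : Z ⟶ X) [IsImmersion i] (z : Z) (h : Synt.IsKoszulAt i z) :
    RegImm.IsRegularImmersionAt .koszul i z := by
  obtain ⟨U, P, j, π, hzU, -, hj, hπ, hfac⟩ := h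
  have hU : MorLCI (U.ι ≫ i) := hfac ▸ MorphismProperty.comp_mem _ _ _
    (morLCI_of_isRegularImmersion j hj) (morLCI_of_smooth π)
  obtain ⟨O, hO, hOU⟩ := (i.isEmbedding.isInducing.isOpen_iff).mp U.2
  let T : X.Opens := ⟨O, hO⟩
  have hT : i ⁻¹ᵁ T = U := TopologicalSpace.Opens.ext hOU
  have h1 : MorLCI ((i ∣_ T) ≫ T.ι) := by
    rw [morphismRestrict_ι, hT]
    exact hU
  exact isRegularImmersionAt_of_restrict .koszul i T z (hT ▸ hzU)
    ((isRegularImmersion_of_morLCI (i ∣_ T) (morLCI_of_comp_smooth _ T.ι h1)).2 _)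

end Groth.KoszulLCI
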