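import Groth.Agent.KoszulLCI.Immersion
import Groth.Agent.FrobLCI.RegularSpread
import Groth.Agent.Ega4Algebra2.RegularQuotient
import Groth.Agent.KoszulCone.Cohomology
import Mathlib.RingTheory.RegularLocalRing.Polynomial

/-!
# Weakly regular sequences and regular rings give local complete intersections
-/

set_option autoImplicit false

universe u

open RingTheory.Sequence

namespace Groth.KoszulLCI

theorem isKoszulRegularSeq_of_isWeaklyRegular {A : Type u} [CommRing A] {l : List A}
    (h : IsWeaklyRegular A l) : LCI.IsKoszulRegularSeq A l := fun i hi => by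
  have := Groth.KoszulCone.subsingleton_of_isWeaklyRegular l (ModuleCat.of A A) h i hi
  exact (ModuleCat.isZero_of_subsingleton ((CohIII.koszulCx (ModuleCat.of A A) l).homology i)).of_iso
    ((HomologicalComplex.homologyFunctor _ _ i).mapIso (CategoryTheory.eqToIso (koszul_eq_koszulCx A l)))

/-- In a Noetherian ring an ideal locally generated by regular sequences is Koszul-regular. -/
theorem isKoszulRegularIdeal_of_isWeaklyRegular_atPrime {A : Type u} [CommRing A] [IsNoetherianRing A]
    {I : Ideal A} (h : ∀ (p : Ideal A) [p.IsPrime], I ≤ p → ∃ rs : List (Localization.AtPrime p),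
      IsWeaklyRegular (Localization.AtPrime p) rs ∧
        Ideal.ofList rs = I.map (algebraMap A (Localization.AtPrime p))) :
    LCI.IsKoszulRegularIdeal I := by
  refine isKoszulRegularIdeal_of_away fun p _ hp => ?_
  obtain ⟨rs, hrs, hrsI⟩ := h p hp
  have hy : ∀ x ∈ rs, ∃ y ∈ I, Associated x (algebraMap A (Localization.AtPrime p) y) := fun x hx => by
    obtain ⟨⟨⟨y, hy⟩, s⟩, he⟩ := (IsLocalization.mem_map_algebraMap_iff p.primeCompl _).mp
      (hrsI ▸ mem_ofList hx)
    exact ⟨y, hy, (IsLocalization.map_units (Localization.AtPrime p) s).unit, he⟩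
  choose! y hyI hy using hy
  let f : List A := rs.map y
  have hass : List.Forall₂ Associated rs (f.map (algebraMap A (Localization.AtPrime p))) := by
    simp only [f, List.map_map]
    exact List.forall₂_map_right_iff.mpr (List.forall₂_same.mpr fun x hx => hy x hx)
  obtain ⟨t, ht, hreg⟩ := Groth.FrobLCI.RegularSpread.exists_away p f
    (Groth.FrobLCI.RegularSpread.isWeaklyRegular_of_forall₂ hass hrs)
  obtain ⟨h₁, hh₁, h₁I⟩ := exists_away_generators (IsNoetherian.noetherian I) p f (by
    rw [Ideal.map_ofList, ← Groth.FrobLCI.RegularSpread.ofList_eq_of_forall₂ hass, hrsI])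
  refine ⟨t * h₁, fun hm => (Ideal.IsPrime.mem_or_mem ‹p.IsPrime› hm).elim ht hh₁,
    Localization.Away (t * h₁), inferInstance, inferInstance, inferInstance, f.length,
    f.map (algebraMap A _), by simp, isKoszulRegularSeq_of_isWeaklyRegular (hreg _ (dvd_mul_right _ _)), ?_⟩
  rw [← Ideal.map_ofList]
  refine le_antisymm (Ideal.map_mono (Ideal.span_le.mpr fun z hz => ?_))
    (Ideal.map_le_iff_le_comap.mpr fun x hx => ?_)
  · obtain ⟨x, hx, rfl⟩ := List.mem_map.mp hz
    exact hyI x hx
  · have hu : IsUnit (algebraMap A (Localization.Away (t * h₁)) h₁) :=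
      isUnit_of_dvd_unit (map_dvd _ (dvd_mul_left h₁ t)) (IsLocalization.Away.algebraMap_isUnit _)
    rw [Ideal.mem_comap, ← Ideal.unit_mul_mem_iff_mem _ hu, ← map_mul]
    exact Ideal.mem_map_of_mem _ (h₁I x hx)

/-- A finite type map of regular rings is a local complete intersection. -/
theorem isLCI_of_isRegularRing {A B : Type u} [CommRing A] [CommRing B] [Algebra A B] [IsRegularRing A]
    [IsRegularRing B] [hft : Algebra.FiniteType A B] : LCI.IsLCI A B := by
  obtain ⟨n, α, hα⟩ := Algebra.FiniteType.iff_quotient_mvPolynomial''.mp hft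
  refine ⟨hft, n, α, hα, isKoszulRegularIdeal_of_isWeaklyRegular_atPrime fun q _ hq => ?_⟩
  have : (q.map α.toRingHom).IsPrime := Ideal.map_isPrime_of_surjective hα hq
  have hc : (q.map α.toRingHom).comap α.toRingHom = q :=
    (Ideal.comap_map_of_surjective _ hα q).trans (sup_eq_left.mpr hq)
  let θ := Localization.localRingHom q (q.map α.toRingHom) α.toRingHom hc.symm
  have hθ : Function.Surjective θ := fun x => by
    obtain ⟨b, ⟨s, hs⟩, rfl⟩ := IsLocalization.exists_mk'_eq (q.map α.toRingHom).primeCompl x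
    obtain ⟨a, rfl⟩ := hα b
    obtain ⟨c, rfl⟩ := hα s
    exact ⟨IsLocalization.mk' _ a (⟨c, fun h => hs (Ideal.mem_map_of_mem α.toRingHom h)⟩ : q.primeCompl),
      Localization.localRingHom_mk' _ _ _ _ _ _⟩
  have hker : RingHom.ker θ = (RingHom.ker α.toRingHom).map
      (algebraMap (MvPolynomial (Fin n) A) (Localization.AtPrime q)) := by
    refine le_antisymm (fun x hx => ?_) ?_
    · obtain ⟨a, s, rfl⟩ := IsLocalization.exists_mk'_eq q.primeCompl x
      rw [RingHom.mem_ker, Localization.localRingHom_mk', IsLocalization.mk'_eq_zero_iff] at hx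
      obtain ⟨⟨c', hc'⟩, hca⟩ := hx
      obtain ⟨c, rfl⟩ := hα c'
      rw [IsLocalization.mk'_mem_map_algebraMap_iff]
      exact ⟨c, fun h => hc' (Ideal.mem_map_of_mem α.toRingHom h),
        RingHom.mem_ker.mpr ((map_mul α.toRingHom c a).trans hca)⟩
    · rw [Ideal.map_le_iff_le_comap]
      intro a ha
      rw [Ideal.mem_comap, RingHom.mem_ker, Localization.localRingHom_to_map, RingHom.mem_ker.mp ha,
        map_zero]
  have : IsRegularLocalRing (Localization.AtPrime q ⧸ RingHom.ker θ) :=
    IsRegularLocalRing.of_ringEquiv (RingHom.quotientKerEquivOfSurjective hθ).symm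
  obtain ⟨rs, h1, -, h3⟩ := Groth.Ega4b.exists_regularSeq_of_regular_quotient
    (Localization.AtPrime q) (RingHom.ker θ)
  exact ⟨rs, h1, h3.trans hker⟩

end Groth.KoszulLCI
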