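import Groth.Agent.KoszulLCI.Seq

/-!
# Koszul-regular sequences generating a given ideal

A Koszul-regular sequence generating a proper ideal is of minimal length, and any sequence of
that length generating the same ideal is Koszul-regular.
-/

set_option autoImplicit false

universe u

open IsLocalRing

namespace Groth.KoszulLCI

variable {R : Type u} [CommRing R]

theorem ofList_eq_of_perm {l l' : List R} (h : l.Perm l') : Ideal.ofList l = Ideal.ofList l' := by
  have : { r | r ∈ l } = { r | r ∈ l' } := Set.ext fun _ => h.mem_iff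
  exact congrArg Ideal.span this

theorem mem_ofList {l : List R} {a : R} (h : a ∈ l) : a ∈ Ideal.ofList l := Ideal.subset_span h

theorem fg_ofList (l : List R) : (Ideal.ofList l).FG :=
  Submodule.fg_span (List.finite_toSet l)

theorem isKoszulRegularSeq_of_eq_top {l : List R} (h : Ideal.ofList l = ⊤) :
    LCI.IsKoszulRegularSeq R l := fun i _ =>
  isZero_iff_forall.mpr fun x => by
    rw [← one_smul R x]
    exact smul_H_eq_zero l 1 (h ▸ Submodule.mem_top) i x

theorem notMem_tail {a : R} {l : List R} (h : LCI.IsKoszulRegularSeq R (a :: l))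
    (hne : Ideal.ofList (a :: l) ≠ ⊤) : a ∉ Ideal.ofList l := fun ha => by
  refine hne (top_unique ?_)
  rw [← show Ideal.ofList l = ⊤ from
    (Ideal.eq_top_iff_one _).mpr (mem_of_mul_mem h (by rwa [mul_one]))]
  rw [Ideal.ofList_cons]
  exact le_sup_right

variable [IsLocalRing R]

/-- An element outside `𝔪(f) ⊔ J` involves one of the generators with unit coefficient. -/
theorem exists_unit_coeff (J : Ideal R) : ∀ (f : List R) (a : R), a ∈ Ideal.ofList f ⊔ J →
    a ∉ maximalIdeal R • Ideal.ofList f ⊔ J →
    ∃ (b c y : R) (f' : List R), f.Perm (b :: f') ∧ IsUnit c ∧ y ∈ Ideal.ofList f' ⊔ J ∧ a = c * b + y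
  | [], a, ha, ha' => by
    rw [Ideal.ofList_nil, bot_sup_eq] at ha
    exact absurd (Ideal.mem_sup_right ha) ha'
  | b₀ :: f₀, a, ha, ha' => by
    rw [Ideal.ofList_cons, sup_assoc, Submodule.mem_sup] at ha
    obtain ⟨z, hz, y₀, hy₀, rfl⟩ := ha
    obtain ⟨c, rfl⟩ := Ideal.mem_span_singleton'.mp hz
    by_cases hc : IsUnit c
    · exact ⟨b₀, c, y₀, f₀, List.Perm.refl _, hc, hy₀, rfl⟩
    · have h1 : y₀ ∉ maximalIdeal R • Ideal.ofList f₀ ⊔ J := fun h => ha' <| by
        refine add_mem (Ideal.mem_sup_left (Submodule.smul_mem_smul ((mem_maximalIdeal c).mpr hc)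
          (mem_ofList (List.mem_cons_self ..)))) ?_
        exact sup_le_sup_right (Submodule.smul_mono le_rfl (by rw [Ideal.ofList_cons]; exact le_sup_right)) J h
      obtain ⟨b, c', y, f', hp, hc', hy, rfl⟩ := exists_unit_coeff J f₀ y₀ hy₀ h1
      refine ⟨b, c', c * b₀ + y, b₀ :: f', (hp.cons b₀).trans (List.Perm.swap b b₀ f'), hc', ?_, by ring⟩
      refine add_mem (Ideal.mem_sup_left (Ideal.mul_mem_left _ c (mem_ofList (List.mem_cons_self ..)))) ?_
      exact sup_le_sup_right (by rw [Ideal.ofList_cons]; exact le_sup_right) J hy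

/-- Exchange lemma. -/
theorem exchange : ∀ (n : ℕ) (f p q : List R), f.length = n →
    LCI.IsKoszulRegularSeq R (p ++ f) → Ideal.ofList (p ++ f) ≠ ⊤ →
    Ideal.ofList (p ++ q) = Ideal.ofList (p ++ f) →
    f.length ≤ q.length ∧ (q.length = f.length → LCI.IsKoszulRegularSeq R (p ++ q)) ∧
      (f.length < q.length → ∃ (a : R) (rest : List R), (p ++ q).Perm (a :: rest) ∧
        Ideal.ofList rest = Ideal.ofList (p ++ f))
  | 0, f, p, q, hn, hf, _, heq => by
    rw [List.length_eq_zero_iff] at hn
    subst hn
    refine ⟨Nat.zero_le _, fun h => by rwa [List.length_eq_zero_iff.mp h], fun h => ?_⟩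
    match q, h with
    | a :: q', _ =>
      refine ⟨a, p ++ q', List.perm_middle, le_antisymm ?_ ?_⟩
      · rw [← heq, Ideal.ofList_append, Ideal.ofList_append, Ideal.ofList_cons]
        exact sup_le_sup_left le_sup_right _
      · rw [List.append_nil, Ideal.ofList_append]
        exact le_sup_left
  | n + 1, f, p, q, hn, hf, hne, heq => by
    obtain ⟨a, haq, ha⟩ : ∃ a ∈ q, a ∉ maximalIdeal R • Ideal.ofList f ⊔ Ideal.ofList p := by
      by_contra! hall
      have h1 : Ideal.ofList f ≤ Ideal.ofList p := by
        refine Submodule.le_of_le_smul_of_le_jacobson_bot (fg_ofList f)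
          (maximalIdeal_le_jacobson _) ?_
        refine (le_trans (by rw [← heq]) (?_ : Ideal.ofList (p ++ q) ≤ _) :
          Ideal.ofList (p ++ f) ≤ _) |> fun h => le_trans (by rw [Ideal.ofList_append]; exact le_sup_right) h
        rw [Ideal.ofList_append]
        exact sup_le le_sup_left (Ideal.span_le.mpr fun a ha => by
          rw [SetLike.mem_coe, sup_comm]; exact hall a ha)
      match f, hn with
      | b :: f₀, _ =>
        have hperm : (p ++ b :: f₀).Perm (b :: (p ++ f₀)) := List.perm_middle
        refine notMem_tail ((isKoszulRegularSeq_perm hperm).mp hf)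
          (by rwa [← ofList_eq_of_perm hperm]) ?_
        rw [Ideal.ofList_append]
        exact Ideal.mem_sup_left (h1 (mem_ofList (List.mem_cons_self ..)))
    have haI : a ∈ Ideal.ofList f ⊔ Ideal.ofList p := by
      rw [sup_comm, ← Ideal.ofList_append, ← heq]
      exact mem_ofList (List.mem_append_right _ haq)
    obtain ⟨b, c, y, f', hp, hc, hy, hay⟩ := exists_unit_coeff _ f a haI ha
    obtain ⟨q', hq⟩ : ∃ q', q.Perm (a :: q') := by
      classical exact ⟨_, List.perm_cons_erase haq⟩
    have hpf : (p ++ f).Perm (b :: (p ++ f')) := (hp.append_left p).trans List.perm_middle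
    have hpq : (p ++ q).Perm ((a :: p) ++ q') := (hq.append_left p).trans List.perm_middle
    have hy' : y ∈ Ideal.ofList (p ++ f') := by rwa [Ideal.ofList_append, sup_comm]
    have h1 : LCI.IsKoszulRegularSeq R ((a :: p) ++ f') := by
      rw [List.cons_append]
      refine (isKoszulRegularSeq_cons_congr _ (?_ : c * b - a ∈ Ideal.ofList (p ++ f'))).mp ?_
      · rw [hay, sub_add_cancel_left]
        exact neg_mem hy'
      · exact (isKoszulRegularSeq_cons_unit_mul hc _).mpr ((isKoszulRegularSeq_perm hpf).mp hf)
    have hI : Ideal.ofList ((a :: p) ++ f') = Ideal.ofList (p ++ f) := by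
      rw [List.cons_append, ofList_eq_of_perm hpf, Ideal.ofList_cons, Ideal.ofList_cons]
      refine le_antisymm (sup_le ?_ le_sup_right) (sup_le ?_ le_sup_right) <;>
        rw [Ideal.span_le, Set.singleton_subset_iff, SetLike.mem_coe]
      · rw [hay]
        exact add_mem (Ideal.mem_sup_left (Ideal.mem_span_singleton'.mpr ⟨c, rfl⟩))
          (Ideal.mem_sup_right hy')
      · obtain ⟨c, rfl⟩ := hc
        rw [show b = (↑c⁻¹ : R) * a - (↑c⁻¹ : R) * y by rw [hay, mul_add, ← mul_assoc, Units.inv_mul]; ring]
        exact sub_mem (Ideal.mem_sup_left (Ideal.mem_span_singleton'.mpr ⟨_, rfl⟩))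
          (Ideal.mem_sup_right (Ideal.mul_mem_left _ _ hy'))
    have hlen : f'.length = n := by
      have := hp.length_eq
      simp at this
      omega
    obtain ⟨hle, hreg, hred⟩ := exchange n f' (a :: p) q' hlen h1 (hI ▸ hne)
      (by rw [← ofList_eq_of_perm hpq, heq, hI])
    have hql : q.length = q'.length + 1 := by simpa using hq.length_eq
    refine ⟨by omega, fun h => (isKoszulRegularSeq_perm hpq).mpr (hreg (by omega)), fun h => ?_⟩
    obtain ⟨a', rest, hperm, hrest⟩ := hred (by omega)
    exact ⟨a', rest, hpq.trans hperm, hrest.trans hI⟩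

theorem length_le_of_ofList_eq {f g : List R} (hf : LCI.IsKoszulRegularSeq R f)
    (hne : Ideal.ofList f ≠ ⊤) (heq : Ideal.ofList g = Ideal.ofList f) : f.length ≤ g.length :=
  (exchange _ f [] g rfl hf hne heq).1

theorem isKoszulRegularSeq_of_local {f g : List R} (hf : LCI.IsKoszulRegularSeq R f)
    (heq : Ideal.ofList g = Ideal.ofList f) (hlen : g.length = f.length) :
    LCI.IsKoszulRegularSeq R g := by
  by_cases hne : Ideal.ofList f = ⊤
  · exact isKoszulRegularSeq_of_eq_top (heq.trans hne)
  · exact (exchange _ f [] g rfl hf hne heq).2.1 hlen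

end Groth.KoszulLCI

namespace Groth.KoszulLCI

variable {R : Type u} [CommRing R]

theorem isKoszulRegularSeq_localization (p : Ideal R) [p.IsPrime] {l : List R}
    (h : LCI.IsKoszulRegularSeq R l) :
    LCI.IsKoszulRegularSeq (Localization.AtPrime p) (l.map (algebraMap R (Localization.AtPrime p))) :=
  Groth.KoszulReg.isKoszulRegularSeq_map _ (RingHom.flat_algebraMap_iff.mpr inferInstance) _ h

/-- Any generating sequence of the same length as a Koszul-regular one is Koszul-regular. -/
theorem isKoszulRegularSeq_of_ofList_eq {f g : List R} (hf : LCI.IsKoszulRegularSeq R f)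
    (heq : Ideal.ofList g = Ideal.ofList f) (hlen : g.length = f.length) :
    LCI.IsKoszulRegularSeq R g :=
  isKoszulRegularSeq_of_localization g fun m _ _ =>
    isKoszulRegularSeq_of_local (isKoszulRegularSeq_localization m hf)
      (by rw [← Ideal.map_ofList, ← Ideal.map_ofList, heq]) (by simp [hlen])

theorem length_le_of_regular {f g : List R} (hf : LCI.IsKoszulRegularSeq R f)
    (hne : Ideal.ofList f ≠ ⊤) (heq : Ideal.ofList g = Ideal.ofList f) : f.length ≤ g.length := by
  obtain ⟨m, hm, hle⟩ := Ideal.exists_le_maximal _ hne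
  have := length_le_of_ofList_eq (isKoszulRegularSeq_localization m hf) (g := g.map (algebraMap R (Localization.AtPrime m)))
    (by
      rw [← Ideal.map_ofList]
      exact ne_top_of_le_ne_top (IsLocalRing.maximalIdeal.isMaximal _).ne_top
        ((Ideal.map_mono hle).trans (Localization.AtPrime.map_eq_maximalIdeal).le))
    (by rw [← Ideal.map_ofList, ← Ideal.map_ofList, heq])
  simpa using this

end Groth.KoszulLCI
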