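import Groth.Agent.KoszulLCI.ConormalFree
import Groth.Agent.KoszulLCI.Kinds
import Groth.Agent.QCohMod.PullbackSections
import Groth.Agent.QCohMod.Category
import Groth.Agent.Ega2Proj.IsoAffine
import Groth.Agent.LocCohBase.HomExtend

/-!
# The conormal sheaf of the zero scheme of a regular section of a locally free module
-/

set_option autoImplicit false

universe u

open CategoryTheory Limits AlgebraicGeometry Opposite TopologicalSpace TensorProduct

namespace Groth.KoszulLCI

open Groth.OmegaSheaf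
open Groth.PicAux (pullSec pullSec_map)

variable {X Y : Scheme.{u}}

set_option backward.isDefEq.respectTransparency false in
set_option backward.isDefEq.respectTransparency.types false in
/-- If a basis of `E` over `U` maps to an `H₁`-regular sequence generating the ideal, `i^*t` is bijective over
`i⁻¹U`. -/
theorem pullback_map_app_bijective {n : ℕ} (E : X.Modules) [E.IsQuasicoherent] (i : Y ⟶ X) [IsClosedImmersion i]
    (t : E ⟶ ClSub.idealMod i.ker) [Epi t] {U : X.Opens} (hU : IsAffineOpen U)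
    (b : Module.Basis (Fin n) Γ(X, U) Γ(E, U))
    (hf : CAlgX.IsH1Regular fun k => OmegaSh.idealSect i.ker U (t.app U (b k))) :
    Function.Bijective (((Scheme.Modules.pullback i).map t).app (i ⁻¹ᵁ U)) := by
  let _ := Groth.QCohMod.sectionsAlg i (le_refl (i ⁻¹ᵁ U))
  have hV : IsAffineOpen (i ⁻¹ᵁ U) := hU.preimage i
  have hW : IsConormalChart i U := ⟨hU, hV, i.app_surjective U hU⟩
  have hker : RingHom.ker (i.app U).hom =
      Ideal.span (Set.range fun k => OmegaSh.idealSect i.ker U (t.app U (b k))) := by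
    rw [← ker_ideal_eq (i := i) hU]
    refine le_antisymm (fun x hx => ?_) (Ideal.span_le.mpr ?_)
    · obtain ⟨k, rfl⟩ := exists_idealSect i.ker ⟨U, hU⟩ hx
      obtain ⟨m, rfl⟩ := Groth.QCohMod.app_surjective_of_epi t hU k
      rw [← b.sum_repr m, map_sum, map_sum]
      refine sum_mem fun l _ => ?_
      rw [Scheme.Modules.Hom.app_smul, idealSect_smul]
      exact Ideal.mul_mem_left _ _ (Ideal.subset_span ⟨l, rfl⟩)
    · rintro _ ⟨l, rfl⟩
      exact idealSect_mem i.ker ⟨U, hU⟩ _
  obtain ⟨B, hB⟩ := exists_basis_conormal i hW _ hf hker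
  let B' := (Algebra.TensorProduct.basis Γ(Y, i ⁻¹ᵁ U) b).map
    (Groth.QCohMod.pullSecEquiv i E (le_refl (i ⁻¹ᵁ U)) hU hV)
  let φ := ((Scheme.Modules.pullback i).map t).app (i ⁻¹ᵁ U)
  let L : Γ((Scheme.Modules.pullback i).obj E, i ⁻¹ᵁ U) →ₗ[Γ(Y, i ⁻¹ᵁ U)] Γ(Omega.conormal i, i ⁻¹ᵁ U) :=
    { φ.hom with map_smul' := fun a x => Scheme.Modules.Hom.app_smul _ a x }
  have hLB : ∀ k, L (B' k) = B k := fun k => by
    rw [hB k _ rfl]
    show φ (Groth.QCohMod.pullSecTensor i E (le_refl (i ⁻¹ᵁ U)) (Algebra.TensorProduct.basis _ b k)) = _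
    rw [Algebra.TensorProduct.basis_apply, Groth.QCohMod.pullSecTensor_tmul, one_smul]
    show φ (((Scheme.Modules.pullback i).obj E).presheaf.map (homOfLE le_rfl).op (pullSec i E (b k))) = _
    rw [show (homOfLE (le_refl (i ⁻¹ᵁ U))).op = 𝟙 (op (i ⁻¹ᵁ U)) from rfl, CategoryTheory.Functor.map_id]
    exact pullSec_map i t (b k)
  have hLe : L = (B'.equiv B (Equiv.refl _)).toLinearMap := B'.ext fun k => by
    rw [hLB, LinearEquiv.coe_coe, Module.Basis.equiv_apply, Equiv.refl_apply]
  show Function.Bijective L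
  rw [hLe]
  exact (B'.equiv B (Equiv.refl _)).bijective

set_option backward.isDefEq.respectTransparency false in
set_option backward.isDefEq.respectTransparency.types false in
/-- **The conormal sheaf of a regular section.** -/
theorem isIso_pullback_map_of_weaklyRegular (n : ℕ) (E : X.Modules)
    (hE : FlatMod.IsFinLocFreeOfRank n E) (s : E ⟶ Coh.structureModule X)
    (hs : ∀ x : X, ∃ U : X.affineOpens, x ∈ U.1 ∧
      ∃ b : Module.Basis (Fin n) Γ(X, U.1) (E.val.obj (op U.1)),
        @RingTheory.Sequence.IsWeaklyRegular Γ(X, U.1) Γ(X, U.1) _ _ _ (List.ofFn fun k => (s.val.app (op U.1)).hom (b k)))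
    (i : Y ⟶ X) [IsClosedImmersion i] (t : E ⟶ ClSub.idealMod i.ker) [Epi t]
    (hts : t ≫ ClSub.idealModι i.ker = s) :
    IsIso ((Scheme.Modules.pullback i).map t) := by
  have hqE : E.IsQuasicoherent :=
    Groth.LocCohBase.HomExtend.isQCoh_of_isFinLocFree fun x => let ⟨U, hx, h⟩ := hE x; ⟨U, n, hx, h⟩
  choose U hxU b hb using hs
  have : ((Scheme.Modules.pullback i).obj E).IsQuasicoherent := inferInstance
  have : ((Scheme.Modules.pullback i).obj (ClSub.idealMod i.ker)).IsQuasicoherent := inferInstance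
  refine Groth.Ega2Proj.isIso_of_affine_cover _ (fun y : Y => i ⁻¹ᵁ (U (i y)).1)
    (fun y => (U (i y)).2.preimage i) (eq_top_iff.mpr fun y _ => Opens.mem_iSup.mpr ⟨y, hxU (i y)⟩) fun y => ?_
  refine pullback_map_app_bijective E i t (U (i y)).2 (b (i y)) ?_
  have hk := isH1Regular_of_isKoszulRegularSeq
    (Groth.KoszulReg.isKoszulRegularSeq_of_isWeaklyRegular (hb (i y)))
  have h := cast_transfer (fun c g => CAlgX.IsH1Regular (c := c) g) List.length_ofFn.symm _ hk
  convert h using 2 with k
  rw [List.get_ofFn]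
  subst hts
  rfl

end Groth.KoszulLCI
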