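import Groth.Agent.KoszulLCI.Smooth
import Mathlib.RingTheory.Nakayama

/-!
# Cancelling smooth algebras from local complete intersection algebras
-/

set_option autoImplicit false

universe u

open TensorProduct

namespace Groth.KoszulLCI

theorem isKoszulRegularSeq_nil (R : Type u) [CommRing R] : LCI.IsKoszulRegularSeq R [] :=
  fun _ hi => HomologicalComplex.isZero_single_obj_homology _ _ _ _ hi

theorem isKoszulRegularSeq_of_ringEquiv {R S : Type u} [CommRing R] [CommRing S] (e : R ≃+* S)
    {l : List R} (h : LCI.IsKoszulRegularSeq R l) : LCI.IsKoszulRegularSeq S (l.map e.toRingHom) :=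
  Groth.KoszulReg.isKoszulRegularSeq_map e.toRingHom (RingHom.Flat.of_bijective e.bijective) l h

theorem isKoszulRegularIdeal_ofList {R : Type u} [CommRing R] {l : List R}
    (h : LCI.IsKoszulRegularSeq R l) : LCI.IsKoszulRegularIdeal (Ideal.ofList l) := by
  refine isKoszulRegularIdeal_of_away fun p hp _ => ⟨1, hp.one_notMem,
    Localization.Away (1 : R), inferInstance, inferInstance, inferInstance, l.length, ?_⟩
  exact GenReg.map ⟨l, rfl, h, rfl⟩ _
    (RingHom.flat_algebraMap_iff.mpr (IsLocalization.flat _ (Submonoid.powers (1 : R))))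

/-- The variables form a Koszul-regular sequence. -/
theorem isKoszulRegularSeq_vars : ∀ (n : ℕ) (A : Type u) [CommRing A],
    LCI.IsKoszulRegularSeq (MvPolynomial (Fin n) A) (List.ofFn MvPolynomial.X)
  | 0, A, _ => by simpa using isKoszulRegularSeq_nil (MvPolynomial (Fin 0) A)
  | n + 1, A, _ => by
    let P := MvPolynomial (Fin n) A
    let l : List P := List.ofFn MvPolynomial.X
    have hl : LCI.IsKoszulRegularSeq P l := isKoszulRegularSeq_vars n A
    have hX : LCI.IsKoszulRegularSeq (Polynomial P) [Polynomial.X] :=
      isKoszulRegularSeq_singleton Polynomial.monic_X.mem_nonZeroDivisors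
    have h1 : LCI.IsKoszulRegularSeq (Polynomial P) (l.map Polynomial.C ++ [Polynomial.X]) := by
      rw [isKoszulRegularSeq_append_iff _ _ hX (Polynomial.evalRingHom (0 : P))
        (fun x => ⟨Polynomial.C x, Polynomial.eval_C⟩) (by rw [ker_aeval_zero, Ideal.ofList_singleton]),
        List.map_map, show (Polynomial.evalRingHom (0 : P)) ∘ Polynomial.C = id from
          funext fun x => Polynomial.eval_C, List.map_id]
      exact hl
    have h2 := isKoszulRegularSeq_of_ringEquiv (MvPolynomial.finSuccEquiv A n).toRingEquiv.symm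
      (isKoszulRegularSeq_of_perm List.perm_append_comm h1)
    convert h2 using 1
    have e0 : (MvPolynomial.finSuccEquiv A n).toRingEquiv.symm.toRingHom Polynomial.X = MvPolynomial.X 0 :=
      (MvPolynomial.finSuccEquiv A n).symm_apply_eq.mpr (by simp [MvPolynomial.finSuccEquiv_apply])
    have es : ∀ i : Fin n, (MvPolynomial.finSuccEquiv A n).toRingEquiv.symm.toRingHom
        (Polynomial.C (MvPolynomial.X i)) = MvPolynomial.X i.succ := fun i =>
      (MvPolynomial.finSuccEquiv A n).symm_apply_eq.mpr (by simp [MvPolynomial.finSuccEquiv_apply])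
    rw [List.singleton_append, List.map_cons, e0, List.map_map, List.map_ofFn, List.ofFn_succ]
    congr 1
    exact congrArg List.ofFn (funext fun i => (es i).symm)

/-- The shifted variables form a Koszul-regular sequence. -/
theorem isKoszulRegularSeq_sub_C (n : ℕ) (A : Type u) [CommRing A] (a : Fin n → A) :
    LCI.IsKoszulRegularSeq (MvPolynomial (Fin n) A)
      (List.ofFn fun i => MvPolynomial.X i - MvPolynomial.C (a i)) := by
  let s : MvPolynomial (Fin n) A →ₐ[A] MvPolynomial (Fin n) A :=
    MvPolynomial.aeval fun i => MvPolynomial.X i - MvPolynomial.C (a i)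
  let t : MvPolynomial (Fin n) A →ₐ[A] MvPolynomial (Fin n) A :=
    MvPolynomial.aeval fun i => MvPolynomial.X i + MvPolynomial.C (a i)
  let e : MvPolynomial (Fin n) A ≃ₐ[A] MvPolynomial (Fin n) A :=
    AlgEquiv.ofAlgHom s t (MvPolynomial.algHom_ext fun i => by simp [s, t])
      (MvPolynomial.algHom_ext fun i => by simp [s, t])
  have := isKoszulRegularSeq_of_ringEquiv e.toRingEquiv (isKoszulRegularSeq_vars n A)
  rw [List.map_ofFn] at this
  convert this using 2
  funext i
  show _ = s (MvPolynomial.X i)
  simp [s]

open MvPolynomial in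
/-- First order expansion at a point. -/
theorem sub_sum_mem_mul {A : Type u} [CommRing A] {n : ℕ} (a : Fin n → A) (p : MvPolynomial (Fin n) A) :
    p - C (eval a p) - ∑ i, C (eval a (pderiv i p)) * (X i - C (a i)) ∈
      Ideal.span (Set.range fun i => X i - C (a i)) * Ideal.span (Set.range fun i => X i - C (a i)) := by
  classical
  induction p using MvPolynomial.induction_on with
  | C b => simp
  | add p q hp hq =>
    convert add_mem hp hq using 1
    simp only [map_add, add_mul, Finset.sum_add_distrib]
    abel
  | mul_X p j hp =>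
    have hmem : (p - C (eval a p)) * (X j - C (a j)) ∈
        Ideal.span (Set.range fun i => X i - C (a i)) * Ideal.span (Set.range fun i => X i - C (a i)) := by
      refine Ideal.mul_mem_mul ?_ (Ideal.subset_span ⟨j, rfl⟩)
      have h1 : (∑ i, C (eval a (pderiv i p)) * (X i - C (a i))) ∈
          Ideal.span (Set.range fun i => X i - C (a i)) :=
        Ideal.sum_mem _ fun i _ => Ideal.mul_mem_left _ _ (Ideal.subset_span ⟨i, rfl⟩)
      have := add_mem (Ideal.mul_le_left hp) h1
      rwa [sub_add_cancel] at this
    convert add_mem (Ideal.mul_mem_left _ (C (a j)) hp) hmem using 1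
    have hsum : ∑ i, C (eval a (pderiv i (p * X j))) * (X i - C (a i)) =
        C (a j) * ∑ i, C (eval a (pderiv i p)) * (X i - C (a i)) + C (eval a p) * (X j - C (a j)) := by
      rw [Finset.mul_sum]
      have : ∀ i, C (eval a (pderiv i (p * X j))) * (X i - C (a i)) =
          C (a j) * (C (eval a (pderiv i p)) * (X i - C (a i))) +
            (if i = j then C (eval a p) * (X j - C (a j)) else 0) := by
        intro i
        rw [pderiv_mul, pderiv_X]
        split_ifs with h
        · subst h; simp; ring
        · simp [Pi.single_apply, Ne.symm h]; ring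
      rw [Finset.sum_congr rfl fun i _ => this i, Finset.sum_add_distrib, Finset.sum_ite_eq']
      simp
    rw [hsum]
    simp only [map_mul, eval_X]
    ring

/-- Relations with invertible Jacobian form a Koszul-regular sequence. -/
theorem isKoszulRegularSeq_of_isUnit_jac {A S : Type u} [CommRing A] [CommRing S] {n c : ℕ}
    (f : Fin c → MvPolynomial (Fin n) A) (m : Fin c → Fin n) (hm : Function.Injective m)
    (θ : MvPolynomial (Fin n) A →+* S) (hθ : θ.Flat)
    (hu : IsUnit (θ (Matrix.of fun i j => MvPolynomial.pderiv (m i) (f j)).det)) :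
    LCI.IsKoszulRegularSeq S ((List.ofFn f).map θ) := by
  classical
  let f' : ULift.{u} (Fin c) → MvPolynomial (ULift.{u} (Fin n)) A :=
    fun s => MvPolynomial.rename ULift.up (f s.down)
  let m' : ULift.{u} (Fin c) → ULift.{u} (Fin n) := fun s => ULift.up (m s.down)
  let E := MvPolynomial.renameEquiv A (Equiv.ulift.{u} (α := Fin n))
  let g := jac f' m'
  have hg : E g = (Matrix.of fun i j => MvPolynomial.pderiv (m i) (f j)).det := by
    show E.toAlgHom.toRingHom g = _
    simp only [g, jac, RingHom.map_det, RingHom.mapMatrix_apply]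
    rw [← Matrix.det_submatrix_equiv_self Equiv.ulift.symm]
    congr 1
    ext i j : 1
    show E (MvPolynomial.pderiv (ULift.up (m i)) (MvPolynomial.rename ULift.up (f j))) =
      MvPolynomial.pderiv (m i) (f j)
    rw [MvPolynomial.pderiv_rename ULift.up_injective, MvPolynomial.renameEquiv_apply,
      MvPolynomial.rename_rename]
    exact MvPolynomial.rename_id_apply _
  let ψ := θ.comp E.toRingEquiv.toRingHom
  have hψ : ψ.Flat := RingHom.Flat.comp (RingHom.Flat.of_bijective E.bijective) hθ
  let _ : Algebra (MvPolynomial (ULift.{u} (Fin n)) A) S := ψ.toAlgebra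
  have : Module.Flat (MvPolynomial (ULift.{u} (Fin n)) A) S := hψ
  have hgu : IsUnit (ψ g) := by
    show IsUnit (θ (E g))
    rw [hg]
    exact hu
  let φ : Localization.Away g →+* S := IsLocalization.Away.lift g hgu
  have hφ : φ.comp (algebraMap _ (Localization.Away g)) = ψ := IsLocalization.Away.lift_comp g hgu
  let R := (MvPolynomial.renameEquiv A (Equiv.ulift.{u} (α := Fin c))).symm
  have h1 := isKoszulRegularSeq_of_ringEquiv R.toRingEquiv (isKoszulRegularSeq_vars c A)
  have h2 := Groth.KoszulReg.isKoszulRegularSeq_map _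
    (RingHom.Flat.comp (flat_away_jac f' m' fun a b h => ULift.down_injective (hm (congrArg ULift.down h)))
      (flat_of_isLocalization (Submonoid.powers g) φ hφ)) _ h1
  rw [List.map_ofFn, List.map_ofFn] at h2
  rw [List.map_ofFn]
  convert h2 using 2
  funext s
  show θ (f s) = φ (algebraMap _ (Localization.Away g) (MvPolynomial.aeval f' (R (MvPolynomial.X s))))
  rw [← RingHom.comp_apply φ, hφ]
  simp [R, f', ψ, E, MvPolynomial.rename_rename]
  exact congrArg θ (MvPolynomial.rename_id_apply _).symm

/-- A retraction of a standard smooth algebra onto the base is a local complete intersection. -/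
theorem isKoszulRegularIdeal_ker_retraction {C T : Type u} [CommRing C] [CommRing T] [Algebra C T]
    [h : Algebra.IsStandardSmooth C T] (μ : T →ₐ[C] C) :
    LCI.IsKoszulRegularIdeal (RingHom.ker μ.toRingHom) := by
  classical
  obtain ⟨ι', σ', _, _, ⟨P₀⟩⟩ := h.out
  obtain ⟨n, ⟨e⟩⟩ := Finite.exists_equiv_fin ι'
  obtain ⟨c, ⟨d⟩⟩ := Finite.exists_equiv_fin σ'
  let P := P₀.toPreSubmersivePresentation.reindex e.symm d.symm
  have hjac : IsUnit P.jacobian := by
    rw [Algebra.PreSubmersivePresentation.jacobian_reindex]
    exact P₀.jacobian_isUnit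
  let α : MvPolynomial (Fin n) C →ₐ[C] T := MvPolynomial.aeval P.val
  have hα : Function.Surjective α := P.aeval_val_surjective
  let a : Fin n → C := fun i => μ (P.val i)
  let y : Fin n → MvPolynomial (Fin n) C := fun i => MvPolynomial.X i - MvPolynomial.C (a i)
  let 𝔞 : Ideal (MvPolynomial (Fin n) C) := Ideal.span (Set.range y)
  have hμα : ∀ p, μ (α p) = MvPolynomial.eval a p := fun p => by
    show (μ.comp α) p = (MvPolynomial.aeval a) p
    congr 1
    exact MvPolynomial.algHom_ext fun i => by simp [α, a]
  have hker : RingHom.ker α.toRingHom = Ideal.span (Set.range P.relation) := by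
    rw [P.span_range_relation_eq_ker, P.toGenerators.ker_eq_ker_aeval_val]
    rfl
  have hker𝔞 : ∀ p : MvPolynomial (Fin n) C, p - MvPolynomial.C (MvPolynomial.eval a p) ∈ 𝔞 := by
    intro p
    induction p using MvPolynomial.induction_on with
    | C b => simp
    | add p q hp hq => rw [map_add, map_add, add_sub_add_comm]; exact add_mem hp hq
    | mul_X p i hp =>
      have : p * MvPolynomial.X i - MvPolynomial.C (MvPolynomial.eval a (p * MvPolynomial.X i)) =
          (p - MvPolynomial.C (MvPolynomial.eval a p)) * MvPolynomial.X i +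
            MvPolynomial.C (MvPolynomial.eval a p) * y i := by
        simp [y]; ring
      rw [this]
      exact add_mem (Ideal.mul_mem_right _ _ hp) (Ideal.mul_mem_left _ _ (Ideal.subset_span ⟨i, rfl⟩))
  have hrel𝔞 : ∀ j, P.relation j ∈ 𝔞 := fun j => by
    have h0 : α (P.relation j) = 0 := RingHom.mem_ker.mp (hker.ge (Ideal.subset_span ⟨j, rfl⟩))
    have := hker𝔞 (P.relation j)
    rwa [← hμα, h0, map_zero, MvPolynomial.C_0, sub_zero] at this
  have hIT : RingHom.ker μ.toRingHom = 𝔞.map α.toRingHom := by
    refine le_antisymm (fun t ht => ?_) ?_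
    · obtain ⟨p, rfl⟩ := hα t
      have := Ideal.mem_map_of_mem α.toRingHom (hker𝔞 p)
      rwa [← hμα, show μ (α p) = 0 from ht, MvPolynomial.C_0, sub_zero] at this
    · rw [Ideal.map_le_iff_le_comap, Ideal.span_le]
      rintro _ ⟨i, rfl⟩
      show μ (α (y i)) = 0
      rw [hμα]; simp [y]
  -- the Jacobian minor at the point
  let M : Matrix (Fin c) (Fin c) C :=
    Matrix.of fun i j => MvPolynomial.eval a (MvPolynomial.pderiv (P.map i) (P.relation j))
  have hM : IsUnit M.det := by
    have : M.det = μ (P.jacobian) := by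
      rw [P.jacobian_eq_jacobiMatrix_det, show algebraMap P.Ring T P.jacobiMatrix.det = α P.jacobiMatrix.det from rfl,
        hμα, RingHom.map_det]
      congr 1
      ext i j
      simp [M, P.jacobiMatrix_apply]
    rw [this]
    exact hjac.map μ
  let others : List (Fin n) := (List.finRange n).filter fun i => ¬ ∃ j, P.map j = i
  let fs : List (MvPolynomial (Fin n) C) := List.ofFn P.relation
  let gs : List (MvPolynomial (Fin n) C) := others.map y
  have hlen : gs.length + fs.length = n := by
    let ms : List (Fin n) := List.ofFn P.map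
    have hperm : List.Perm (others ++ ms) (List.finRange n) := by
      refine (List.perm_ext_iff_of_nodup ?_ (List.nodup_finRange n)).mpr fun i => ?_
      · refine List.nodup_append.mpr ⟨(List.nodup_finRange n).filter _, List.nodup_ofFn.mpr P.map_inj, ?_⟩
        intro i hi j hj hij
        simp only [others, List.mem_filter, decide_eq_true_eq] at hi
        exact hi.2 ((List.mem_ofFn' P.map i).mp (hij ▸ hj))
      · simp only [List.mem_append, List.mem_finRange, iff_true]
        by_cases hi : ∃ j, P.map j = i
        · exact Or.inr ((List.mem_ofFn' P.map i).mpr hi)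
        · exact Or.inl (List.mem_filter.mpr ⟨List.mem_finRange i, by simpa using hi⟩)
    have := hperm.length_eq
    simpa [gs, fs, ms] using this
  refine isKoszulRegularIdeal_of_locReg ?_ fun p _ hp => ⟨1, Ideal.IsPrime.one_notMem ‹_›, gs.length,
    fun q _ hq _ => ?_⟩
  · rw [hIT]; exact Ideal.FG.map (Submodule.fg_span (Set.finite_range y)) _
  -- the local rings
  let Q : Ideal (MvPolynomial (Fin n) C) := q.comap α.toRingHom
  have hQ : 𝔞 ≤ Q := Ideal.map_le_iff_le_comap.mp (hIT.ge.trans hq)
  let loc := algebraMap (MvPolynomial (Fin n) C) (Localization.AtPrime Q)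
  have hreg : LCI.IsKoszulRegularSeq (Localization.AtPrime Q) ((List.ofFn y).map loc) :=
    isKoszulRegularSeq_localization Q (isKoszulRegularSeq_sub_C n C a)
  have hofFn : Ideal.ofList (List.ofFn y) = 𝔞 :=
    congrArg Ideal.span (Set.ext fun x => List.mem_ofFn' y x)
  have hgen : Ideal.ofList ((gs ++ fs).map loc) = 𝔞.map loc := by
    refine le_antisymm ?_ ?_
    · rw [← Ideal.map_ofList]
      refine Ideal.map_mono (Ideal.span_le.mpr fun x hx => ?_)
      rcases List.mem_append.mp hx with hx | hx
      · obtain ⟨i, -, rfl⟩ := List.mem_map.mp hx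
        exact Ideal.subset_span ⟨i, rfl⟩
      · obtain ⟨j, rfl⟩ := (List.mem_ofFn' _ x).mp hx
        exact hrel𝔞 j
    · rw [← Ideal.map_ofList]
      refine Submodule.le_of_le_smul_of_le_jacobson_bot (I := 𝔞.map loc)
        (Ideal.FG.map (Submodule.fg_span (Set.finite_range y)) _) ?_ ?_
      · rw [IsLocalRing.jacobson_eq_maximalIdeal ⊥ bot_ne_top, ← Localization.AtPrime.map_eq_maximalIdeal]
        exact Ideal.map_mono hQ
      rw [smul_eq_mul, ← Ideal.map_mul, ← Ideal.map_sup]
      refine Ideal.map_mono ?_
      -- solve for the pivot variables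
      let J := Ideal.ofList (gs ++ fs) ⊔ 𝔞 * 𝔞
      have hothers : ∀ i, (¬ ∃ j, P.map j = i) → y i ∈ J := fun i hi =>
        Ideal.mem_sup_left (Ideal.subset_span (List.mem_append_left _ (List.mem_map.mpr
          ⟨i, List.mem_filter.mpr ⟨List.mem_finRange i, by simpa using hi⟩, rfl⟩)))
      have hlin : ∀ j, (∑ i, MvPolynomial.C (M i j) * y (P.map i)) ∈ J := by
        intro j
        have h1 := Ideal.mem_sup_right (S := Ideal.ofList (gs ++ fs)) (sub_sum_mem_mul a (P.relation j))
        have h0 : MvPolynomial.eval a (P.relation j) = 0 := by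
          rw [← hμα, show α (P.relation j) = 0 from RingHom.mem_ker.mp (hker.ge (Ideal.subset_span ⟨j, rfl⟩)), map_zero]
        rw [h0, MvPolynomial.C_0, sub_zero] at h1
        have h2 : P.relation j ∈ J := Ideal.mem_sup_left
          (Ideal.subset_span (List.mem_append_right _ ((List.mem_ofFn' _ _).mpr ⟨j, rfl⟩)))
        have h3 := sub_mem h2 h1
        rw [sub_sub_cancel, ← Finset.sum_filter_add_sum_filter_not Finset.univ (fun i => ∃ j, P.map j = i)] at h3
        have h4 : (∑ i ∈ Finset.univ.filter (fun i => ¬ ∃ j, P.map j = i),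
            MvPolynomial.C (MvPolynomial.eval a (MvPolynomial.pderiv i (P.relation j))) * y i) ∈ J :=
          Ideal.sum_mem _ fun i hi => Ideal.mul_mem_left _ _ (hothers i (Finset.mem_filter.mp hi).2)
        have h5 := (Submodule.add_mem_iff_left _ h4).mp h3
        rw [show Finset.univ.filter (fun i => ∃ j, P.map j = i) = Finset.univ.image P.map by ext i; simp,
          Finset.sum_image fun i _ j _ hij => P.map_inj hij] at h5
        exact h5
      have hpiv : ∀ k, y (P.map k) ∈ J := by
        intro k
        have h6 : (∑ j, MvPolynomial.C (M⁻¹ j k) * ∑ i, MvPolynomial.C (M i j) * y (P.map i)) ∈ J :=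
          Ideal.sum_mem _ fun j _ => Ideal.mul_mem_left _ _ (hlin j)
        convert h6 using 1
        simp_rw [Finset.mul_sum]
        rw [Finset.sum_comm]
        have : ∀ i, (∑ j, MvPolynomial.C (M⁻¹ j k) * (MvPolynomial.C (M i j) * y (P.map i))) =
            MvPolynomial.C ((M * M⁻¹) i k) * y (P.map i) := fun i => by
          rw [Matrix.mul_apply, map_sum, Finset.sum_mul]
          exact Finset.sum_congr rfl fun j _ => by rw [map_mul]; ring
        rw [Finset.sum_congr rfl fun i _ => this i, Matrix.mul_nonsing_inv _ hM,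
          Finset.sum_eq_single k]
        · simp
        · intro i _ hi; simp [hi]
        · simp
      refine Ideal.span_le.mpr ?_
      rintro _ ⟨i, rfl⟩
      by_cases hi : ∃ j, P.map j = i
      · obtain ⟨k, rfl⟩ := hi; exact hpiv k
      · exact hothers i hi
  have hall : LCI.IsKoszulRegularSeq (Localization.AtPrime Q) ((gs ++ fs).map loc) :=
    isKoszulRegularSeq_of_local hreg (hgen.trans (by rw [← Ideal.map_ofList, hofFn]))
      (by simp only [List.length_map, List.length_append, List.length_ofFn]; exact hlen)
  let θ : Localization.AtPrime Q →+* Localization.AtPrime q :=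
    Localization.localRingHom Q q α.toRingHom rfl
  have hθ : Function.Surjective θ := surjective_localRingHom α.toRingHom hα q
  have hkθ : RingHom.ker θ = Ideal.ofList (fs.map loc) := by
    rw [ker_localRingHom_eq_map α.toRingHom hα q, hker, ← Ideal.map_ofList]
    congr 1
    exact congrArg Ideal.span (Set.ext fun x => (List.mem_ofFn' P.relation x).symm)
  have hf : LCI.IsKoszulRegularSeq (Localization.AtPrime Q) (fs.map loc) := by
    refine isKoszulRegularSeq_of_isUnit_jac P.relation P.map P.map_inj loc
      (RingHom.flat_algebraMap_iff.mpr inferInstance) ?_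
    refine IsLocalization.map_units (Localization.AtPrime Q) (⟨_, fun hd => ?_⟩ : Q.primeCompl)
    refine (Ideal.IsPrime.ne_top ‹q.IsPrime›) (Ideal.eq_top_of_isUnit_mem _ hd ?_)
    rw [show (Matrix.of fun i j => MvPolynomial.pderiv (P.map i) (P.relation j)) = P.jacobiMatrix from
      Matrix.ext fun i j => by rw [P.jacobiMatrix_apply]; rfl]
    rw [P.jacobian_eq_jacobiMatrix_det] at hjac
    exact hjac
  rw [List.map_append, isKoszulRegularSeq_append_iff _ _ hf θ hθ hkθ] at hall
  refine ⟨(gs.map loc).map θ, by simp, hall, ?_⟩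
  have hcomp : θ.comp loc = (algebraMap T (Localization.AtPrime q)).comp α.toRingHom :=
    RingHom.ext fun x => Localization.localRingHom_to_map Q q α.toRingHom rfl x
  rw [hIT, Ideal.map_map, ← hcomp, ← Ideal.map_map, ← hgen, Ideal.map_ofList, List.map_append,
    List.map_append, Ideal.ofList_append, eq_comm, sup_eq_left, ← Ideal.map_ofList, ← hkθ,
    Ideal.map_le_iff_le_comap]
  intro x hx
  rw [Ideal.mem_comap, RingHom.mem_ker.mp hx]
  exact zero_mem _

/-- A surjection with Koszul-regular kernel is a local complete intersection. -/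
theorem isLCI_of_surjective {A B : Type u} [CommRing A] [CommRing B] [Algebra A B]
    (hs : Function.Surjective (algebraMap A B))
    (h : LCI.IsKoszulRegularIdeal (RingHom.ker (algebraMap A B))) : LCI.IsLCI A B := by
  let α : MvPolynomial (Fin 0) A →ₐ[A] B := MvPolynomial.aeval fun i => i.elim0
  have hα : Function.Surjective α := fun b => by
    obtain ⟨a, rfl⟩ := hs b
    exact ⟨MvPolynomial.C a, MvPolynomial.aeval_C _ _⟩
  refine ⟨Algebra.FiniteType.of_surjective α hα, 0, α, hα, ?_⟩
  have he : α.toRingHom = MvPolynomial.eval₂Hom (algebraMap A B) (fun i : Fin 0 => i.elim0) := rfl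
  rwa [he, isKoszulRegularIdeal_ker_eval₂Hom_iff 0 A _ hs]

/-- Conversely, a surjective local complete intersection has Koszul-regular kernel. -/
theorem isKoszulRegularIdeal_of_isLCI_surjective {A B : Type u} [CommRing A] [CommRing B] [Algebra A B]
    (hs : Function.Surjective (algebraMap A B)) (h : LCI.IsLCI A B) :
    LCI.IsKoszulRegularIdeal (RingHom.ker (algebraMap A B)) := by
  obtain ⟨-, n, α, hα, hI⟩ := h
  let β : MvPolynomial (Fin 0) A →ₐ[A] B := MvPolynomial.aeval fun i => i.elim0
  have hβ : Function.Surjective β := fun b => by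
    obtain ⟨a, rfl⟩ := hs b
    exact ⟨MvPolynomial.C a, MvPolynomial.aeval_C _ _⟩
  have h' := isKoszulRegularIdeal_ker_of_presentation α hα β hβ hI
  have he : β.toRingHom = MvPolynomial.eval₂Hom (algebraMap A B) (fun i : Fin 0 => i.elim0) := rfl
  rwa [he, isKoszulRegularIdeal_ker_eval₂Hom_iff 0 A _ hs] at h'

/-- Cancellation of a standard smooth algebra. -/
theorem isLCI_of_standardSmooth_tower {A B C : Type u} [CommRing A] [CommRing B] [CommRing C]
    [Algebra A B] [Algebra A C] [Algebra B C] [IsScalarTower A B C] [Algebra.IsStandardSmooth A B]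
    (h : LCI.IsLCI A C) : LCI.IsLCI B C := by
  have : Module.Flat A B := inferInstance
  have h1 : LCI.IsLCI B (B ⊗[A] C) := by
    let _ : Algebra C (B ⊗[A] C) := Algebra.TensorProduct.rightAlgebra
    exact isLCI_baseChange (A := A) (B := C) h
  let μ : B ⊗[A] C →ₐ[B] C := Algebra.TensorProduct.lift (Algebra.ofId B C) (AlgHom.id A C)
    fun _ _ => Commute.all _ _
  have hμ : Function.Surjective μ := fun c => ⟨1 ⊗ₜ c, by simp [μ]⟩
  let μ' : C ⊗[A] B →ₐ[C] C := Algebra.TensorProduct.lift (AlgHom.id C C) (IsScalarTower.toAlgHom A B C)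
    fun _ _ => Commute.all _ _
  have hk := isKoszulRegularIdeal_ker_retraction μ'
  rw [← isKoszulRegularIdeal_comap_ringEquiv_iff (Algebra.TensorProduct.comm A B C).toRingEquiv,
    RingHom.comap_ker] at hk
  rw [show μ'.toRingHom.comp (Algebra.TensorProduct.comm A B C).toRingEquiv.toRingHom = μ.toRingHom from
    RingHom.ext fun x => by
      induction x using TensorProduct.induction_on with
      | zero => simp
      | tmul b c => simp [μ, μ', mul_comm]
      | add x y hx hy => simp only [map_add, hx, hy]] at hk
  let _ := μ.toRingHom.toAlgebra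
  have : IsScalarTower B (B ⊗[A] C) C := .of_algebraMap_eq fun b => (μ.commutes b).symm
  exact isLCI_trans h1 (isLCI_of_surjective (A := B ⊗[A] C) (B := C) hμ hk)

/-- Cancellation of a smooth algebra. -/
theorem isLCI_of_smooth_tower {A B C : Type u} [CommRing A] [CommRing B] [CommRing C]
    [Algebra A B] [Algebra A C] [Algebra B C] [IsScalarTower A B C] [Algebra.Smooth A B]
    (h : LCI.IsLCI A C) : LCI.IsLCI B C := by
  obtain ⟨s, hs, hst⟩ := Algebra.Smooth.exists_span_eq_top_isStandardSmooth A B
  have hs' : Ideal.span (algebraMap B C '' s) = ⊤ := by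
    rw [← Ideal.map_span, hs, Ideal.map_top]
  refine isLCI_of_span_eq_top _ hs' ?_
  rintro _ ⟨g, hg, rfl⟩
  have := hst g hg
  let C' := Localization.Away (algebraMap B C g)
  have hu : IsUnit (algebraMap B C' g) := by
    rw [IsScalarTower.algebraMap_apply B C C']
    exact IsLocalization.Away.algebraMap_isUnit _
  let _ : Algebra (Localization.Away g) C' := (IsLocalization.Away.lift g hu).toAlgebra
  have : IsScalarTower B (Localization.Away g) C' :=
    .of_algebraMap_eq' (IsLocalization.Away.lift_comp g hu).symm
  have : IsScalarTower A (Localization.Away g) C' := .of_algebraMap_eq fun a => by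
    rw [IsScalarTower.algebraMap_apply A B (Localization.Away g),
      ← IsScalarTower.algebraMap_apply B (Localization.Away g) C', ← IsScalarTower.algebraMap_apply A B C']
  have h2 : LCI.IsLCI A C' := isLCI_trans (B := C) h (isLCI_away (algebraMap B C g))
  exact isLCI_trans (B := Localization.Away g) (isLCI_away g) (isLCI_of_standardSmooth_tower h2)

end Groth.KoszulLCI
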