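import Groth.Agent.KoszulLCI.FibrewiseClosed
import Groth.Agent.KoszulLCI.SmoothCancel
import Mathlib.AlgebraicGeometry.Morphisms.Smooth
import Mathlib.RingTheory.Smooth.Basic
import Mathlib.RingTheory.Regular.Flat
import Mathlib.RingTheory.Localization.Algebra

/-!
# Ideals locally generated by regular sequences: concatenation
-/

set_option autoImplicit false

universe u

open RingTheory.Sequence TensorProduct

namespace Groth.KoszulLCI

section Algebra

variable {C D : Type u} [CommRing C] [CommRing D]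

/-- Near the prime `q` the ideal is generated by a weakly regular sequence. -/
def LRegAt (I : Ideal C) (q : Ideal C) : Prop :=
  ∃ g ∉ q, ∃ hs : List C, IsWeaklyRegular (Localization.Away g) (hs.map (algebraMap C (Localization.Away g))) ∧
    Ideal.ofList (hs.map (algebraMap C (Localization.Away g))) = I.map (algebraMap C (Localization.Away g))

theorem lRegAt_ofList (rs : List C) (h : IsWeaklyRegular C rs) (q : Ideal C) [q.IsPrime] :
    LRegAt (Ideal.ofList rs) q :=
  ⟨1, fun h1 => (inferInstance : q.IsPrime).ne_top ((Ideal.eq_top_iff_one q).mpr h1), rs, h.of_flat,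
    (Ideal.map_ofList _ _).symm⟩

theorem weaklyRegular_away_mul (g g' : C) {hs : List C}
    (hw : IsWeaklyRegular (Localization.Away g) (hs.map (algebraMap C (Localization.Away g)))) :
    IsWeaklyRegular (Localization.Away (g * g')) (hs.map (algebraMap C (Localization.Away (g * g')))) := by
  let _ := (IsLocalization.Away.awayToAwayRight (S := Localization.Away g) (P := Localization.Away (g * g')) g g').toAlgebra
  have : IsScalarTower C (Localization.Away g) (Localization.Away (g * g')) := .of_algebraMap_eq fun x =>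
    (IsLocalization.Away.awayToAwayRight_eq g g' x).symm
  have : Module.Flat (Localization.Away g) (Localization.Away (g * g')) :=
    (Module.flat_iff_of_isLocalization (Localization.Away g) (Submonoid.powers g) _).mpr inferInstance
  have := hw.of_flat (S := Localization.Away (g * g'))
  rw [List.map_map] at this
  rwa [show ⇑(algebraMap C (Localization.Away (g * g'))) =
    ⇑(algebraMap (Localization.Away g) (Localization.Away (g * g'))) ∘ ⇑(algebraMap C (Localization.Away g)) from
      funext fun x => IsScalarTower.algebraMap_apply C (Localization.Away g) _ x]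

theorem ofList_away_mul (g g' : C) {hs : List C} {I : Ideal C}
    (hI : Ideal.ofList (hs.map (algebraMap C (Localization.Away g))) = I.map (algebraMap C (Localization.Away g))) :
    Ideal.ofList (hs.map (algebraMap C (Localization.Away (g * g')))) =
      I.map (algebraMap C (Localization.Away (g * g'))) := by
  let θ := IsLocalization.Away.awayToAwayRight (S := Localization.Away g) (P := Localization.Away (g * g')) g g'
  have hθ : θ.comp (algebraMap C (Localization.Away g)) = algebraMap C _ :=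
    RingHom.ext fun x => IsLocalization.Away.awayToAwayRight_eq g g' x
  have := congrArg (Ideal.map θ) hI
  rwa [Ideal.map_ofList, List.map_map, ← RingHom.coe_comp, hθ, Ideal.map_map, hθ] at this

theorem away_mul (g g' d : C) (hd : d = g * g') {hs : List C} {I : Ideal C}
    (hw : IsWeaklyRegular (Localization.Away g) (hs.map (algebraMap C (Localization.Away g))))
    (hI : Ideal.ofList (hs.map (algebraMap C (Localization.Away g))) = I.map (algebraMap C (Localization.Away g))) :
    IsWeaklyRegular (Localization.Away d) (hs.map (algebraMap C (Localization.Away d))) ∧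
      Ideal.ofList (hs.map (algebraMap C (Localization.Away d))) = I.map (algebraMap C (Localization.Away d)) := by
  subst hd
  exact ⟨weaklyRegular_away_mul g g' hw, ofList_away_mul g g' hI⟩

/-- Regular generation lifts along the quotient by a regularly generated ideal. -/
theorem lRegAt_comap (π : C →+* D) (hπ : Function.Surjective π) (q : Ideal D) [q.IsPrime] {K : Ideal D}
    (h₁ : LRegAt (RingHom.ker π) (q.comap π)) (h₂ : LRegAt K q) : LRegAt (K.comap π) (q.comap π) := by
  obtain ⟨g₁, hg₁, rs, hrs, hrsI⟩ := h₁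
  obtain ⟨g₂, hg₂, ts, hts, htsI⟩ := h₂
  obtain ⟨g₀, rfl⟩ := hπ g₂
  choose σ hσ using hπ
  let g := g₁ * g₀
  refine ⟨g, fun hm => (Ideal.IsPrime.mem_or_mem inferInstance hm).elim hg₁ hg₂, rs ++ ts.map σ, ?_, ?_⟩
  all_goals
    let Cg := Localization.Away g
    let Db := Localization.Away (π g)
    have hM : (Submonoid.powers g).map π = Submonoid.powers (π g) := Submonoid.map_powers _ _
    let ψ : Cg →+* Db := IsLocalization.map (S := Cg) Db π (Submonoid.map_le_iff_le_comap.mp hM.le)
    have hψa : ∀ x, ψ (algebraMap C Cg x) = algebraMap D Db (π x) := fun x => IsLocalization.map_eq _ x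
    have : IsLocalization ((Submonoid.powers g).map π) Db := by rw [hM]; infer_instance
    have hψ : Function.Surjective ψ :=
      IsLocalization.map_surjective_of_surjective (M := Submonoid.powers g) (S := Cg) (Q := Db) (g := π)
        (fun d => ⟨σ d, hσ d⟩)
    have hψk : RingHom.ker ψ = Ideal.ofList (rs.map (algebraMap C Cg)) :=
      (IsLocalization.ker_map (S := Cg) Db π hM).trans (ofList_away_mul g₁ g₀ hrsI).symm
    have hπg : π g = π g₀ * π g₁ := by rw [map_mul, mul_comm]
    have htsb : IsWeaklyRegular Db (ts.map (algebraMap D Db)) ∧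
        Ideal.ofList (ts.map (algebraMap D Db)) = K.map (algebraMap D Db) := by
      exact away_mul (π g₀) (π g₁) (π g) hπg hts htsI
    have hmap : ((ts.map σ).map (algebraMap C Cg)).map ψ = ts.map (algebraMap D Db) := by
      simp only [List.map_map]
      exact List.map_congr_left fun d _ => by simp [hψa, hσ]
  · rw [List.map_append, isWeaklyRegular_append_iff]
    refine ⟨weaklyRegular_away_mul g₁ g₀ hrs, ?_⟩
    let e : (Cg ⧸ (Ideal.ofList (rs.map (algebraMap C Cg)) • (⊤ : Submodule Cg Cg))) ≃+ Db :=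
      (Submodule.quotEquivOfEq _ (RingHom.ker ψ) (by rw [hψk, smul_eq_mul, Ideal.mul_top])).toAddEquiv.trans
        (RingHom.quotientKerEquivOfSurjective hψ).toAddEquiv
    refine (e.isWeaklyRegular_congr (R := Cg) (S := Db) (bs := ts.map (algebraMap D Db)) ?_).mpr htsb.1
    rw [← hmap]
    refine List.forall₂_map_right_iff.mpr (List.forall₂_same.mpr fun c _ x => ?_)
    obtain ⟨x, rfl⟩ := Submodule.Quotient.mk_surjective _ x
    exact map_mul ψ c x
  · rw [List.map_append, Ideal.ofList_append, ← hψk]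
    have h1 : (Ideal.ofList ((ts.map σ).map (algebraMap C Cg))).map ψ = ((K.comap π).map (algebraMap C Cg)).map ψ := by
      rw [Ideal.map_ofList, hmap, htsb.2, Ideal.map_map, show ψ.comp (algebraMap C Cg) = (algebraMap D Db).comp π from
        RingHom.ext hψa, ← Ideal.map_map, Ideal.map_comap_of_surjective π (fun d => ⟨σ d, hσ d⟩)]
    have h2 : RingHom.ker ψ ≤ (K.comap π).map (algebraMap C Cg) :=
      (IsLocalization.ker_map (S := Cg) Db π hM).le.trans (Ideal.map_mono fun x hx => Ideal.mem_comap.mpr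
        ((RingHom.mem_ker.mp hx).symm ▸ K.zero_mem))
    have h3 := congrArg (Ideal.comap ψ) h1
    rw [Ideal.comap_map_of_surjective ψ hψ, Ideal.comap_map_of_surjective ψ hψ, ← RingHom.ker_eq_comap_bot,
      sup_eq_left.mpr h2] at h3
    rw [sup_comm]
    exact h3

end Algebra

section Scheme

open CategoryTheory CategoryTheory.Limits AlgebraicGeometry

variable {X Y Z S : Scheme.{u}}

theorem isRegularImmersionAt_regular_of_lRegAt (i : Z ⟶ X) (z : Z) (U : X.affineOpens) (hz : i z ∈ U.1)
    (hci : IsClosedImmersion (i ∣_ U.1))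
    (h : LRegAt (RingHom.ker (i.app U.1).hom) (U.2.primeIdealOf ⟨i z, hz⟩).asIdeal) :
    RegImm.IsRegularImmersionAt .regular i z := by
  obtain ⟨g, hg, hs, hw, hI⟩ := h
  let r := (U.2.primeIdealOf ⟨i z, hz⟩).asIdeal
  have hIr := ker_app_le_primeIdealOf i U.2 z hz
  let _ := (X.presheaf.map (homOfLE (X.basicOpen_le g)).op).hom.toAlgebra
  have := U.2.isLocalization_basicOpen g
  let e' := IsLocalization.algEquiv (Submonoid.powers g) (Localization.Away g) Γ(X, X.basicOpen g)
  have hcomp : ((e' : Localization.Away g →+* Γ(X, X.basicOpen g))).comp (algebraMap _ _) =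
      (X.presheaf.map (homOfLE (X.basicOpen_le g)).op).hom := RingHom.ext fun a => e'.commutes a
  have hne : Ideal.ofList (hs.map (algebraMap Γ(X, U.1) (Localization.Away g))) ≠ ⊤ := by
    rw [hI]
    intro htop
    obtain ⟨m, ⟨k, rfl⟩, hm⟩ := (IsLocalization.algebraMap_mem_map_algebraMap_iff (Submonoid.powers g)
      (Localization.Away g) (RingHom.ker (i.app U.1).hom) (1 : Γ(X, U.1))).1 (by rw [htop]; exact Submodule.mem_top)
    rw [mul_one] at hm
    exact hg ((inferInstance : r.IsPrime).mem_of_pow_mem k (hIr hm))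
  refine exists_seq_of_ker .regular i z ⟨X.basicOpen g, U.2.basicOpen g⟩ ((mem_basicOpen_iff U.2 g hz).mpr hg)
    (Groth.KoszulReg.isClosedImmersion_restrict i (X.basicOpen_le g))
    (e' : Localization.Away g →+* Γ(X, X.basicOpen g))
    (RingHom.Flat.of_bijective e'.bijective) (hs.map (algebraMap _ (Localization.Away g)))
    ⟨hw, by simpa [smul_eq_mul, Ideal.mul_top] using hne.symm⟩ ?_
  rw [← Ideal.map_ofList, hI, Ideal.map_map, hcomp]
  exact ker_app_basicOpen i U.2 g

/-- A chart of a regular immersion gives local regular generation on any affine open containing the point. -/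
theorem lRegAt_of_isRegularImmersionAt (i : Z ⟶ X) (z : Z) (U : X.affineOpens) (hz : i z ∈ U.1)
    [IsClosedImmersion (i ∣_ U.1)] (h : RegImm.IsRegularImmersionAt .regular i z) :
    LRegAt (RingHom.ker (i.app U.1).hom) (U.2.primeIdealOf ⟨i z, hz⟩).asIdeal := by
  obtain ⟨V, hzV, hciV, rs, hrs, hker⟩ := h
  obtain ⟨b, c, hbc, hzb⟩ := exists_basicOpen_le_affine_inter U.2 V.2 (i z) ⟨hz, hzV⟩
  let _ := (X.presheaf.map (homOfLE (X.basicOpen_le c)).op).hom.toAlgebra
  have := V.2.isLocalization_basicOpen c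
  have hflat : Module.Flat Γ(X, V.1) Γ(X, X.basicOpen c) := IsLocalization.flat _ (Submonoid.powers c)
  have hk : RingHom.ker (i.app (X.basicOpen c)).hom =
      Ideal.ofList (rs.map (algebraMap Γ(X, V.1) Γ(X, X.basicOpen c))) := by
    rw [ker_app_basicOpen i V.2 c, hker, Ideal.map_ofList]
    rfl
  have hw : IsWeaklyRegular Γ(X, X.basicOpen c) (rs.map (algebraMap Γ(X, V.1) Γ(X, X.basicOpen c))) :=
    hrs.toIsWeaklyRegular.of_flat
  revert hk hw
  generalize rs.map (algebraMap Γ(X, V.1) Γ(X, X.basicOpen c)) = l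
  revert l
  rw [← hbc]
  intro l hk hw
  let _ := (X.presheaf.map (homOfLE (X.basicOpen_le b)).op).hom.toAlgebra
  have := U.2.isLocalization_basicOpen b
  have hk' : Ideal.ofList l = (RingHom.ker (i.app U.1).hom).map (algebraMap Γ(X, U.1) Γ(X, X.basicOpen b)) :=
    hk.symm.trans (ker_app_basicOpen i U.2 b)
  -- numerators
  choose a ha using fun x : Γ(X, X.basicOpen b) => IsLocalization.surj (Submonoid.powers b) x
  let e := IsLocalization.algEquiv (Submonoid.powers b) Γ(X, X.basicOpen b) (Localization.Away b)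
  let hs : List Γ(X, U.1) := l.map fun x => (a x).1
  have hass : List.Forall₂ Associated (l.map e) (hs.map (algebraMap Γ(X, U.1) (Localization.Away b))) := by
    simp only [hs, List.map_map]
    rw [List.forall₂_map_left_iff]
    refine List.forall₂_map_right_iff.mpr (List.forall₂_same.mpr fun x _ => ?_)
    refine ⟨(IsLocalization.map_units (Localization.Away b) (a x).2).unit, ?_⟩
    rw [IsUnit.unit_spec, ← e.commutes, ← map_mul, ha, e.commutes]
    rfl
  have hwe : IsWeaklyRegular (Localization.Away b) (l.map e) :=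
    (e.toRingEquiv.toAddEquiv.isWeaklyRegular_congr (List.forall₂_map_right_iff.mpr
      (List.forall₂_same.mpr fun r _ x => map_mul e r x))).mp hw
  refine ⟨b, (mem_basicOpen_iff U.2 b hz).mp hzb, hs,
    Groth.FrobLCI.RegularSpread.isWeaklyRegular_of_forall₂ hass hwe, ?_⟩
  rw [← Groth.FrobLCI.RegularSpread.ofList_eq_of_forall₂ hass]
  have := congrArg (Ideal.map (e : Γ(X, X.basicOpen b) →+* Localization.Away b)) hk'
  rw [Ideal.map_ofList, Ideal.map_map] at this
  exact this.trans (congrArg (fun φ => Ideal.map φ (RingHom.ker (i.app U.1).hom)) (RingHom.ext fun x => e.commutes x))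

/-- The composite of regular immersions, at a point. -/
theorem isRegularImmersionAt_regular_comp (i : Z ⟶ Y) (j : Y ⟶ X) [IsClosedImmersion i] [IsClosedImmersion j]
    (z : Z) (hi : RegImm.IsRegularImmersionAt .regular i z) (hj : RegImm.IsRegularImmersionAt .regular j (i z)) :
    RegImm.IsRegularImmersionAt .regular (i ≫ j) z := by
  obtain ⟨W, hzW, -, -⟩ := id hj
  have hz : (i ≫ j) z ∈ W.1 := hzW
  have hA := Groth.KoszulReg.isAffineOpen_preimage j W.1 W.2
  refine isRegularImmersionAt_regular_of_lRegAt (i ≫ j) z W hz inferInstance ?_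
  have h1 := lRegAt_of_isRegularImmersionAt j (i z) W hzW ‹_›
  have h2 := lRegAt_of_isRegularImmersionAt i z ⟨j ⁻¹ᵁ W.1, hA⟩ hzW hi
  have hp : ((hA.primeIdealOf ⟨i z, hzW⟩).asIdeal).comap (j.app W.1).hom = (W.2.primeIdealOf ⟨(i ≫ j) z, hz⟩).asIdeal := by
    have := IsAffineOpen.comap_primeIdealOf_appLE (f := j) W.1 W.2 (j ⁻¹ᵁ W.1) hA le_rfl hzW
    rw [Scheme.Hom.app_eq_appLE]
    exact congrArg PrimeSpectrum.asIdeal this
  have h3 := lRegAt_comap (j.app W.1).hom (Groth.KoszulReg.surjective_app j W.1 W.2) _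
    (hp.symm ▸ h1) h2
  rw [hp] at h3
  exact h3

/-- Regular immersions lift through smooth morphisms. -/
theorem isRegularImmersionAt_regular_lift (p : X ⟶ S) [Smooth p] (i : Y ⟶ X) (j : Y ⟶ S)
    [IsClosedImmersion i] [IsClosedImmersion j] (h : i ≫ p = j) (y : Y)
    (hj : RegImm.IsRegularImmersionAt .regular j y) : RegImm.IsRegularImmersionAt .regular i y := by
  obtain ⟨W, hyW, -, rs, hrs, hker⟩ := hj
  have hpW : p (i y) ∈ W.1 := by
    rw [← Scheme.Hom.comp_apply, h]
    exact hyW
  obtain ⟨U, hU, hyU, hUW'⟩ := exists_isAffineOpen_mem_and_subset (show i y ∈ p ⁻¹ᵁ W.1 from hpW)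
  have e : U ≤ p ⁻¹ᵁ W.1 := hUW'
  refine isRegularImmersionAt_regular_of_lRegAt i y ⟨U, hU⟩ hyU inferInstance ?_
  have hA₁ := Groth.KoszulReg.isAffineOpen_preimage j W.1 W.2
  have hA₂ := Groth.KoszulReg.isAffineOpen_preimage i U hU
  have e₂ : i ⁻¹ᵁ U ≤ j ⁻¹ᵁ W.1 := fun x hx => by
    show j x ∈ W.1
    rw [← h, Scheme.Hom.comp_apply]
    exact e hx
  let A := Γ(S, W.1)
  let C := Γ(X, U)
  let _ : Algebra A C := (p.appLE W.1 U e).hom.toAlgebra
  have : Algebra.Smooth A C := HasRingHomProperty.appLE (P := @Smooth) p ‹_› W ⟨U, hU⟩ e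
  let π := (i.app U).hom
  have hπ : Function.Surjective π := Groth.KoszulReg.surjective_app i U hU
  let J := RingHom.ker (j.app W.1).hom
  let K := RingHom.ker π
  let φ : A →+* Γ(Y, i ⁻¹ᵁ U) := π.comp (algebraMap A C)
  let ρ := (Y.presheaf.map (homOfLE e₂).op).hom
  have hφ : φ = ρ.comp (j.app W.1).hom := by
    show (i.app U).hom.comp (p.appLE W.1 U e).hom = (Y.presheaf.map (homOfLE e₂).op).hom.comp (j.app W.1).hom
    rw [← CommRingCat.hom_comp, ← CommRingCat.hom_comp, Scheme.Hom.app_eq_appLE, Scheme.Hom.app_eq_appLE,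
      Scheme.Hom.appLE_comp_appLE, Scheme.Hom.appLE_map]
    subst h
    rfl
  have hJK : J.map (algebraMap A C) ≤ K := Ideal.map_le_iff_le_comap.mpr fun x hx => by
    show φ x = 0
    rw [hφ, RingHom.comp_apply, RingHom.mem_ker.mp hx, map_zero]
  let Ab := A ⧸ J
  let D := C ⧸ J.map (algebraMap A C)
  let eA : Ab ≃+* Γ(Y, j ⁻¹ᵁ W.1) :=
    RingHom.quotientKerEquivOfSurjective (Groth.KoszulReg.surjective_app j W.1 W.2)
  let _ : Algebra Ab (C ⊗[A] Ab) := Algebra.TensorProduct.rightAlgebra
  have : Algebra.IsPushout A C Ab D := by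
    refine Algebra.IsPushout.of_equiv (S' := C ⊗[A] Ab)
      (Algebra.TensorProduct.quotIdealMapEquivTensorQuot C J).symm (RingHom.ext fun x => ?_)
    obtain ⟨a, rfl⟩ := Ideal.Quotient.mk_surjective x
    let e := (Algebra.TensorProduct.quotIdealMapEquivTensorQuot C J).symm
    show e ((1 : C) ⊗ₜ[A] Ideal.Quotient.mk J a) = _
    rw [show (1 : C) ⊗ₜ[A] Ideal.Quotient.mk J a = algebraMap C (C ⊗[A] Ab) (algebraMap A C a) by
        rw [← IsScalarTower.algebraMap_apply A C (C ⊗[A] Ab)]
        exact ((Algebra.TensorProduct.includeRight : Ab →ₐ[A] C ⊗[A] Ab).commutes a)]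
    exact e.commutes _
  have := this.symm
  have : Algebra.Smooth Ab D := Algebra.Smooth.of_equiv
    (Algebra.IsPushout.equiv A Ab C D)
  let σ : D →+* Γ(Y, i ⁻¹ᵁ U) := Ideal.Quotient.lift _ π fun x hx => hJK hx
  have hσ : Function.Surjective σ := Ideal.Quotient.lift_surjective_of_surjective _ _ hπ
  let _ : Algebra D Γ(Y, i ⁻¹ᵁ U) := σ.toAlgebra
  let _ : Algebra Ab Γ(Y, i ⁻¹ᵁ U) := (σ.comp (algebraMap Ab D)).toAlgebra
  have : IsScalarTower Ab D Γ(Y, i ⁻¹ᵁ U) := .of_algebraMap_eq fun _ => rfl
  have hAb : (algebraMap Ab Γ(Y, i ⁻¹ᵁ U)) = ρ.comp eA.toRingHom := by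
    refine Ideal.Quotient.ringHom_ext (RingHom.ext fun a => ?_)
    exact RingHom.congr_fun hφ a
  have hid : (𝟙 Y : Y ⟶ Y).appLE (j ⁻¹ᵁ W.1) (i ⁻¹ᵁ U) e₂ = Y.presheaf.map (homOfLE e₂).op := by
    exact Category.id_comp _
  have hlciρ : RingLCI ρ := by
    have h1 := (morLCI_ι_comp_iff (𝟙 Y) hA₂ hA₁ e₂).mp (morLCI_of_smooth _)
    rwa [hid] at h1
  have hlci : LCI.IsLCI Ab Γ(Y, i ⁻¹ᵁ U) := by
    rw [← ringLCI_algebraMap, hAb]
    exact ringLCI_propertyIsLocal.respectsIso.2 ρ eA hlciρ
  have hKD := isKoszulRegularIdeal_of_isLCI_surjective (A := D) (B := Γ(Y, i ⁻¹ᵁ U)) hσ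
    (isLCI_of_smooth_tower (A := Ab) hlci)
  let qY := (hA₂.primeIdealOf ⟨y, hyU⟩).asIdeal
  let qD := qY.comap σ
  have hq : qD.comap (Ideal.Quotient.mk (J.map (algebraMap A C))) = (hU.primeIdealOf ⟨i y, hyU⟩).asIdeal := by
    show qY.comap π = _
    have := IsAffineOpen.comap_primeIdealOf_appLE (f := i) U hU (i ⁻¹ᵁ U) hA₂ le_rfl hyU
    show qY.comap (i.app U).hom = _
    rw [Scheme.Hom.app_eq_appLE]
    exact congrArg PrimeSpectrum.asIdeal this
  have hKq : RingHom.ker σ ≤ qD := fun x hx => by
    show σ x ∈ qY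
    rw [RingHom.mem_ker.mp hx]
    exact qY.zero_mem
  -- the two steps
  have h1 : LRegAt (RingHom.ker (Ideal.Quotient.mk (J.map (algebraMap A C))))
      (qD.comap (Ideal.Quotient.mk (J.map (algebraMap A C)))) := by
    have : Module.Flat A C := inferInstance
    have hJ : J.map (algebraMap A C) = Ideal.ofList (rs.map (algebraMap A C)) := by
      rw [← Ideal.map_ofList]
      exact congrArg (Ideal.map (algebraMap A C)) hker
    have key := lRegAt_ofList (rs.map (algebraMap A C)) hrs.toIsWeaklyRegular.of_flat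
      (qD.comap (Ideal.Quotient.mk (J.map (algebraMap A C))))
    rw [← hJ] at key
    rw [Ideal.mk_ker]
    exact key
  have h2 : LRegAt (RingHom.ker σ) qD := by
    have : Module.Flat Ab D := inferInstance
    have hflatY : Module.Flat Ab Γ(Y, i ⁻¹ᵁ U) := by
      rw [← RingHom.flat_algebraMap_iff, hAb]
      have hρ : ρ.Flat := by
        have := Flat.flat_appLE (𝟙 Y) hA₁ hA₂ e₂
        rwa [hid] at this
      exact RingHom.Flat.comp (RingHom.Flat.of_bijective eA.bijective) hρ
    have : Module.Flat Ab (D ⧸ RingHom.ker σ) := Module.Flat.of_linearEquiv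
      (Ideal.quotientKerAlgEquivOfSurjective (f := IsScalarTower.toAlgHom Ab D Γ(Y, i ⁻¹ᵁ U)) hσ).toLinearEquiv
    obtain ⟨g, hg, r, hr⟩ := exists_locReg hKD qD hKq
    obtain ⟨Q, _, hQ⟩ := exists_fibPoint (A := Ab) qD
    have hfib := fibReg_of_locReg _ Q (hKq.trans hQ.ge) (locReg_congr hQ.symm (locReg_of_away hr qD hg))
    obtain ⟨g', hg', hs, hw, hI⟩ := exists_weaklyRegular_of_fibReg (fg_of_isKoszulRegularIdeal hKD) _ Q
      (hKq.trans hQ.ge) hfib
    exact ⟨g', hQ ▸ hg', hs, hw, hI⟩
  have h3 := lRegAt_comap (Ideal.Quotient.mk (J.map (algebraMap A C))) Ideal.Quotient.mk_surjective qD h1 h2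
  rw [hq, RingHom.comap_ker] at h3
  exact h3

end Scheme

end Groth.KoszulLCI
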