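import Groth.Agent.KoszulReg.Basic
import Groth.Agent.KoszulCone.NullHomotopy
import Groth.Agent.KoszulCone.ConeElem

/-!
# Koszul-regular sequences

Homology criterion for adjoining an element, permutations, base change along flat and surjective
ring maps, locality.
-/

set_option autoImplicit false

universe u

open CategoryTheory CategoryTheory.Limits CochainComplex TensorProduct

namespace Groth.KoszulLCI

open Groth.KoszulCone Groth.KoszulReg

variable {A B : Type u} [CommRing A] [CommRing B]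

/-- Homology of the Koszul complex. -/
noncomputable abbrev H (l : List A) (i : ℤ) : ModuleCat.{u} A := (Koszul.koszul A l).homology i

theorem isZero_iff_forall {M : ModuleCat.{u} A} : IsZero M ↔ ∀ x : M, x = 0 :=
  ⟨fun h => have := ModuleCat.subsingleton_of_isZero h; fun x => Subsingleton.elim x 0,
    fun h => have : Subsingleton M := subsingleton_of_forall_eq 0 h; ModuleCat.isZero_of_subsingleton M⟩

theorem isKoszulRegularSeq_cons_iff (f : A) (l : List A) :
    LCI.IsKoszulRegularSeq A (f :: l) ↔ ∀ i : ℤ, i ≠ 0 →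
      (∀ y : H l i, ∃ x : H l i, f • x = y) ∧ ∀ x : H l (i + 1), f • x = 0 → x = 0 := by
  refine forall_congr' fun i => imp_congr_right fun _ => ?_
  let φ := f • 𝟙 (Koszul.koszul A l)
  change IsZero ((mappingCone φ).homology i) ↔ _
  obtain ⟨δ, h1, h2⟩ := cone_exact_delta φ i (i + 1) rfl
  rw [isZero_iff_forall]
  constructor
  · intro h
    refine ⟨fun y => ?_, fun x hx => ?_⟩
    · obtain ⟨x, hx⟩ := (cone_exact₂ φ i y).mp (h _)
      exact ⟨x, (homologyMap_smul_id_apply f i x).symm.trans hx⟩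
    · obtain ⟨z, rfl⟩ := (h2 x).mp ((homologyMap_smul_id_apply f _ x).trans hx)
      rw [h z, map_zero]
  · rintro ⟨hs, hinj⟩ z
    obtain ⟨y, rfl⟩ := (h1 z).mp (hinj _ ((homologyMap_smul_id_apply f (i + 1) (δ z)).symm.trans
      ((h2 _).mpr ⟨z, rfl⟩)))
    obtain ⟨x, rfl⟩ := hs y
    exact (cone_exact₂ φ i (f • x)).mpr ⟨x, homologyMap_smul_id_apply f i x⟩

theorem koszul_eq_koszulCx (A : Type u) [CommRing A] : ∀ l : List A,
    Koszul.koszul A l = CohIII.koszulCx (ModuleCat.of A A) l
  | [] => rfl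
  | f :: l => congrArg (fun K : CochainComplex (ModuleCat.{u} A) ℤ => mappingCone (f • 𝟙 K))
      (koszul_eq_koszulCx A l)

/-- The ideal of the sequence kills the homology. -/
theorem smul_H_eq_zero (l : List A) (a : A) (ha : a ∈ Ideal.ofList l) (i : ℤ) (x : H l i) :
    a • x = 0 := by
  revert x
  show ∀ x : (Koszul.koszul A l).homology i, a • x = 0
  rw [koszul_eq_koszulCx A l]
  exact smul_homology_eq_zero l _ a ha i

theorem isKoszulRegularSeq_cons_congr {f g : A} (l : List A) (h : f - g ∈ Ideal.ofList l) :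
    LCI.IsKoszulRegularSeq A (f :: l) ↔ LCI.IsKoszulRegularSeq A (g :: l) := by
  have key : ∀ (i : ℤ) (x : H l i), f • x = g • x := fun i x => by
    rw [← sub_eq_zero, ← sub_smul, smul_H_eq_zero l _ h i x]
  simp only [isKoszulRegularSeq_cons_iff, key]

theorem isKoszulRegularSeq_cons_unit_mul {u f : A} (hu : IsUnit u) (l : List A) :
    LCI.IsKoszulRegularSeq A (u * f :: l) ↔ LCI.IsKoszulRegularSeq A (f :: l) := by
  obtain ⟨u, rfl⟩ := hu
  simp only [isKoszulRegularSeq_cons_iff, mul_smul]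
  refine forall_congr' fun i => imp_congr_right fun _ => and_congr ⟨fun h y => ?_, fun h y => ?_⟩ ?_
  · obtain ⟨x, hx⟩ := h y
    exact ⟨(u : A) • x, by rw [← mul_smul, mul_comm, mul_smul, hx]⟩
  · obtain ⟨x, hx⟩ := h ((↑u⁻¹ : A) • y)
    exact ⟨x, by rw [hx, ← mul_smul, Units.mul_inv, one_smul]⟩
  · refine forall_congr' fun x => imp_congr_left ⟨fun h => ?_, fun h => by rw [h, smul_zero]⟩
    rw [← one_smul A (f • x), ← Units.inv_mul u, mul_smul, h, smul_zero]

theorem isKoszulRegularSeq_singleton {t : A} (ht : t ∈ nonZeroDivisors A) :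
    LCI.IsKoszulRegularSeq A [t] := by
  rw [isKoszulRegularSeq_cons_iff]
  intro i hi
  have h0 : ∀ j : ℤ, j ≠ 0 → IsZero (H ([] : List A) j) := fun j hj =>
    HomologicalComplex.isZero_single_obj_homology _ _ _ _ hj
  refine ⟨fun y => ⟨0, by rw [smul_zero, isZero_iff_forall.mp (h0 i hi) y]⟩, fun x hx => ?_⟩
  rcases eq_or_ne (i + 1) 0 with h | h
  · revert x
    rw [h]
    intro x hx
    apply (bijective_augH (A := A) []).1
    rw [map_zero]
    obtain ⟨a, ha⟩ := Submodule.Quotient.mk_surjective _ ((augH (A := A) []).hom x)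
    have h1 : t • Submodule.Quotient.mk (p := Ideal.ofList ([] : List A)) a = 0 := by
      have := congrArg (augH (A := A) []).hom hx
      rw [map_smul, map_zero, ← ha] at this
      exact this
    rw [← Submodule.Quotient.mk_smul, Submodule.Quotient.mk_eq_zero, Ideal.ofList_nil,
      Ideal.mem_bot, smul_eq_mul, mul_comm, mul_right_mem_nonZeroDivisors_eq_zero_iff ht] at h1
    rw [← ha, h1]
    exact Submodule.Quotient.mk_zero _
  · exact isZero_iff_forall.mp (h0 _ h) x

/-! ### Permutations -/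

section Swap

variable {K : CochainComplex (ModuleCat.{u} A) ℤ} (f g : A)

/-- Swapping two cones, in one degree. -/
noncomputable def swapX (i : ℤ) :
    (mappingCone (g • 𝟙 (mappingCone (f • 𝟙 K)))).X i →ₗ[A]
      (mappingCone (f • 𝟙 (mappingCone (g • 𝟙 K)))).X i :=
  let C := f • 𝟙 K
  let D := g • 𝟙 K
  let a := cfst (g • 𝟙 (mappingCone C)) i (i + 1) rfl
  let b := csnd (g • 𝟙 (mappingCone C)) i
  ((mappingCone.inl (f • 𝟙 (mappingCone D))).v (i + 1) i (by omega)).hom ∘ₗ
      (((mappingCone.inl D).v (i + 1 + 1) (i + 1) (by omega)).hom ∘ₗ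
          (-(cfst C (i + 1) (i + 1 + 1) rfl ∘ₗ a)) +
        ((mappingCone.inr D).f (i + 1)).hom ∘ₗ (cfst C i (i + 1) rfl ∘ₗ b)) +
    ((mappingCone.inr (f • 𝟙 (mappingCone D))).f i).hom ∘ₗ
      (((mappingCone.inl D).v (i + 1) i (by omega)).hom ∘ₗ (csnd C (i + 1) ∘ₗ a) +
        ((mappingCone.inr D).f i).hom ∘ₗ (csnd C i ∘ₗ b))

theorem swapX_apply (i : ℤ) (x : (mappingCone (g • 𝟙 (mappingCone (f • 𝟙 K)))).X i) :
    swapX f g i x = cmk (f • 𝟙 (mappingCone (g • 𝟙 K))) i (i + 1) rfl
      (cmk (g • 𝟙 K) (i + 1) (i + 1 + 1) rfl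
        (-(cfst (f • 𝟙 K) (i + 1) (i + 1 + 1) rfl (cfst _ i (i + 1) rfl x)))
        (cfst (f • 𝟙 K) i (i + 1) rfl (csnd _ i x)))
      (cmk (g • 𝟙 K) i (i + 1) rfl (csnd (f • 𝟙 K) (i + 1) (cfst _ i (i + 1) rfl x))
        (csnd (f • 𝟙 K) i (csnd _ i x))) :=
  rfl

theorem swapX_swapX (i : ℤ) (x : (mappingCone (g • 𝟙 (mappingCone (f • 𝟙 K)))).X i) :
    swapX g f i (swapX f g i x) = x := by
  simp only [swapX_apply, cfst_cmk, csnd_cmk, neg_neg, cmk_cfst_csnd]

theorem smul_id_f_apply {L : CochainComplex (ModuleCat.{u} A) ℤ} (a : A) (i : ℤ) (x : L.X i) :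
    (a • 𝟙 L : L ⟶ L).f i x = a • x :=
  rfl

theorem swapX_d (i j : ℤ) (hij : i + 1 = j)
    (x : (mappingCone (g • 𝟙 (mappingCone (f • 𝟙 K)))).X i) :
    (mappingCone (f • 𝟙 (mappingCone (g • 𝟙 K)))).d i j (swapX f g i x) =
      swapX f g j ((mappingCone (g • 𝟙 (mappingCone (f • 𝟙 K)))).d i j x) := by
  subst hij
  simp only [swapX_apply]
  apply cone_ext _ (rfl : (i + 1) + 1 = i + 1 + 1)
  · rw [cfst_d _ i (i + 1) (i + 1 + 1) rfl rfl, cfst_cmk, cfst_cmk]
    apply cone_ext _ (rfl : (i + 1 + 1) + 1 = i + 1 + 1 + 1)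
    · simp only [map_neg, cfst_cmk, cfst_d _ i (i + 1) (i + 1 + 1) rfl rfl,
        cfst_d _ (i + 1) (i + 1 + 1) (i + 1 + 1 + 1) rfl rfl, neg_neg]
    · simp only [map_neg, map_add, map_smul, csnd_cmk, cfst_cmk, csnd_d _ (i + 1) (i + 1 + 1) rfl,
        csnd_d _ i (i + 1) rfl, smul_id_f_apply, cfst_d _ i (i + 1) (i + 1 + 1) rfl rfl, smul_neg,
        neg_add_rev, neg_neg]
      abel
  · rw [csnd_d _ i (i + 1) rfl, cfst_cmk]
    simp only [csnd_cmk, smul_id_f_apply]
    apply cone_ext _ (rfl : (i + 1) + 1 = i + 1 + 1)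
    · simp only [map_neg, map_add, map_smul, cfst_cmk, cfst_d _ i (i + 1) (i + 1 + 1) rfl rfl,
        csnd_d _ (i + 1) (i + 1 + 1) rfl, smul_id_f_apply, smul_neg, neg_add_rev, neg_neg]
      abel
    · simp only [map_add, map_smul, csnd_cmk, cfst_cmk, csnd_d _ i (i + 1) rfl, smul_id_f_apply]
      abel

/-- Swapping two cones. -/
noncomputable def swapHom :
    mappingCone (g • 𝟙 (mappingCone (f • 𝟙 K))) ⟶ mappingCone (f • 𝟙 (mappingCone (g • 𝟙 K))) where
  f i := ModuleCat.ofHom (swapX f g i)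
  comm' i j hij := ModuleCat.hom_ext (LinearMap.ext fun x => swapX_d f g i j hij x)

noncomputable def swapIso :
    mappingCone (g • 𝟙 (mappingCone (f • 𝟙 K))) ≅ mappingCone (f • 𝟙 (mappingCone (g • 𝟙 K))) where
  hom := swapHom f g
  inv := swapHom g f
  hom_inv_id := HomologicalComplex.hom_ext _ _ fun i =>
    ModuleCat.hom_ext (LinearMap.ext fun x => swapX_swapX f g i x)
  inv_hom_id := HomologicalComplex.hom_ext _ _ fun i =>
    ModuleCat.hom_ext (LinearMap.ext fun x => swapX_swapX g f i x)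

end Swap

theorem nonempty_iso_of_perm {l l' : List A} (h : l.Perm l') :
    Nonempty (Koszul.koszul A l ≅ Koszul.koszul A l') := by
  induction h with
  | nil => exact ⟨Iso.refl _⟩
  | cons a _ ih =>
    obtain ⟨e⟩ := ih
    exact ⟨coneIso _ _ e e (by simp)⟩
  | swap a b l => exact ⟨swapIso a b⟩
  | trans _ _ ih ih' =>
    obtain ⟨e⟩ := ih
    obtain ⟨e'⟩ := ih'
    exact ⟨e ≪≫ e'⟩

theorem isKoszulRegularSeq_of_perm {l l' : List A} (h : l.Perm l')
    (hl : LCI.IsKoszulRegularSeq A l) : LCI.IsKoszulRegularSeq A l' := fun i hi =>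
  isZero_homology_congr (nonempty_iso_of_perm h).some.symm i (hl i hi)

theorem isKoszulRegularSeq_perm {l l' : List A} (h : l.Perm l') :
    LCI.IsKoszulRegularSeq A l ↔ LCI.IsKoszulRegularSeq A l' :=
  ⟨isKoszulRegularSeq_of_perm h, isKoszulRegularSeq_of_perm h.symm⟩

/-! ### Flat base change -/

theorem nonempty_H_map_iso (θ : A →+* B) (hθ : θ.Flat) (l : List A) (i : ℤ) :
    Nonempty (H (l.map θ) i ≅ (ModuleCat.extendScalars.{u, u, u} θ).obj (H l i)) := by
  let F := ModuleCat.extendScalars.{u, u, u} θ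
  have := ModuleCat.preservesFiniteLimits_extendScalars_of_flat hθ
  have : F.Additive := Functor.additive_of_preserves_binary_products _
  let prs : List (A × B) := l.map fun a => (a, θ a)
  have hF : ∀ q ∈ prs, ∀ {M N : ModuleCat.{u} A} (φ : M ⟶ N), F.map (q.1 • φ) = q.2 • F.map φ := by
    intro q hq M N φ
    obtain ⟨a, -, rfl⟩ := List.mem_map.mp hq
    let _ := θ.toAlgebra
    apply ModuleCat.hom_ext
    refine LinearMap.ext fun z => ?_
    induction z using TensorProduct.induction_on with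
    | zero => exact (map_zero _).trans (map_zero _).symm
    | add x y hx hy => exact (map_add _ x y).trans ((congrArg₂ (· + ·) hx hy).trans (map_add _ x y).symm)
    | tmul b m =>
      change TensorProduct.tmul A b (a • φ.hom m) =
        TensorProduct.tmul A (@HMul.hMul B B B _ (θ a) b) (φ.hom m)
      rw [← TensorProduct.smul_tmul]
      rfl
  let eA : F.obj (ModuleCat.of A A) ≅ ModuleCat.of B B :=
    letI := θ.toAlgebra
    let e : TensorProduct A B A ≃ₗ[B] B := TensorProduct.AlgebraTensorModule.rid A B B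
    LinearEquiv.toModuleIso (X₁ := F.obj (ModuleCat.of A A)) (X₂ := ModuleCat.of B B) e
  have hl : prs.map Prod.fst = l := by simp [prs, Function.comp_def]
  have hl' : prs.map Prod.snd = l.map θ := by simp [prs, Function.comp_def]
  have e1 : Nonempty (((F.mapHomologicalComplex (ComplexShape.up ℤ)).obj (Koszul.koszul A l)).homology i ≅
      F.obj (H l i)) := ⟨((Koszul.koszul A l).sc i).mapHomologyIso F⟩
  obtain ⟨e1⟩ := e1
  let K₀ := (HomologicalComplex.single (ModuleCat.{u} A) (ComplexShape.up ℤ) 0).obj (ModuleCat.of A A)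
  let e2 := (HomologicalComplex.homologyFunctor _ _ i).mapIso
    (eqToIso (congrArg (F.mapHomologicalComplex (ComplexShape.up ℤ)).obj
      ((koszul_eq_kz A l).trans (congrArg (kz K₀) hl.symm))) ≪≫ kzFunctorIso F K₀ prs hF ≪≫
      eqToIso (congrArg (kz ((F.mapHomologicalComplex (ComplexShape.up ℤ)).obj K₀)) hl'))
  let φ := (HomologicalComplex.singleMapHomologicalComplex F (ComplexShape.up ℤ) 0).hom.app
    (ModuleCat.of A A) ≫ (HomologicalComplex.single (ModuleCat.{u} B) (ComplexShape.up ℤ) 0).map eA.hom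
  have := quasiIso_kzMap φ (l.map θ)
  exact ⟨(HomologicalComplex.homologyFunctor _ _ i).mapIso (eqToIso (koszul_eq_kz B _)) ≪≫
    (asIso (HomologicalComplex.homologyMap (kzMap φ (l.map θ)) i)).symm ≪≫ e2.symm ≪≫ e1⟩

/-- `extendScalars` along an algebra map is the tensor product. -/
theorem nonempty_extendScalars_equiv [Algebra A B] (M : ModuleCat.{u} A) :
    ∃ e : B ⊗[A] M ≃+ (ModuleCat.extendScalars.{u, u, u} (algebraMap A B)).obj M, True := by
  let e₀ : B ≃ₗ[A] (ModuleCat.restrictScalars.{u} (algebraMap A B)).obj (ModuleCat.of B B) :=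
    { toFun := fun b => b
      map_add' := fun _ _ => rfl
      map_smul' := fun c (b : B) => show c • b = algebraMap A B c * b from Algebra.smul_def c b
      invFun := fun b => b
      left_inv := fun _ => rfl
      right_inv := fun _ => rfl }
  exact ⟨(TensorProduct.congr e₀ (LinearEquiv.refl A M)).toAddEquiv, trivial⟩

theorem subsingleton_tensor_of_isZero [Algebra A B] (M : ModuleCat.{u} A)
    (h : IsZero ((ModuleCat.extendScalars.{u, u, u} (algebraMap A B)).obj M)) :
    Subsingleton (B ⊗[A] M) := by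
  obtain ⟨e, -⟩ := nonempty_extendScalars_equiv (B := B) M
  have := ModuleCat.subsingleton_of_isZero h
  exact e.toEquiv.subsingleton

theorem isKoszulRegularSeq_of_faithfullyFlat [Algebra A B] [Module.FaithfullyFlat A B] (l : List A)
    (h : LCI.IsKoszulRegularSeq B (l.map (algebraMap A B))) : LCI.IsKoszulRegularSeq A l := by
  intro i hi
  obtain ⟨e⟩ := nonempty_H_map_iso (algebraMap A B)
    (RingHom.flat_algebraMap_iff.mpr inferInstance) l i
  have hz := (h i hi).of_iso e.symm
  have : Subsingleton (B ⊗[A] H l i) := subsingleton_tensor_of_isZero _ hz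
  have := Module.FaithfullyFlat.lTensor_reflects_triviality A B (H l i)
  exact ModuleCat.isZero_of_subsingleton _

/-- Koszul regularity is local on the maximal ideals containing the sequence. -/
theorem isKoszulRegularSeq_of_localization (l : List A)
    (h : ∀ (m : Ideal A) [m.IsMaximal], Ideal.ofList l ≤ m →
      LCI.IsKoszulRegularSeq (Localization.AtPrime m) (l.map (algebraMap A (Localization.AtPrime m)))) :
    LCI.IsKoszulRegularSeq A l := by
  intro i hi
  rw [isZero_iff_forall]
  intro x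
  by_contra hx
  let J : Ideal A := LinearMap.ker (LinearMap.toSpanSingleton A (H l i) x)
  have hJ : J ≠ ⊤ := fun hJ => hx (by
    have : (1 : A) ∈ J := hJ ▸ Submodule.mem_top
    simpa [J] using this)
  obtain ⟨m, hm, hJm⟩ := Ideal.exists_le_maximal J hJ
  have hlm : Ideal.ofList l ≤ m := fun a ha => hJm (smul_H_eq_zero l a ha i x)
  obtain ⟨e⟩ := nonempty_H_map_iso (algebraMap A (Localization.AtPrime m))
    (RingHom.flat_algebraMap_iff.mpr inferInstance) l i
  have := subsingleton_tensor_of_isZero _ ((h m hlm i hi).of_iso e.symm)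
  have h0 : TensorProduct.mk A (Localization.AtPrime m) (H l i) 1 x = 0 := Subsingleton.elim _ _
  obtain ⟨⟨s, hs⟩, hsx⟩ :=
    (IsLocalizedModule.eq_zero_iff m.primeCompl (TensorProduct.mk A (Localization m.primeCompl) (H l i) 1)).mp h0
  exact hs (hJm hsx)

/-! ### Quotient by a regular sequence -/

theorem nonempty_H_quotient_iso (f g : List A) (hf : LCI.IsKoszulRegularSeq A f)
    (π : A →+* B) (hπ : Function.Surjective π) (hker : RingHom.ker π = Ideal.ofList f) (i : ℤ) :
    Nonempty (H (g ++ f) i ≅ (ModuleCat.restrictScalars.{u} π).obj (H (g.map π) i)) := by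
  let R := ModuleCat.restrictScalars.{u} π
  let prs : List (B × A) := g.map fun a => (π a, a)
  have hR : ∀ q ∈ prs, ∀ {M N : ModuleCat.{u} B} (φ : M ⟶ N), R.map (q.1 • φ) = q.2 • R.map φ := by
    intro q hq M N φ
    obtain ⟨a, -, rfl⟩ := List.mem_map.mp hq
    rfl
  let _ := π.toAlgebra
  let eB : R.obj (ModuleCat.of B B) ≅ ModuleCat.of A (A ⧸ Ideal.ofList f) :=
    (LinearEquiv.toModuleIso (X₁ := ModuleCat.of A (A ⧸ Ideal.ofList f))
      (X₂ := R.obj (ModuleCat.of B B))
      ((Submodule.quotEquivOfEq _ (LinearMap.ker (Algebra.linearMap A B)) hker.symm).trans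
        ((Algebra.linearMap A B).quotKerEquivOfSurjective hπ))).symm
  have hl : prs.map Prod.fst = g.map π := by simp [prs, Function.comp_def]
  have hl' : prs.map Prod.snd = g := by simp [prs, Function.comp_def]
  have e1 : Nonempty (((R.mapHomologicalComplex (ComplexShape.up ℤ)).obj
      (Koszul.koszul B (g.map π))).homology i ≅ R.obj (H (g.map π) i)) :=
    ⟨((Koszul.koszul B (g.map π)).sc i).mapHomologyIso R⟩
  obtain ⟨e1⟩ := e1
  let K₀ := (HomologicalComplex.single (ModuleCat.{u} B) (ComplexShape.up ℤ) 0).obj (ModuleCat.of B B)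
  let e2 := (HomologicalComplex.homologyFunctor _ _ i).mapIso
    (eqToIso (congrArg (R.mapHomologicalComplex (ComplexShape.up ℤ)).obj
      ((koszul_eq_kz B (g.map π)).trans (congrArg (kz K₀) hl.symm))) ≪≫ kzFunctorIso R K₀ prs hR ≪≫
      eqToIso (congrArg (kz ((R.mapHomologicalComplex (ComplexShape.up ℤ)).obj K₀)) hl'))
  let φ := (HomologicalComplex.singleMapHomologicalComplex R (ComplexShape.up ℤ) 0).hom.app
    (ModuleCat.of B B) ≫ (HomologicalComplex.single (ModuleCat.{u} A) (ComplexShape.up ℤ) 0).map eB.hom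
  have := quasiIso_kzMap φ g
  have := quasiIso_aug f hf
  have hq := quasiIso_kzMap (aug f) g
  have : IsIso (HomologicalComplex.homologyMap (kzMap (aug f) g) i) :=
    (quasiIsoAt_iff_isIso_homologyMap _ i).mp (hq.quasiIsoAt i)
  let a2 := @asIso _ _ _ _ (HomologicalComplex.homologyMap (kzMap (aug f) g) i) this
  let a3 := (asIso (HomologicalComplex.homologyMap (kzMap φ g) i)).symm ≪≫ e2.symm ≪≫ e1
  exact ⟨(HomologicalComplex.homologyFunctor _ _ i).mapIso (eqToIso (koszul_append f g)) ≪≫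
    a2 ≪≫ a3⟩

theorem isKoszulRegularSeq_append_iff (f g : List A) (hf : LCI.IsKoszulRegularSeq A f)
    (π : A →+* B) (hπ : Function.Surjective π) (hker : RingHom.ker π = Ideal.ofList f) :
    LCI.IsKoszulRegularSeq A (g ++ f) ↔ LCI.IsKoszulRegularSeq B (g.map π) := by
  refine forall_congr' fun i => imp_congr_right fun _ => ?_
  obtain ⟨e⟩ := nonempty_H_quotient_iso f g hf π hπ hker i
  refine ⟨fun h => ?_, fun h => IsZero.of_iso ((ModuleCat.restrictScalars.{u} π).map_isZero h) e⟩
  have hs := ModuleCat.subsingleton_of_isZero (h.of_iso e.symm)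
  have : Subsingleton (H (g.map π) i) := hs
  exact ModuleCat.isZero_of_subsingleton _

/-! ### Injectivity in degree zero -/

theorem mem_of_mul_mem {f : A} {l : List A} (h : LCI.IsKoszulRegularSeq A (f :: l)) {b : A}
    (hb : f * b ∈ Ideal.ofList l) : b ∈ Ideal.ofList l := by
  obtain ⟨-, hinj⟩ := (isKoszulRegularSeq_cons_iff f l).mp h (-1) (by norm_num)
  rw [show (-1 : ℤ) + 1 = 0 by norm_num] at hinj
  obtain ⟨x, hx⟩ := (bijective_augH l).2 (Submodule.Quotient.mk b)
  have : x = 0 := hinj x ((bijective_augH l).1 (by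
    rw [map_smul, map_zero, hx, ← Submodule.Quotient.mk_smul]
    exact (Submodule.Quotient.mk_eq_zero _).mpr hb))
  rw [this, map_zero] at hx
  exact (Submodule.Quotient.mk_eq_zero _).mp hx.symm

end Groth.KoszulLCI
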