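import Groth.Agent.KoszulLCI.ConormalMono

/-!
# The conormal sequence of a composite is short exact when the first immersion is `H₁`-regular
-/

set_option autoImplicit false

universe u

open CategoryTheory Limits AlgebraicGeometry Opposite TopologicalSpace

namespace Groth.KoszulLCI

open Groth.OmegaSheaf

theorem exists_transChart_immersion {Z Y X : Scheme.{u}} (i : Z ⟶ Y) (j : Y ⟶ X) [IsImmersion i] [IsImmersion j]
    (z : Z) : ∃ (W W' : X.Opens) (e : W' ≤ 𝟙 X ⁻¹ᵁ W), (i ≫ j) z ∈ W' ∧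
      IsConormalChart (i ≫ j) W' ∧ IsAffineOpen (j ⁻¹ᵁ W') ∧ Function.Surjective (j.app W') ∧
      RingHom.ker (j.app W').hom ≤ (RingHom.ker (j.app W).hom).map ((𝟙 X : X ⟶ X).appLE W W' e).hom := by
  obtain ⟨W, hW, hz, hle⟩ := exists_conormalChart (i ≫ j) z
    (W₀ := j.coborderRange) (subset_coborder ⟨i z, rfl⟩)
  have hWj := isConormalChart_of_le j hW.affine hle
  refine ⟨W, W, le_rfl, hz, hW, hWj.affine_preimage, hWj.surjective, fun x hx ↦ ?_⟩
  refine (show ((𝟙 X : X ⟶ X).appLE W W le_rfl) x = x from ?_) ▸ Ideal.mem_map_of_mem _ hx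
  rw [show (𝟙 X : X ⟶ X).appLE W W le_rfl = (𝟙 X : X ⟶ X).app W from ((𝟙 X : X ⟶ X).app_eq_appLE (U := W)).symm]
  rfl

/-- The conormal sequence is short exact. -/
theorem conormal_shortExact {Z Y X : Scheme.{u}} (i : Z ⟶ Y) (j : Y ⟶ X) [IsImmersion i] [IsImmersion j]
    [QuasiCompact i] [QuasiCompact j]
    {a : (Scheme.Modules.pullback i).obj (Omega.conormal j) ⟶ Omega.conormal (i ≫ j)}
    (ha : OmegaSh.IsConormalMap (i ≫ j) j (𝟙 X) i a)
    {b : (Scheme.Modules.pullback (𝟙 Z)).obj (Omega.conormal (i ≫ j)) ⟶ Omega.conormal i}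
    (hb : OmegaSh.IsConormalMap i (i ≫ j) j (𝟙 Z) b)
    (hi : ∀ z : Z, RegImm.IsRegularImmersionAt .h1 i z) :
    ∃ w : a ≫ ((Scheme.Modules.pullbackId Z).inv.app (Omega.conormal (i ≫ j)) ≫ b) = 0,
      (ShortComplex.mk a ((Scheme.Modules.pullbackId Z).inv.app (Omega.conormal (i ≫ j)) ≫ b) w).ShortExact := by
  have w := transMap_comp_eq_zero ha hb (e := 𝟙 Y) (show j ≫ 𝟙 X = 𝟙 Y ≫ j by simp)
  have hch := exists_transChart_immersion i j
  have : Epi b := transMap_epi hb fun z ↦ by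
    obtain ⟨W, W', e, hz, hW', hV, hn, -⟩ := hch z
    exact ⟨W', hz, hW', hV, hn⟩
  have hepi : Epi ((Scheme.Modules.pullbackId Z).inv.app (Omega.conormal (i ≫ j)) ≫ b) := by
    have : Epi ((Scheme.Modules.pullbackId Z).inv.app (Omega.conormal (i ≫ j))) :=
      (inferInstance : Epi ((Scheme.Modules.pullbackId Z).app (Omega.conormal (i ≫ j))).inv)
    exact epi_comp' this ‹Epi b›
  exact ⟨w, { exact := transMap_exact ha hb hch w, mono_f := conormalMap_mono i j ha hi, epi_g := hepi }⟩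

end Groth.KoszulLCI
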