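import Groth.Agent.KoszulLCI.FibrewiseRegular
import Groth.Agent.AlgSpCartier.RegKinds
import Groth.Agent.S9272
import Groth.Agent.S9273

/-!
# Base change of relative `H₁`-regular and quasi-regular immersions
-/

set_option autoImplicit false
set_option linter.style.haveILetI false
set_option linter.unusedSectionVars false

universe u

open CategoryTheory CategoryTheory.Limits AlgebraicGeometry TensorProduct

namespace Groth.KoszulLCI

section Algebra

variable {A B : Type u} [CommRing A] [CommRing B] [Algebra A B]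

theorem isH1Regular_baseChange_pushout (A' : Type u) {B' : Type u} [CommRing A'] [CommRing B']
    [Algebra A A'] [Algebra A' B'] [Algebra B B'] [Algebra A B'] [IsScalarTower A A' B']
    [IsScalarTower A B B'] [Algebra.IsPushout A A' B B'] {r : ℕ} (f : Fin r → B)
    (hflat : Module.Flat A (B ⧸ Ideal.span (Set.range f))) (hf : CAlgX.IsH1Regular f) :
    CAlgX.IsH1Regular (algebraMap B B' ∘ f) := by
  let E := Algebra.IsPushout.equiv A A' B B'
  have h := isH1Regular_map (E : TensorProduct A A' B →+* B') (RingHom.Flat.of_bijective E.bijective)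
    (Groth.Agent.S9273.result A B A' r f hflat hf)
  convert h using 1
  funext j
  exact ((Algebra.IsPushout.equiv_tmul A A' B B' (1 : A') (f j)).trans (by simp)).symm

theorem isQuasiRegular_baseChange_pushout (A' : Type u) {B' : Type u} [CommRing A'] [CommRing B']
    [Algebra A A'] [Algebra A' B'] [Algebra B B'] [Algebra A B'] [IsScalarTower A A' B']
    [IsScalarTower A B B'] [Algebra.IsPushout A A' B B'] {r : ℕ} (f : Fin r → B)
    (hflat : Module.Flat A (B ⧸ Ideal.span (Set.range f))) (hf : CAlgX.IsQuasiRegular f) :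
    CAlgX.IsQuasiRegular (algebraMap B B' ∘ f) := by
  let E := Algebra.IsPushout.equiv A A' B B'
  have h := isQuasiRegular_map (E : TensorProduct A A' B →+* B') (RingHom.Flat.of_bijective E.bijective)
    (Groth.Agent.S9272.result A B A' r f hflat hf)
  convert h using 1
  funext j
  exact ((Algebra.IsPushout.equiv_tmul A A' B B' (1 : A') (f j)).trans (by simp)).symm

theorem seq_baseChange (A' : Type u) {B' : Type u} [CommRing A'] [CommRing B']
    [Algebra A A'] [Algebra A' B'] [Algebra B B'] [Algebra A B'] [IsScalarTower A A' B']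
    [IsScalarTower A B B'] [Algebra.IsPushout A A' B B'] (k : RegImm.Kind) (hk : k = .h1 ∨ k = .quasi) (l : List B)
    [Module.Flat A (B ⧸ Ideal.ofList l)] (h : k.Seq B l) :
    k.Seq B' (l.map (algebraMap B B')) := by
  have hflat : Module.Flat A (B ⧸ Ideal.span (Set.range l.get)) := by
    rw [Set.range_list_get]
    exact ‹Module.Flat A (B ⧸ Ideal.ofList l)›
  rcases hk with rfl | rfl
  · show CAlgX.IsH1Regular (l.map (algebraMap B B')).get
    rw [get_map]
    exact cast_transfer (fun c g => CAlgX.IsH1Regular (c := c) g) (List.length_map (as := l) (algebraMap B B'))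
      (algebraMap B B' ∘ l.get) (isH1Regular_baseChange_pushout (A := A) A' l.get hflat h)
  · show CAlgX.IsQuasiRegular (l.map (algebraMap B B')).get
    rw [get_map]
    exact cast_transfer (fun c g => CAlgX.IsQuasiRegular (c := c) g) (List.length_map (as := l) (algebraMap B B'))
      (algebraMap B B' ∘ l.get) (isQuasiRegular_baseChange_pushout (A := A) A' l.get hflat h)

theorem flat_quotient_of_surjective {C : Type u} [CommRing C] (π : B →+* C) (hπ : Function.Surjective π)
    (hC : (π.comp (algebraMap A B)).Flat) (I : Ideal B) (hI : RingHom.ker π = I) : Module.Flat A (B ⧸ I) := by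
  subst hI
  let _ : Algebra A C := (π.comp (algebraMap A B)).toAlgebra
  have : Module.Flat A C := hC
  let πA : B →ₐ[A] C := { π with commutes' := fun _ => rfl }
  exact Module.Flat.of_linearEquiv (Ideal.quotientKerAlgEquivOfSurjective (f := πA) hπ).toLinearEquiv

end Algebra

section Scheme

variable {Z Z' X X' S S' : Scheme.{u}}

/-- Base change of a relative `H₁`- or quasi-regular immersion. -/
theorem isRegularImmersionAt_baseChange_rel (k : RegImm.Kind) (hk : k = .h1 ∨ k = .quasi)
    (f : X ⟶ S) (i : Z ⟶ X) [Flat (i ≫ f)] (g : S' ⟶ S) (p : X' ⟶ X) (f' : X' ⟶ S')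
    (hX : IsPullback p f' f g) (i' : Z' ⟶ X') (p' : Z' ⟶ Z) (hZ : IsPullback p' i' i p) (z : Z')
    (h : RegImm.IsRegularImmersionAt k i (p' z)) : RegImm.IsRegularImmersionAt k i' z := by
  obtain ⟨U, W, hUW, hzU, hci, rs, hrs, hker⟩ := exists_chart f k i (p' z) h
  have hpU : p (i' z) ∈ U.1 := by
    rw [← Scheme.Hom.comp_apply, ← hZ.w]
    exact hzU
  have hgW : g (f' (i' z)) ∈ W.1 := by
    rw [← Scheme.Hom.comp_apply f' g, ← hX.w]
    exact hUW hpU
  obtain ⟨W', hW', hzW', hW'W'⟩ := exists_isAffineOpen_mem_and_subset (show f' (i' z) ∈ g ⁻¹ᵁ W.1 from hgW)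
  have hW'W : W' ≤ g ⁻¹ᵁ W.1 := hW'W'
  let U' := p ⁻¹ᵁ U.1 ⊓ f' ⁻¹ᵁ W'
  have hUX : U' = p ⁻¹ᵁ U.1 ⊓ f' ⁻¹ᵁ W' := rfl
  have : IsAffine W.1.toScheme := W.2
  have : IsAffine W'.toScheme := hW'
  have : IsAffine U.1.toScheme := U.2
  have hU' : IsAffineOpen U' := IsAffine.of_isIso ((Scheme.Hom.isPullback_resLE hX hW'W hUW hUX).isoPullback).hom
  have hzU' : i' z ∈ U' := ⟨hpU, hzW'⟩
  have hpoX := (isIso_pushoutSection_iff hX hW'W hUW hUX).mp
    (isIso_pushoutSection_of_isAffineOpen hX hW'W hUW hUX W.2 hW' U.2)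
  have hk' : RingHom.ker (i'.app U').hom =
      Ideal.ofList (rs.map (p.appLE U.1 U' inf_le_left).hom) := by
    rw [Groth.RegKinds.ker_app_baseChange i p i' p' hZ U hU' inf_le_left, hker, Ideal.map_ofList]
  refine ⟨⟨U', hU'⟩, hzU', ?_, rs.map (p.appLE U.1 U' inf_le_left).hom, ?_, hk'⟩
  · have h1 := Scheme.Hom.isPullback_resLE hZ (inf_le_left : U' ≤ p ⁻¹ᵁ U.1) (le_refl (i ⁻¹ᵁ U.1))
      (show i' ⁻¹ᵁ U' = p' ⁻¹ᵁ (i ⁻¹ᵁ U.1) ⊓ i' ⁻¹ᵁ U' from (inf_eq_right.mpr fun y hy => by
        show i (p' y) ∈ U.1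
        rw [← Scheme.Hom.comp_apply, hZ.w]
        exact hy.1).symm)
    rw [Scheme.Hom.resLE_eq_morphismRestrict, Scheme.Hom.resLE_eq_morphismRestrict] at h1
    exact MorphismProperty.of_isPullback h1 hci
  let _ := (f.appLE W.1 U.1 hUW).hom.toAlgebra
  let _ := (f'.appLE W' U' inf_le_right).hom.toAlgebra
  let _ := (g.appLE W.1 W' hW'W).hom.toAlgebra
  let _ := (p.appLE U.1 U' inf_le_left).hom.toAlgebra
  let _ : Algebra Γ(S, W.1) Γ(X', U') :=
    ((f'.appLE W' U' inf_le_right).hom.comp (g.appLE W.1 W' hW'W).hom).toAlgebra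
  have : IsScalarTower Γ(S, W.1) Γ(S', W') Γ(X', U') := .of_algebraMap_eq fun _ => rfl
  have : IsScalarTower Γ(S, W.1) Γ(X, U.1) Γ(X', U') := .of_algebraMap_eq' (by
    have := congrArg (fun φ => φ.hom) hpoX.w
    simp only [CommRingCat.hom_comp] at this
    first | exact this | exact this.symm)
  have : Algebra.IsPushout Γ(S, W.1) Γ(S', W') Γ(X, U.1) Γ(X', U') := by
    rw [← CommRingCat.isPushout_iff_isPushout]
    first | exact hpoX | exact hpoX.flip
  have hV : IsAffineOpen (i ⁻¹ᵁ U.1) := Groth.KoszulReg.isAffineOpen_preimage i U.1 U.2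
  have hflat : Module.Flat Γ(S, W.1) (Γ(X, U.1) ⧸ Ideal.ofList rs) := by
    refine flat_quotient_of_surjective (i.app U.1).hom (Groth.KoszulReg.surjective_app i U.1 U.2) ?_ _ hker
    show ((i.app U.1).hom.comp (f.appLE W.1 U.1 hUW).hom).Flat
    rw [← CommRingCat.hom_comp, i.app_eq_appLE, Scheme.Hom.appLE_comp_appLE]
    exact Flat.flat_appLE (i ≫ f) W.2 hV _
  exact seq_baseChange (A := Γ(S, W.1)) Γ(S', W') k hk rs hrs

end Scheme

end Groth.KoszulLCI
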