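import Groth.Agent.KoszulLCI.BaseChange
import Mathlib.RingTheory.Smooth.Flat
import Mathlib.RingTheory.Smooth.StandardSmoothCotangent
import Mathlib.RingTheory.Smooth.StandardSmoothOfFree
import Mathlib.LinearAlgebra.Matrix.Block

/-!
# Smooth algebras are local complete intersections
-/

set_option autoImplicit false

universe u

open MvPolynomial

namespace Groth.KoszulLCI

variable {A : Type u} [CommRing A] {ι σ : Type u}

theorem isKoszulRegularIdeal_map_flat {R S : Type u} [CommRing R] [CommRing S] (θ : R →+* S)
    (hθ : θ.Flat) {I : Ideal R} (h : LCI.IsKoszulRegularIdeal I) :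
    LCI.IsKoszulRegularIdeal (I.map θ) := by
  let _ := θ.toAlgebra
  have : Module.Flat R S := hθ
  exact isKoszulRegularIdeal_map (B := S) h

theorem isKoszulRegularIdeal_of_ringEquiv_left {R S : Type u} [CommRing R] [CommRing S] (e : R ≃+* S)
    {I : Ideal R} (h : LCI.IsKoszulRegularIdeal I) : LCI.IsKoszulRegularIdeal (I.map e.toRingHom) :=
  (isKoszulRegularIdeal_map_ringEquiv_iff e).mpr h

theorem isKoszulRegularIdeal_bot (R : Type u) [CommRing R] : LCI.IsKoszulRegularIdeal (⊥ : Ideal R) := by
  refine isKoszulRegularIdeal_of_away fun p hp _ => ⟨1, hp.one_notMem,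
    Localization.Away (1 : R), inferInstance, inferInstance, inferInstance, 0, [], rfl, ?_, ?_⟩
  · intro i hi
    exact HomologicalComplex.isZero_single_obj_homology _ _ _ _ hi
  · simp

/-- The variables generate a Koszul-regular ideal. -/
theorem isKoszulRegularIdeal_vars [Finite σ] :
    LCI.IsKoszulRegularIdeal (Ideal.span (Set.range (X : σ → MvPolynomial σ A))) := by
  obtain ⟨c, ⟨e⟩⟩ := Finite.exists_equiv_fin σ
  let E := (renameEquiv A e.symm).toRingEquiv
  have h1 : LCI.IsKoszulRegularIdeal
      (RingHom.ker (eval₂Hom (RingHom.id A) (fun _ : Fin c => (0 : A)))) := by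
    rw [isKoszulRegularIdeal_ker_eval₂Hom_iff c A (RingHom.id A) Function.surjective_id]
    rw [show RingHom.ker (RingHom.id A) = ⊥ from (RingHom.injective_iff_ker_eq_bot _).mp Function.injective_id]
    exact isKoszulRegularIdeal_bot A
  have h2 : RingHom.ker (eval₂Hom (RingHom.id A) (fun _ : Fin c => (0 : A))) =
      Ideal.span (Set.range (X : Fin c → MvPolynomial (Fin c) A)) := by
    refine le_antisymm (fun p hp => ?_) (Ideal.span_le.mpr ?_)
    · have hd : p - C (eval₂Hom (RingHom.id A) (fun _ : Fin c => (0 : A)) p) ∈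
          Ideal.span (Set.range (X : Fin c → MvPolynomial (Fin c) A)) := by
        clear hp
        induction p using MvPolynomial.induction_on with
        | C a => simp
        | add p q hp hq =>
          rw [map_add, map_add, add_sub_add_comm]
          exact add_mem hp hq
        | mul_X p i _ =>
          rw [map_mul, eval₂Hom_X', mul_zero, C_0, sub_zero]
          exact Ideal.mul_mem_left _ _ (Ideal.subset_span ⟨i, rfl⟩)
      rwa [RingHom.mem_ker.mp hp, C_0, sub_zero] at hd
    · rintro _ ⟨i, rfl⟩
      simp
  rw [h2] at h1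
  have h3 := isKoszulRegularIdeal_of_ringEquiv_left E h1
  rw [Ideal.map_span, ← Set.range_comp] at h3
  convert h3 using 2
  refine le_antisymm ?_ ?_
  · rintro _ ⟨s, rfl⟩
    exact ⟨e s, by simp [E]⟩
  · rintro _ ⟨i, rfl⟩
    exact ⟨e.symm i, by simp [E]⟩

theorem isUnit_map_mul_self {R S : Type u} [CommRing R] [CommRing S] (π : R →+* S) (a : R) (w : S)
    (h : π a * w = 1) : IsUnit (π (a * a)) := by
  rw [map_mul]
  exact (isUnit_iff_exists_inv.mpr ⟨_, h⟩).mul (isUnit_iff_exists_inv.mpr ⟨_, h⟩)

/-- If a standard smooth `K`-algebra is identified with `T[1/g]`, then `K → T[1/g]` is flat. -/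
theorem flat_comp_of_isStandardSmooth {K T L S : Type u} [CommRing K] [CommRing T] [CommRing L]
    [Algebra T L] [CommRing S] [Algebra K S] (h : Algebra.IsStandardSmooth K S) (g : T)
    [IsLocalization.Away g L] (φ : K →+* T) (π : T →+* S) (w : S)
    (hπφ : π.comp φ = algebraMap K S) (hgu : π g * w = 1) (back : S →+* L)
    (hback : back.comp π = algebraMap T L)
    (hbackK : back.comp (algebraMap K S) = (algebraMap T L).comp φ)
    (hbackw : back w = IsLocalization.Away.invSelf g)
    (hext : ∀ r : S →+* S, r.comp (algebraMap K S) = algebraMap K S → r.comp π = π → r w = w →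
      r = RingHom.id S) :
    ((algebraMap T L).comp φ).Flat := by
  have : Algebra.Smooth K S := inferInstance
  let fwd : L →+* S := IsLocalization.Away.lift g (g := π) (isUnit_iff_exists_inv.mpr ⟨_, hgu⟩)
  have hfwd : fwd.comp (algebraMap T L) = π := IsLocalization.Away.lift_comp _ _
  have hbf : back.comp fwd = RingHom.id L := by
    refine IsLocalization.ringHom_ext (Submonoid.powers g) ?_
    rw [RingHom.comp_assoc, hfwd, RingHom.id_comp, hback]
  have hfb : fwd.comp back = RingHom.id S := by
    refine hext _ ?_ ?_ ?_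
    · rw [RingHom.comp_assoc, hbackK, ← RingHom.comp_assoc, hfwd, hπφ]
    · rw [RingHom.comp_assoc, hback, hfwd]
    · show fwd (back w) = w
      rw [hbackw]
      have h1 : fwd (algebraMap T L g) * fwd (IsLocalization.Away.invSelf g) = 1 := by
        rw [← map_mul, IsLocalization.Away.mul_invSelf, map_one]
      rw [← RingHom.comp_apply, hfwd] at h1
      exact left_inv_eq_right_inv (by rw [mul_comm]; exact h1) hgu
  rw [← hbackK]
  refine RingHom.Flat.comp (RingHom.flat_algebraMap_iff.mpr inferInstance)
    (RingHom.Flat.of_bijective ⟨fun a b h => ?_, fun t => ⟨fwd t, RingHom.congr_fun hbf t⟩⟩)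
  have := congrArg fwd h
  rwa [← RingHom.comp_apply, ← RingHom.comp_apply, hfb] at this

section

variable [Finite ι] [Fintype σ] [DecidableEq σ] (f : σ → MvPolynomial ι A) (m : σ → ι)

/-- The Jacobian minor. -/
noncomputable def jac : MvPolynomial ι A := (Matrix.of fun i j => pderiv (m i) (f j)).det

set_option synthInstance.maxHeartbeats 400000 in
set_option maxHeartbeats 1600000 in
/-- The polynomial ring in the values of the relations maps flatly to the locus where the Jacobian
is invertible. -/
theorem flat_away_jac (hm : Function.Injective m) :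
    ((algebraMap (MvPolynomial ι A) (Localization.Away (jac f m))).comp
      (MvPolynomial.aeval f : MvPolynomial σ A →ₐ[A] MvPolynomial ι A).toRingHom).Flat := by
  classical
  let g := jac f m
  let θ : MvPolynomial σ A →+* (Localization.Away g) := (algebraMap (MvPolynomial ι A) (Localization.Away g)).comp
    (MvPolynomial.aeval f : MvPolynomial σ A →ₐ[A] MvPolynomial ι A).toRingHom
  show θ.Flat
  let up : MvPolynomial ι A →+* MvPolynomial (ι ⊕ PUnit.{u+1}) (MvPolynomial σ A) :=
    eval₂Hom (C.comp C) fun i => X (Sum.inl i)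
  let v : σ ⊕ PUnit.{u+1} → MvPolynomial (ι ⊕ PUnit.{u+1}) (MvPolynomial σ A) :=
    Sum.elim (fun s => up (f s) - C (X s)) fun _ => up g * X (Sum.inr PUnit.unit) - 1
  let P := Algebra.PreSubmersivePresentation.naive (v := v) (Sum.map m id)
    (hm.sumMap Function.injective_id)
  let mk : MvPolynomial (ι ⊕ PUnit.{u+1}) (MvPolynomial σ A) →+* (MvPolynomial (ι ⊕ PUnit.{u+1}) (MvPolynomial σ A) ⧸ Ideal.span (Set.range v)) := Ideal.Quotient.mk _
  have hv : ∀ x, mk (v x) = 0 := fun x =>
    Ideal.Quotient.eq_zero_iff_mem.mpr (Ideal.subset_span ⟨x, rfl⟩)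
  have hgu : mk (up g) * mk (X (Sum.inr PUnit.unit)) = 1 := by
    rw [← map_mul, ← sub_eq_zero, ← map_one mk, ← map_sub]
    exact hv (Sum.inr PUnit.unit)
  have hup : ∀ (i : ι) (p : MvPolynomial ι A), pderiv (Sum.inl i) (up p) = up (pderiv i p) := by
    intro i p
    induction p using MvPolynomial.induction_on with
    | C a => simp [up]
    | add p q hp hq => simp [hp, hq]
    | mul_X p j hp =>
      simp only [map_mul, Derivation.leibniz, hp, map_add, smul_eq_mul]
      rcases eq_or_ne i j with rfl | hij
      · simp [up]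
      · simp [up, hij, Pi.single_apply, Sum.inl.injEq, hij.symm]
  have hup' : ∀ p : MvPolynomial ι A, pderiv (Sum.inr PUnit.unit) (up p) = 0 := by
    intro p
    induction p using MvPolynomial.induction_on with
    | C a => simp [up]
    | add p q hp hq => simp [hp, hq]
    | mul_X p j hp =>
      simp only [map_mul, Derivation.leibniz, hp]
      simp [up]
  have hM : P.jacobiMatrix =
      Matrix.fromBlocks ((Matrix.of fun i j => pderiv (m i) (f j)).map up)
        (Matrix.of fun i (_ : PUnit.{u+1}) => pderiv (Sum.inl (m i)) (v (Sum.inr PUnit.unit)))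
        0 (Matrix.of fun _ _ => up g) := by
    ext i j : 1
    rw [Algebra.PreSubmersivePresentation.jacobiMatrix_naive]
    rcases i with i | i <;> rcases j with j | j
    · simp [v, hup]
    · rfl
    · simp [v, hup']
    · simp [v, hup']
  have hj : IsUnit P.jacobian := by
    rw [P.jacobian_eq_jacobiMatrix_det, hM, Matrix.det_fromBlocks_zero₂₁,
      Matrix.det_unique (Matrix.of fun (_ _ : PUnit.{u+1}) => up g),
      ← RingHom.mapMatrix_apply, ← RingHom.map_det]
    exact isUnit_map_mul_self mk (up g) (mk (X (Sum.inr PUnit.unit))) hgu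
  have hsm := Algebra.SubmersivePresentation.isStandardSmooth
      ({ P with jacobian_isUnit := hj } : Algebra.SubmersivePresentation (MvPolynomial σ A) (MvPolynomial (ι ⊕ PUnit.{u+1}) (MvPolynomial σ A) ⧸ Ideal.span (Set.range v)) (ι ⊕ PUnit.{u+1}) (σ ⊕ PUnit.{u+1}))
  let back₀ : MvPolynomial (ι ⊕ PUnit.{u+1}) (MvPolynomial σ A) →+* (Localization.Away g) := eval₂Hom θ
    (Sum.elim (fun i => algebraMap (MvPolynomial ι A) (Localization.Away g) (X i)) fun _ => IsLocalization.Away.invSelf g)
  have hback : back₀.comp up = algebraMap (MvPolynomial ι A) (Localization.Away g) :=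
    MvPolynomial.ringHom_ext (fun a => by simp [back₀, up, θ, MvPolynomial.algebraMap_eq, -MvPolynomial.aeval_eq_bind₁]) fun i => by simp [back₀, up]
  have hback0 : ∀ x ∈ Ideal.span (Set.range v), back₀ x = 0 := by
    show Ideal.span (Set.range v) ≤ RingHom.ker back₀
    rw [Ideal.span_le]
    rintro _ ⟨(s | _), rfl⟩
    · show back₀ (up (f s) - C (X s)) = 0
      rw [map_sub, ← RingHom.comp_apply, hback]
      simp [back₀, θ, -MvPolynomial.aeval_eq_bind₁]
    · show back₀ (up g * X (Sum.inr PUnit.unit) - 1) = 0
      rw [map_sub, map_mul, ← RingHom.comp_apply, hback]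
      simp [back₀, IsLocalization.Away.mul_invSelf]
  refine flat_comp_of_isStandardSmooth (L := Localization.Away g) hsm g
    (MvPolynomial.aeval f : (MvPolynomial σ A) →ₐ[A] MvPolynomial ι A).toRingHom (mk.comp up)
    (mk (X (Sum.inr PUnit.unit))) ?_ hgu (Ideal.Quotient.lift _ back₀ hback0) hback ?_ ?_ ?_
  · refine MvPolynomial.ringHom_ext (fun a => ?_) fun s => ?_
    · simp [up]
      rfl
    · show mk (up (MvPolynomial.aeval f (X s))) = mk (C (X s))
      rw [aeval_X, ← sub_eq_zero, ← map_sub]
      exact hv (Sum.inl s)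
  · exact RingHom.ext fun k => show back₀ (C k) = θ k from eval₂Hom_C _ _ _
  · show back₀ (X (Sum.inr PUnit.unit)) = _
    rw [eval₂Hom_X', Sum.elim_inr]
  · intro r hK hπ hw
    refine Ideal.Quotient.ringHom_ext ?_
    rw [RingHom.id_comp]
    refine MvPolynomial.ringHom_ext (fun a => RingHom.congr_fun hK a) fun x => ?_
    rcases x with i | w
    · have := RingHom.congr_fun hπ (X i)
      simpa [up] using this
    · exact hw

theorem isKoszulRegularIdeal_away_jac (hm : Function.Injective m) :
    LCI.IsKoszulRegularIdeal ((Ideal.span (Set.range f)).map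
      (algebraMap (MvPolynomial ι A) (Localization.Away (jac f m)))) := by
  let θ := (algebraMap (MvPolynomial ι A) (Localization.Away (jac f m))).comp
      (MvPolynomial.aeval f : MvPolynomial σ A →ₐ[A] MvPolynomial ι A).toRingHom
  have h := isKoszulRegularIdeal_map_flat θ (flat_away_jac f m hm)
    (isKoszulRegularIdeal_vars (A := A) (σ := σ))
  rw [Ideal.map_span, ← Set.range_comp] at h ⊢
  convert h using 3
  funext s
  show algebraMap _ (Localization.Away (jac f m)) (f s) = θ (X s)
  simp [θ]

end

/-- Standard smooth algebras are local complete intersections. -/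
theorem isLCI_of_isStandardSmooth (B : Type u) [CommRing B] [Algebra A B]
    [h : Algebra.IsStandardSmooth A B] : LCI.IsLCI A B := by
  classical
  obtain ⟨ι', σ', _, _, ⟨P₀⟩⟩ := h.out
  obtain ⟨n, ⟨e⟩⟩ := Finite.exists_equiv_fin ι'
  obtain ⟨c, ⟨d⟩⟩ := Finite.exists_equiv_fin σ'
  let P := P₀.toPreSubmersivePresentation.reindex e.symm d.symm
  have hjac : IsUnit P.jacobian := by
    rw [Algebra.PreSubmersivePresentation.jacobian_reindex]
    exact P₀.jacobian_isUnit
  let α : MvPolynomial (Fin n) A →ₐ[A] B := MvPolynomial.aeval P.val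
  have hα : Function.Surjective α := P.aeval_val_surjective
  refine ⟨Algebra.FiniteType.of_surjective α hα, n, α, hα, ?_⟩
  have hker : RingHom.ker α.toRingHom = Ideal.span (Set.range P.relation) := by
    rw [P.span_range_relation_eq_ker, P.toGenerators.ker_eq_ker_aeval_val]
    rfl
  let g := jac (fun s : ULift.{u} (Fin c) => MvPolynomial.rename ULift.up (P.relation s.down))
    (fun s => ULift.up (P.map s.down))
  let E := MvPolynomial.renameEquiv A (Equiv.ulift.{u} (α := Fin n))
  rw [← isKoszulRegularIdeal_comap_ringEquiv_iff E.toRingEquiv]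
  have hgens : (RingHom.ker α.toRingHom).comap E.toRingEquiv.toRingHom = Ideal.span
      (Set.range fun s : ULift.{u} (Fin c) => MvPolynomial.rename ULift.up (P.relation s.down)) := by
    rw [hker]
    rw [show (Ideal.span (Set.range P.relation)).comap E.toRingEquiv.toRingHom =
      (Ideal.span (Set.range P.relation)).comap E.toRingEquiv from rfl]
    rw [← Ideal.map_symm, Ideal.map_span, ← Set.range_comp]
    congr 1
    refine le_antisymm ?_ ?_
    · rintro _ ⟨s, rfl⟩; exact ⟨⟨s⟩, rfl⟩
    · rintro _ ⟨s, rfl⟩; exact ⟨s.down, rfl⟩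
  have hgu : IsUnit (α (E g)) := by
    have : E g = P.jacobiMatrix.det := by
      show E.toAlgHom.toRingHom g = _
      rw [show P.jacobiMatrix = Matrix.of fun i j => pderiv (P.map i) (P.relation j) from
        Matrix.ext fun i j => by rw [P.jacobiMatrix_apply]; rfl]
      simp only [g, jac, RingHom.map_det, RingHom.mapMatrix_apply]
      rw [← Matrix.det_submatrix_equiv_self Equiv.ulift.symm]
      congr 1
      ext i j : 1
      show E (pderiv (ULift.up (P.map i)) (MvPolynomial.rename ULift.up (P.relation j))) =
        pderiv (P.map i) (P.relation j)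
      rw [MvPolynomial.pderiv_rename ULift.up_injective, MvPolynomial.renameEquiv_apply,
        MvPolynomial.rename_rename]
      exact MvPolynomial.rename_id_apply _
    rw [this]
    rw [P.jacobian_eq_jacobiMatrix_det] at hjac
    exact hjac
  refine isKoszulRegularIdeal_of_cover fun p _ => ?_
  by_cases hp : (RingHom.ker α.toRingHom).comap E.toRingEquiv.toRingHom ≤ p
  · refine ⟨g, fun hg => ?_, Localization.Away g, inferInstance, inferInstance, inferInstance, ?_⟩
    · let γ : MvPolynomial (ULift.{u} (Fin n)) A →+* B := α.toRingHom.comp E.toRingEquiv.toRingHom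
      have hγ : Function.Surjective γ := hα.comp E.surjective
      have hk : RingHom.ker γ ≤ p := (RingHom.comap_ker α.toRingHom E.toRingEquiv.toRingHom).symm.le.trans hp
      have := Ideal.map_isPrime_of_surjective hγ hk
      exact this.ne_top (Ideal.eq_top_of_isUnit_mem _ (Ideal.mem_map_of_mem γ hg) hgu)
    · rw [hgens]
      exact isKoszulRegularIdeal_away_jac _ _ fun a b h => ULift.down_injective
        (P.map_inj (congrArg ULift.down h))
  · obtain ⟨g', hgI, hg⟩ := SetLike.not_le_iff_exists.mp hp
    refine ⟨g', hg, Localization.Away g', inferInstance, inferInstance, inferInstance, ?_⟩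
    rw [Ideal.eq_top_of_isUnit_mem _ (Ideal.mem_map_of_mem _ hgI)
      (IsLocalization.Away.algebraMap_isUnit g')]
    exact fun q hq => absurd (top_unique hq) q.isPrime.ne_top

/-- Smooth algebras are local complete intersections. -/
theorem isLCI_of_smooth (B : Type u) [CommRing B] [Algebra A B] [Algebra.Smooth A B] :
    LCI.IsLCI A B := by
  obtain ⟨s, hs, h⟩ := Algebra.Smooth.exists_span_eq_top_isStandardSmooth A B
  exact isLCI_of_span_eq_top s hs fun g hg => have := h g hg; isLCI_of_isStandardSmooth _

end Groth.KoszulLCI
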