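import Groth.Agent.KoszulLCI.Perfect
import Groth.Agent.DAlg.BaseChange
import Groth.Agent.FlatCxBase.BaseChange
import Mathlib.Algebra.Polynomial.Basis
import Mathlib.Algebra.MvPolynomial.Equiv
import Mathlib.RingTheory.Polynomial.Basic
import Mathlib.LinearAlgebra.TensorProduct.Basis

/-!
# Tor amplitude over polynomial rings
-/

set_option autoImplicit false

universe u

open CategoryTheory TensorProduct Polynomial

attribute [local instance] HasDerivedCategory.standard

namespace Groth.KoszulLCI

open Groth.DAlg

/-- Flat base change preserves tor amplitude of modules. -/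
theorem hasTorAmp_baseChange {R : Type u} [CommRing R] (S : Type u) [CommRing S] [Algebra R S] [Module.Flat R S]
    (M : Type u) [AddCommGroup M] [Module R M] {a b : ℤ} (h : DRing.HasTorAmplitudeIn R a b (Dual.inD R M)) :
    DRing.HasTorAmplitudeIn S a b (Dual.inD S (S ⊗[R] M)) := by
  have := DAlg.hasLBaseChange (algebraMap R S)
  obtain ⟨e⟩ := DAlg.nonempty_lBaseChange_mD (algebraMap R S) (RingHom.flat_algebraMap_iff.2 inferInstance)
    (ModuleCat.of R M)
  exact TorAmp.of_iso (TorAmp.baseChange (algebraMap R S) h) (e ≪≫
    (DerivedCategory.singleFunctor (ModuleCat.{u} S) 0).mapIso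
      (FlatCxBase.extendEquiv S (ModuleCat.of R M)).toModuleIso)

/-- `TorUp B P m`: tor amplitude over `P` is at most `m` more than over `B`. -/
def TorUp (B P : Type u) [CommRing B] [CommRing P] [Algebra B P] (m : ℕ) : Prop :=
  ∀ (d : ℕ) (M : Type u) [AddCommGroup M] [Module B M] [Module P M] [IsScalarTower B P M],
    DRing.HasTorAmplitudeIn B (-(d : ℤ)) 0 (Dual.inD B M) →
    DRing.HasTorAmplitudeIn P (-((d + m : ℕ) : ℤ)) 0 (Dual.inD P M)

section Polynomial

variable {B : Type u} [CommRing B] (M : Type u) [AddCommGroup M] [Module B M] [Module B[X] M] [IsScalarTower B B[X] M]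

/-- The action map. -/
noncomputable def polyAct : B[X] ⊗[B] M →ₗ[B[X]] M :=
  (LinearMap.id : M →ₗ[B] M).liftBaseChange B[X]

/-- `X ⊗ 1 - 1 ⊗ X`. -/
noncomputable def polyDiff : B[X] ⊗[B] M →ₗ[B[X]] B[X] ⊗[B] M :=
  (X : B[X]) • LinearMap.id - ((DistribSMul.toLinearMap B M (X : B[X])).baseChange B[X])

theorem polyAct_tmul (p : B[X]) (m : M) : polyAct M (p ⊗ₜ m) = p • m := by
  simp [polyAct]

theorem polyDiff_tmul (p : B[X]) (m : M) : polyDiff M (p ⊗ₜ m) = (X * p) ⊗ₜ m - p ⊗ₜ ((X : B[X]) • m) := by
  simp [polyDiff, TensorProduct.smul_tmul', DistribSMul.toLinearMap]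

theorem surjective_polyAct : Function.Surjective (polyAct (B := B) M) := fun m =>
  ⟨1 ⊗ₜ m, by rw [polyAct_tmul, one_smul]⟩

theorem exact_polyDiff : Function.Exact (polyDiff (B := B) M) (polyAct M) := by
  have key : ∀ s : B[X] ⊗[B] M, s - 1 ⊗ₜ polyAct M s ∈ LinearMap.range (polyDiff M) := by
    intro s
    induction s with
    | zero => simp
    | add a b ha hb =>
      rw [map_add, TensorProduct.tmul_add, add_sub_add_comm]
      exact add_mem ha hb
    | tmul p m =>
      rw [polyAct_tmul]
      induction p using Polynomial.induction_on' generalizing m with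
      | add p q hp hq =>
        rw [TensorProduct.add_tmul, add_smul, TensorProduct.tmul_add, add_sub_add_comm]
        exact add_mem (hp m) (hq m)
      | monomial n a =>
        induction n generalizing m with
        | zero =>
          rw [Polynomial.monomial_zero_left, ← Polynomial.algebraMap_eq, algebraMap_smul,
            Algebra.algebraMap_eq_smul_one, TensorProduct.smul_tmul, sub_self]
          exact zero_mem _
        | succ n ih =>
          rw [← Polynomial.X_mul_monomial, mul_smul]
          have h1 : (monomial n a) • (X : B[X]) • m = (X : B[X]) • (monomial n a) • m := smul_comm _ _ _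
          have h2 := add_mem (LinearMap.mem_range_self (polyDiff M) ((monomial n a) ⊗ₜ m)) (ih ((X : B[X]) • m))
          rw [polyDiff_tmul, h1, sub_add_sub_cancel] at h2
          exact h2
  intro s
  refine ⟨fun hs => ?_, ?_⟩
  · simpa [hs] using key s
  · rintro ⟨t, rfl⟩
    induction t with
    | zero => simp
    | add a b ha hb => rw [map_add, map_add, ha, hb, add_zero]
    | tmul p m => rw [polyDiff_tmul, map_sub, polyAct_tmul, polyAct_tmul, mul_smul, smul_comm, sub_self]

theorem injective_polyDiff : Function.Injective (polyDiff (B := B) M) := by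
  let e := TensorProduct.equivFinsuppOfBasisLeft (N := M) (Polynomial.basisMonomials B)
  have hrec : ∀ (s : B[X] ⊗[B] M) (k : ℕ), e (polyDiff M s) (k + 1) = e s k - (X : B[X]) • e s (k + 1) := by
    intro s k
    induction s with
    | zero => simp
    | add a b ha hb =>
      simp only [LinearMap.map_add, LinearEquiv.map_add, Finsupp.add_apply, ha, hb, smul_add]
      abel
    | tmul p m =>
      rw [polyDiff_tmul, map_sub, Finsupp.sub_apply]
      simp only [e, TensorProduct.equivFinsuppOfBasisLeft_apply_tmul_apply]
      rw [show ((Polynomial.basisMonomials B).repr (X * p)) (k + 1) = (Polynomial.basisMonomials B).repr p k from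
        Polynomial.coeff_X_mul p k, smul_comm]
  rw [injective_iff_map_eq_zero]
  intro s hs
  have hz : ∀ k, e s k = (X : B[X]) • e s (k + 1) := fun k => by
    have := hrec s k
    rw [hs, map_zero, Finsupp.zero_apply] at this
    exact sub_eq_zero.mp this.symm
  obtain ⟨N, hN⟩ : ∃ N, ∀ k, N ≤ k → e s k = 0 :=
    ⟨(e s).support.sup id + 1, fun k hk => Finsupp.notMem_support_iff.mp fun hm => by
      have := Finset.le_sup (f := id) hm
      simp at this
      omega⟩
  have hall : ∀ j k, N ≤ k + j → e s k = 0 := by
    intro j
    induction j with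
    | zero => exact fun k hk => hN k hk
    | succ j ih =>
      intro k hk
      rw [hz k, ih (k + 1) (by omega), smul_zero]
  refine e.injective (Finsupp.ext fun k => ?_)
  rw [map_zero, Finsupp.zero_apply]
  exact hall N k (by omega)

end Polynomial

theorem torUp_polynomial (B : Type u) [CommRing B] : TorUp B B[X] 1 := by
  intro d M _ _ _ _ h
  have h1 := hasTorAmp_baseChange B[X] M h
  exact TorAmp.cone (shortExact_mk (injective_polyDiff M) (exact_polyDiff M) (surjective_polyAct M)).singleTriangle_distinguished
    (TorAmp.mono h1 (by push_cast; omega) (by omega)) (TorAmp.mono h1 (by push_cast; omega) le_rfl)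

variable {B P P' : Type u} [CommRing B] [CommRing P] [CommRing P'] [Algebra B P] [Algebra B P']

theorem TorUp.trans [Algebra P P'] [IsScalarTower B P P'] {m k : ℕ} (h : TorUp B P m) (h' : TorUp P P' k) :
    TorUp B P' (m + k) := by
  intro d M _ _ _ _ hM
  let _ : Module P M := Module.compHom M (algebraMap P P')
  have : IsScalarTower P P' M := IsScalarTower.of_algebraMap_smul fun _ _ => rfl
  have : IsScalarTower B P M := IsScalarTower.of_algebraMap_smul fun r x => by
    show algebraMap P P' (algebraMap B P r) • x = r • x
    rw [← IsScalarTower.algebraMap_apply, algebraMap_smul]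
  have h2 := h' (d + m) M (h d M hM)
  rwa [add_assoc] at h2

theorem TorUp.of_algEquiv (e : P ≃ₐ[B] P') {m : ℕ} (h : TorUp B P m) : TorUp B P' m := by
  intro d M _ _ _ _ hM
  let _ : Module P M := Module.compHom M (e : P →+* P')
  let _ : Algebra P' P := (e.symm : P' →+* P).toAlgebra
  have : Module.Flat P' P := Module.Flat.of_linearEquiv (M := P')
    { e.toAddEquiv with
      map_smul' := fun r x => by
        show e (e.symm r * x) = r * e x
        rw [map_mul, AlgEquiv.apply_symm_apply] }
  have : IsScalarTower P' P M := IsScalarTower.of_algebraMap_smul fun r x => by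
    show e (e.symm r) • x = r • x
    rw [AlgEquiv.apply_symm_apply]
  have : IsScalarTower B P M := IsScalarTower.of_algebraMap_smul fun r x => by
    show e (algebraMap B P r) • x = r • x
    rw [e.commutes, algebraMap_smul]
  exact hasTorAmp_restrictScalars (R := P') (P := P) _ M (h d M hM)

theorem torUp_mvPolynomial : ∀ (m : ℕ) (B : Type u) [CommRing B], TorUp B (MvPolynomial (Fin m) B) m := by
  intro m
  induction m with
  | zero =>
    intro B _
    refine TorUp.of_algEquiv (MvPolynomial.isEmptyAlgEquiv B (Fin 0)).symm ?_
    intro d M _ inst inst' hT hM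
    obtain rfl : inst' = inst := Module.ext' _ _ fun r x => by
      have := hT.smul_assoc r (1 : B) x
      simpa using this
    exact hM
  | succ m ih =>
    intro B _
    exact TorUp.of_algEquiv (MvPolynomial.finSuccEquiv B m).symm
      ((ih B).trans (torUp_polynomial (MvPolynomial (Fin m) B)))

/-- A finite-tor-dimension module has finite tor amplitude, and conversely. -/
theorem hasFiniteTorDim_iff {R : Type u} [CommRing R] (M : Type u) [AddCommGroup M] [Module R M] :
    DRing.HasFiniteTorDim R M ↔ ∃ d : ℕ, DRing.HasTorAmplitudeIn R (-(d : ℤ)) 0 (Dual.inD R M) :=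
  exists_congr fun d => hasTorDimLE_iff M d

/-- Finite tor dimension over `B` gives it over every polynomial ring over `B`. -/
theorem hasFiniteTorDim_mvPolynomial {B : Type u} [CommRing B] {m : ℕ} (M : Type u) [AddCommGroup M]
    [Module B M] [Module (MvPolynomial (Fin m) B) M] [IsScalarTower B (MvPolynomial (Fin m) B) M]
    (h : DRing.HasFiniteTorDim B M) : DRing.HasFiniteTorDim (MvPolynomial (Fin m) B) M := by
  obtain ⟨d, hd⟩ := (hasFiniteTorDim_iff M).1 h
  exact (hasFiniteTorDim_iff M).2 ⟨d + m, torUp_mvPolynomial m B d M hd⟩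

end Groth.KoszulLCI
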