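import Groth.Agent.KoszulLCI.Ideal
import Mathlib.RingTheory.RingHom.Surjective
import Mathlib.RingTheory.Polynomial.Basic

/-!
# Koszul-regular ideals: flat base change, localization, quotient by a nonzerodivisor
-/

set_option autoImplicit false

universe u

open IsLocalRing

namespace Groth.KoszulLCI

variable {A B R S : Type u} [CommRing A] [CommRing B] [CommRing R] [CommRing S]

theorem locReg_map [Algebra A B] [Module.Flat A B] {I : Ideal A} (q : Ideal B) [q.IsPrime]
    (p : Ideal A) [p.IsPrime] (hqp : p = q.comap (algebraMap A B)) {r : ℕ} (h : LocReg I p r) :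
    LocReg (I.map (algebraMap A B)) q r := by
  let θ : Localization.AtPrime p →+* Localization.AtPrime q :=
    Localization.localRingHom p q (algebraMap A B) hqp
  have hflat : θ.Flat := by
    let _ := θ.toAlgebra
    have : IsScalarTower A (Localization.AtPrime p) (Localization.AtPrime q) :=
      .of_algebraMap_eq fun a => (Localization.localRingHom_to_map p q (algebraMap A B) hqp a).symm
    exact (Module.flat_iff_of_isLocalization (Localization.AtPrime p) p.primeCompl
      (Localization.AtPrime q)).mpr (Module.Flat.trans A B _)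
  have hc : (I.map (algebraMap A (Localization.AtPrime p))).map θ =
      (I.map (algebraMap A B)).map (algebraMap B (Localization.AtPrime q)) := by
    rw [Ideal.map_map, Ideal.map_map]
    exact congrArg (fun φ => Ideal.map φ I)
      (RingHom.ext fun a => Localization.localRingHom_to_map p q (algebraMap A B) hqp a)
  show GenReg _ r
  rw [← hc]
  exact GenReg.map h θ hflat

/-- Koszul-regular ideals are stable under flat base change. -/
theorem isKoszulRegularIdeal_map [Algebra A B] [Module.Flat A B] {I : Ideal A}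
    (h : LCI.IsKoszulRegularIdeal I) : LCI.IsKoszulRegularIdeal (I.map (algebraMap A B)) := by
  refine isKoszulRegularIdeal_of_locReg ((fg_of_isKoszulRegularIdeal h).map _) fun q _ hq => ?_
  obtain ⟨g, hg, r, hr⟩ := locReg_of_isKoszulRegularIdeal h (q.comap (algebraMap A B))
    (Ideal.map_le_iff_le_comap.mp hq)
  exact ⟨algebraMap A B g, hg, r, fun q' _ _ hg' => locReg_map q' _ rfl (hr _ hg')⟩

theorem isKoszulRegularIdeal_map_ringEquiv_iff (e : A ≃+* B) {I : Ideal A} :
    LCI.IsKoszulRegularIdeal (I.map e.toRingHom) ↔ LCI.IsKoszulRegularIdeal I := by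
  let _ := e.toRingHom.toAlgebra
  let eL : A ≃ₗ[A] B :=
    { e with map_smul' := fun c x => by simp [Algebra.smul_def, RingHom.algebraMap_toAlgebra] }
  have : Module.FaithfullyFlat A B := Module.FaithfullyFlat.of_linearEquiv A A eL.symm
  exact ⟨fun h => isKoszulRegularIdeal_of_faithfullyFlat (B := B) h,
    fun h => isKoszulRegularIdeal_map (B := B) h⟩

theorem isKoszulRegularIdeal_comap_ringEquiv_iff (e : A ≃+* B) {I : Ideal B} :
    LCI.IsKoszulRegularIdeal (I.comap e.toRingHom) ↔ LCI.IsKoszulRegularIdeal I := by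
  rw [← isKoszulRegularIdeal_map_ringEquiv_iff e]
  rw [Ideal.map_comap_of_surjective e.toRingHom e.surjective]

/-- Koszul regularity is Zariski local. -/
theorem isKoszulRegularIdeal_of_cover {I : Ideal A}
    (h : ∀ p : Ideal A, p.IsPrime → ∃ g ∉ p, ∃ (R : Type u) (_ : CommRing R) (_ : Algebra A R)
      (_ : IsLocalization.Away g R), LCI.IsKoszulRegularIdeal (I.map (algebraMap A R))) :
    LCI.IsKoszulRegularIdeal I := by
  refine isKoszulRegularIdeal_of_away fun p _ hp => ?_
  obtain ⟨g, hg, R, _, _, _, hR⟩ := h p ‹_›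
  have hd : Disjoint (Submonoid.powers g : Set A) p := by
    rw [Set.disjoint_left]
    rintro _ ⟨n, rfl⟩ hn
    exact hg (Ideal.IsPrime.mem_of_pow_mem ‹_› n hn)
  have hP := IsLocalization.isPrime_of_isPrime_disjoint (Submonoid.powers g) R p ‹_› hd
  have hc : (p.map (algebraMap A R)).comap (algebraMap A R) = p :=
    IsLocalization.comap_map_of_isPrime_disjoint (Submonoid.powers g) R ‹_› hd
  obtain ⟨d, hd', r, hr⟩ := exists_locReg hR (p.map (algebraMap A R)) (Ideal.map_mono hp)
  obtain ⟨⟨d₀, ⟨s, hs⟩⟩, hd₀⟩ := IsLocalization.surj (Submonoid.powers g) d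
  have hus := IsLocalization.map_units R (⟨s, hs⟩ : Submonoid.powers g)
  have hd₀p : d₀ ∉ p := fun hmem => hd' <| by
    refine (Ideal.mul_unit_mem_iff_mem _ hus).mp ?_
    rw [hd₀]
    exact Ideal.mem_map_of_mem _ hmem
  refine ⟨d₀ * g, fun h => (Ideal.IsPrime.mem_or_mem ‹_› h).elim hd₀p hg, Localization.Away d,
    inferInstance, inferInstance, ?_, r, ?_⟩
  · have : IsLocalization.Away (algebraMap A R d₀) (Localization.Away d) :=
      IsLocalization.Away.of_associated (r := d)
        ⟨hus.unit, by rw [IsUnit.unit_spec]; exact hd₀⟩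
    exact IsLocalization.Away.mul R (Localization.Away d) g d₀
  · rwa [Ideal.map_map, ← IsScalarTower.algebraMap_eq] at hr

section Quotient

variable (π : R →+* S) (hπ : Function.Surjective π)
include hπ

theorem surjective_localRingHom (q' : Ideal S) [q'.IsPrime] :
    Function.Surjective (Localization.localRingHom (q'.comap π) q' π rfl) :=
  RingHom.surjective_localRingHom_of_surjective π hπ q'

theorem ker_localRingHom {t : R} (hker : RingHom.ker π = Ideal.span {t}) (q' : Ideal S) [q'.IsPrime] :
    RingHom.ker (Localization.localRingHom (q'.comap π) q' π rfl) =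
      Ideal.span {algebraMap R (Localization.AtPrime (q'.comap π)) t} := by
  refine le_antisymm (fun x hx => ?_) ?_
  · obtain ⟨a, s, rfl⟩ := IsLocalization.exists_mk'_eq (q'.comap π).primeCompl x
    rw [RingHom.mem_ker, Localization.localRingHom_mk', IsLocalization.mk'_eq_zero_iff] at hx
    obtain ⟨⟨c', hc'⟩, hca⟩ := hx
    obtain ⟨c, rfl⟩ := hπ c'
    have hmem : c * a ∈ Ideal.span {t} := hker ▸ (RingHom.mem_ker.mpr (by rw [map_mul]; exact hca))
    have h1 := Ideal.mem_map_of_mem (algebraMap R (Localization.AtPrime (q'.comap π))) hmem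
    rw [map_mul, Ideal.map_span, Set.image_singleton,
      Ideal.unit_mul_mem_iff_mem _ (IsLocalization.map_units _ (⟨c, hc'⟩ : (q'.comap π).primeCompl))] at h1
    rw [IsLocalization.mk'_eq_mul_mk'_one]
    exact Ideal.mul_mem_right _ _ h1
  · rw [Ideal.span_le, Set.singleton_subset_iff, SetLike.mem_coe, RingHom.mem_ker,
      Localization.localRingHom_to_map,
      show π t = 0 from RingHom.mem_ker.mp (hker ▸ Ideal.mem_span_singleton_self t), map_zero]

theorem map_localRingHom_map {t : R} (hker : RingHom.ker π = Ideal.span {t}) (I : Ideal S)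
    (q' : Ideal S) [q'.IsPrime] :
    ((I.comap π).map (algebraMap R (Localization.AtPrime (q'.comap π)))).map
        (Localization.localRingHom (q'.comap π) q' π rfl) =
      I.map (algebraMap S (Localization.AtPrime q')) := by
  rw [Ideal.map_map,
    show (Localization.localRingHom (q'.comap π) q' π rfl).comp
      (algebraMap R (Localization.AtPrime (q'.comap π))) =
      (algebraMap S (Localization.AtPrime q')).comp π from
      RingHom.ext fun a => Localization.localRingHom_to_map _ q' π rfl a,
    ← Ideal.map_map, Ideal.map_comap_of_surjective π hπ]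

theorem exists_prime_of_le {t : R} (hker : RingHom.ker π = Ideal.span {t}) (q : Ideal R) [q.IsPrime]
    (ht : t ∈ q) : ∃ q' : Ideal S, q'.IsPrime ∧ q'.comap π = q := by
  have hle : RingHom.ker π ≤ q := hker ▸ (Ideal.span_singleton_le_iff_mem _).mpr ht
  exact ⟨q.map π, Ideal.map_isPrime_of_surjective hπ hle,
    (Ideal.comap_map_of_surjective π hπ q).trans (sup_eq_left.mpr hle)⟩

variable {t : R} (hker : RingHom.ker π = Ideal.span {t})
include hker

theorem locReg_lift (I : Ideal S) (q' : Ideal S) [q'.IsPrime] {r : ℕ} (h : LocReg I q' r)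
    (ht : algebraMap R (Localization.AtPrime (q'.comap π)) t ∈ nonZeroDivisors _) :
    LocReg (I.comap π) (q'.comap π) (r + 1) := by
  let P := Localization.AtPrime (q'.comap π)
  let θ : P →+* Localization.AtPrime q' := Localization.localRingHom (q'.comap π) q' π rfl
  have hθ : Function.Surjective θ := surjective_localRingHom π hπ q'
  let t' : P := algebraMap R P t
  have hθk : RingHom.ker θ = Ideal.ofList [t'] := by
    rw [Ideal.ofList_singleton]
    exact ker_localRingHom π hπ hker q'
  obtain ⟨l', hl', hreg, hlI⟩ := h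
  obtain ⟨g, rfl⟩ : ∃ g : List P, g.map θ = l' := (List.map_surjective_iff.mpr hθ) l'
  refine ⟨g ++ [t'], by simpa using hl',
    (isKoszulRegularSeq_append_iff [t'] g (isKoszulRegularSeq_singleton ht) θ hθ hθk).mpr hreg, ?_⟩
  have hk : RingHom.ker θ ≤ (I.comap π).map (algebraMap R P) := by
    rw [hθk, Ideal.ofList_singleton, Ideal.span_le, Set.singleton_subset_iff]
    refine Ideal.mem_map_of_mem _ (Ideal.mem_comap.mpr ?_)
    rw [RingHom.mem_ker.mp (hker ▸ Ideal.mem_span_singleton_self t : t ∈ RingHom.ker π)]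
    exact I.zero_mem
  have h1 : ((Ideal.ofList g).map θ).comap θ = (((I.comap π).map (algebraMap R P)).map θ).comap θ := by
    rw [map_localRingHom_map π hπ hker, Ideal.map_ofList, hlI]
  rw [Ideal.comap_map_of_surjective θ hθ, Ideal.comap_map_of_surjective θ hθ] at h1
  rw [Ideal.ofList_append, ← hθk]
  exact h1.trans (sup_eq_left.mpr hk)

theorem locReg_quotient (I : Ideal S) (q' : Ideal S) [q'.IsPrime] {r : ℕ}
    (h : LocReg (I.comap π) (q'.comap π) r)
    (ht : algebraMap R (Localization.AtPrime (q'.comap π)) t ∈ nonZeroDivisors _)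
    (htm : algebraMap R (Localization.AtPrime (q'.comap π)) t ∉
      maximalIdeal (Localization.AtPrime (q'.comap π)) •
        (I.comap π).map (algebraMap R (Localization.AtPrime (q'.comap π)))) :
    LocReg I q' (r - 1) := by
  let P := Localization.AtPrime (q'.comap π)
  let θ : P →+* Localization.AtPrime q' := Localization.localRingHom (q'.comap π) q' π rfl
  have hθ : Function.Surjective θ := surjective_localRingHom π hπ q'
  let t' : P := algebraMap R P t
  have hθk : RingHom.ker θ = Ideal.ofList [t'] := by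
    rw [Ideal.ofList_singleton]
    exact ker_localRingHom π hπ hker q'
  obtain ⟨l, hl, hreg, hlJ⟩ := h
  have htJ : t' ∈ Ideal.ofList l := by
    rw [hlJ]
    refine Ideal.mem_map_of_mem _ (Ideal.mem_comap.mpr ?_)
    rw [RingHom.mem_ker.mp (hker ▸ Ideal.mem_span_singleton_self t : t ∈ RingHom.ker π)]
    exact I.zero_mem
  obtain ⟨b, c, y, l', hp, hc, hy, hty⟩ := exists_unit_coeff ⊥ l t'
    (by rwa [sup_bot_eq]) (by rwa [sup_bot_eq, hlJ])
  rw [sup_bot_eq] at hy
  have hreg' : LCI.IsKoszulRegularSeq P (l' ++ [t']) := by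
    refine isKoszulRegularSeq_of_perm (List.perm_append_comm (l₁ := [t']) (l₂ := l')) ?_
    refine (isKoszulRegularSeq_cons_congr _ (f := c * b) (?_ : c * b - t' ∈ Ideal.ofList l')).mp ?_
    · rw [hty, sub_add_cancel_left]
      exact neg_mem hy
    · exact (isKoszulRegularSeq_cons_unit_mul hc _).mpr ((isKoszulRegularSeq_perm hp).mp hreg)
  refine ⟨l'.map θ, ?_,
    (isKoszulRegularSeq_append_iff [t'] l' (isKoszulRegularSeq_singleton ht) θ hθ hθk).mp hreg', ?_⟩
  · have := hp.length_eq
    simp at this ⊢
    omega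
  · rw [← map_localRingHom_map π hπ hker I q', ← hlJ, ofList_eq_of_perm hp, Ideal.map_ofList,
      List.map_cons, Ideal.ofList_cons, right_eq_sup, Ideal.span_le, Set.singleton_subset_iff,
      SetLike.mem_coe]
    have h0 : θ t' = 0 := RingHom.mem_ker.mp (hθk ▸ mem_ofList (List.mem_singleton_self t'))
    rw [hty, map_add, map_mul] at h0
    refine (Ideal.unit_mul_mem_iff_mem _ (hc.map θ)).mp ?_
    rw [eq_neg_of_add_eq_zero_left h0, ← Ideal.map_ofList]
    exact neg_mem (Ideal.mem_map_of_mem _ hy)

omit hπ hker in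
theorem nzd_localization (q : Ideal R) [q.IsPrime] (ht : t ∈ nonZeroDivisors R) :
    algebraMap R (Localization.AtPrime q) t ∈ nonZeroDivisors _ :=
  IsLocalization.map_nonZeroDivisors_le q.primeCompl _ ⟨t, ht, rfl⟩

theorem isKoszulRegularIdeal_comap (ht : t ∈ nonZeroDivisors R) {I : Ideal S}
    (h : LCI.IsKoszulRegularIdeal I) : LCI.IsKoszulRegularIdeal (I.comap π) := by
  have hIfg := fg_of_isKoszulRegularIdeal h
  have hfg : (I.comap π).FG := by
    classical
    obtain ⟨s, rfl⟩ := hIfg
    choose σ hσ using hπ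
    have : (Ideal.span (s : Set S)).comap π = Ideal.span ↑(insert t (s.image σ)) := by
      have h1 : Ideal.span (s : Set S) = (Ideal.span ↑(s.image σ)).map π := by
        rw [Ideal.map_span, Finset.coe_image, ← Set.image_comp]
        congr 1
        rw [show (⇑π ∘ σ) = id from funext hσ, Set.image_id]
      rw [h1, Ideal.comap_map_of_surjective π (fun y => ⟨σ y, hσ y⟩), ← RingHom.ker_eq_comap_bot, hker,
        Finset.coe_insert, Ideal.span_insert, sup_comm]
    exact ⟨_, this.symm⟩
  have htI : t ∈ I.comap π := by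
    rw [Ideal.mem_comap, RingHom.mem_ker.mp (hker ▸ Ideal.mem_span_singleton_self t : t ∈ RingHom.ker π)]
    exact I.zero_mem
  refine isKoszulRegularIdeal_of_locReg hfg fun q _ hq => ?_
  obtain ⟨q', _, hq'⟩ := exists_prime_of_le π hπ hker q (hq htI)
  subst hq'
  obtain ⟨g, hg, r, hr⟩ := locReg_of_isKoszulRegularIdeal h q'
    ((Ideal.comap_le_comap_iff_of_surjective π hπ _ _).mp hq)
  obtain ⟨g₀, rfl⟩ := hπ g
  refine ⟨g₀, hg, r + 1, fun q₁ _ hq₁ hg₁ => ?_⟩
  obtain ⟨q₁', _, hq₁'⟩ := exists_prime_of_le π hπ hker q₁ (hq₁ htI)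
  subst hq₁'
  exact locReg_lift π hπ hker I q₁' (hr q₁' hg₁) (nzd_localization _ ht)

theorem isKoszulRegularIdeal_of_comap (ht : t ∈ nonZeroDivisors R) {I : Ideal S}
    (h : LCI.IsKoszulRegularIdeal (I.comap π))
    (htm : ∀ (q : Ideal R) [q.IsPrime], I.comap π ≤ q → algebraMap R (Localization.AtPrime q) t ∉
      maximalIdeal (Localization.AtPrime q) • (I.comap π).map (algebraMap R (Localization.AtPrime q))) :
    LCI.IsKoszulRegularIdeal I := by
  refine isKoszulRegularIdeal_of_locReg ?_ fun q' _ hq => ?_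
  · rw [← Ideal.map_comap_of_surjective π hπ I]
    exact (fg_of_isKoszulRegularIdeal h).map π
  have htI : t ∈ I.comap π := by
    rw [Ideal.mem_comap, RingHom.mem_ker.mp (hker ▸ Ideal.mem_span_singleton_self t : t ∈ RingHom.ker π)]
    exact I.zero_mem
  obtain ⟨g, hg, r, hr⟩ := locReg_of_isKoszulRegularIdeal h (q'.comap π) (Ideal.comap_mono hq)
  refine ⟨π g, hg, r - 1, fun q₁ _ hq₁ hg₁ => ?_⟩
  exact locReg_quotient π hπ hker I q₁ (hr (q₁.comap π) hg₁) (nzd_localization _ ht)
    (htm _ (Ideal.comap_mono hq₁))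

end Quotient

end Groth.KoszulLCI
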