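import Groth.Agent.KoszulLCI.Transfer
import Mathlib.Algebra.MvPolynomial.Equiv
import Mathlib.Algebra.Polynomial.AlgebraMap

/-!
# Adding variables to a presentation
-/

set_option autoImplicit false

universe u

open IsLocalRing Polynomial

namespace Groth.KoszulLCI

variable {P B : Type u} [CommRing P] [CommRing B]

theorem ker_aeval_zero : RingHom.ker (Polynomial.evalRingHom (0 : P)) = Ideal.span {(X : P[X])} := by
  rw [Polynomial.ker_evalRingHom, C_0, sub_zero]

theorem isKoszulRegularIdeal_comap_eval_iff (I : Ideal P) :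
    LCI.IsKoszulRegularIdeal (I.comap (Polynomial.evalRingHom (0 : P))) ↔ LCI.IsKoszulRegularIdeal I := by
  have hπ : Function.Surjective (Polynomial.evalRingHom (0 : P)) := fun x => ⟨C x, eval_C⟩
  have hX : (X : P[X]) ∈ nonZeroDivisors P[X] := Polynomial.monic_X.mem_nonZeroDivisors
  refine ⟨fun h => isKoszulRegularIdeal_of_comap _ hπ ker_aeval_zero hX h fun q _ hq hmem => ?_,
    isKoszulRegularIdeal_comap _ hπ ker_aeval_zero hX⟩
  rw [smul_eq_mul, ← Localization.AtPrime.map_eq_maximalIdeal, ← Ideal.map_mul] at hmem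
  obtain ⟨⟨⟨y, hy⟩, ⟨s, hs⟩⟩, he⟩ := (IsLocalization.mem_map_algebraMap_iff q.primeCompl _).mp hmem
  rw [← map_mul, IsLocalization.eq_iff_exists q.primeCompl] at he
  obtain ⟨⟨d, hd⟩, hd'⟩ := he
  change d * (X * s) = d * y at hd'
  have hXq : (X : P[X]) ∈ q := hq (by simp [Ideal.mem_comap])
  -- the coefficient of degree one of an element of `q * J` vanishes modulo `q`
  have key : ∀ z ∈ q * I.comap (Polynomial.evalRingHom (0 : P)), C (z.coeff 1) ∈ q := by
    intro z hz
    induction hz using Submodule.mul_induction_on' with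
    | mem_mul_mem a ha b hb =>
      have hCa : ∀ a ∈ q, C (a.coeff 0) ∈ q := fun a ha => by
        rw [show C (a.coeff 0) = a - X * a.divX by rw [eq_sub_iff_add_eq]; exact (add_comm _ _).trans a.X_mul_divX_add]
        exact sub_mem ha (Ideal.mul_mem_right _ _ hXq)
      have hb0 : C (b.coeff 0) ∈ q := hCa b (hq hb)
      rw [Polynomial.coeff_mul, Finset.Nat.antidiagonal_succ, Finset.sum_cons,
        Finset.Nat.antidiagonal_zero]
      simp only [zero_add, Finset.map_singleton, Function.Embedding.coe_prodMap, Prod.map,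
        Finset.sum_singleton, Function.Embedding.coeFn_mk, Function.Embedding.refl_apply, C_add, C_mul]
      exact add_mem (Ideal.mul_mem_right _ _ (hCa a ha)) (Ideal.mul_mem_left _ _ hb0)
    | add a _ b _ ha hb => rw [coeff_add, C_add]; exact add_mem ha hb
  have h1 := key (d * y) (Ideal.mul_mem_left _ d hy)
  rw [← hd', show d * (X * s) = X * (d * s) by ring,
    show (1 : ℕ) = 0 + 1 from rfl, coeff_X_mul] at h1
  have : d * s ∈ q := by
    rw [← (d * s).X_mul_divX_add]
    exact add_mem (Ideal.mul_mem_right _ _ hXq) h1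
  exact (Ideal.IsPrime.mem_or_mem ‹_› this).elim hd hs

/-- One new variable. -/
theorem isKoszulRegularIdeal_ker_eval₂_iff (ψ : P →+* B) (hψ : Function.Surjective ψ) (y : B) :
    LCI.IsKoszulRegularIdeal (RingHom.ker (Polynomial.eval₂RingHom ψ y)) ↔
      LCI.IsKoszulRegularIdeal (RingHom.ker ψ) := by
  obtain ⟨t, rfl⟩ := hψ y
  rw [← isKoszulRegularIdeal_comap_eval_iff (RingHom.ker ψ),
    ← isKoszulRegularIdeal_comap_ringEquiv_iff (Polynomial.algEquivAevalXAddC (-t)).toRingEquiv]
  have : (RingHom.ker (Polynomial.eval₂RingHom ψ (ψ t))).comap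
      (Polynomial.algEquivAevalXAddC (-t)).toRingEquiv.toRingHom =
      (RingHom.ker ψ).comap (Polynomial.evalRingHom (0 : P)) := by
    rw [RingHom.comap_ker, RingHom.comap_ker]
    congr 1
    refine Polynomial.ringHom_ext (fun a => ?_) ?_
    · simp [eval₂_C]
    · simp
  rw [this]

/-- Any number of new variables. -/
theorem isKoszulRegularIdeal_ker_eval₂Hom_iff : ∀ (m : ℕ) (P : Type u) [CommRing P] (ψ : P →+* B)
    (_ : Function.Surjective ψ) (ys : Fin m → B),
    LCI.IsKoszulRegularIdeal (RingHom.ker (MvPolynomial.eval₂Hom ψ ys)) ↔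
      LCI.IsKoszulRegularIdeal (RingHom.ker ψ)
  | 0, P, _, ψ, hψ, ys => by
    rw [← isKoszulRegularIdeal_comap_ringEquiv_iff (MvPolynomial.isEmptyRingEquiv P (Fin 0))
      (I := RingHom.ker ψ), RingHom.comap_ker]
    rw [show ψ.comp (MvPolynomial.isEmptyRingEquiv P (Fin 0)).toRingHom = MvPolynomial.eval₂Hom ψ ys from
      MvPolynomial.ringHom_ext (fun a => by simp; exact congrArg ψ (MvPolynomial.coeff_zero_C a)) (fun i => i.elim0)]
  | m + 1, P, _, ψ, hψ, ys => by
    let ψ' := MvPolynomial.eval₂Hom ψ (fun i : Fin m => ys i.succ)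
    have hψ' : Function.Surjective ψ' := fun b => by
      obtain ⟨a, rfl⟩ := hψ b
      exact ⟨MvPolynomial.C a, MvPolynomial.eval₂Hom_C _ _ a⟩
    rw [← isKoszulRegularIdeal_ker_eval₂Hom_iff m P ψ hψ (fun i => ys i.succ),
      ← isKoszulRegularIdeal_ker_eval₂_iff ψ' hψ' (ys 0),
      ← isKoszulRegularIdeal_comap_ringEquiv_iff (MvPolynomial.finSuccEquiv P m).toRingEquiv
        (I := RingHom.ker (Polynomial.eval₂RingHom ψ' (ys 0))), RingHom.comap_ker]
    rw [show (Polynomial.eval₂RingHom ψ' (ys 0)).comp (MvPolynomial.finSuccEquiv P m).toRingEquiv.toRingHom =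
        MvPolynomial.eval₂Hom ψ ys from
      MvPolynomial.ringHom_ext (fun a => by simp [ψ', MvPolynomial.finSuccEquiv_apply])
        (fun i => by cases i using Fin.cases <;> simp [ψ', MvPolynomial.finSuccEquiv_apply])]

/-- Independence of the presentation. -/
theorem isKoszulRegularIdeal_ker_of_presentation {A : Type u} [CommRing A] [Algebra A B] {n m : ℕ}
    (α : MvPolynomial (Fin n) A →ₐ[A] B) (hα : Function.Surjective α)
    (β : MvPolynomial (Fin m) A →ₐ[A] B) (hβ : Function.Surjective β)
    (h : LCI.IsKoszulRegularIdeal (RingHom.ker α.toRingHom)) :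
    LCI.IsKoszulRegularIdeal (RingHom.ker β.toRingHom) := by
  rw [← isKoszulRegularIdeal_ker_eval₂Hom_iff n _ β.toRingHom hβ (fun i => α (MvPolynomial.X i))]
  rw [← isKoszulRegularIdeal_ker_eval₂Hom_iff m _ α.toRingHom hα (fun i => β (MvPolynomial.X i))] at h
  let e := MvPolynomial.commAlgEquiv A (Fin n) (Fin m)
  rw [← isKoszulRegularIdeal_comap_ringEquiv_iff e.toRingEquiv, RingHom.comap_ker] at h
  refine (show MvPolynomial.eval₂Hom β.toRingHom (fun i => α (MvPolynomial.X i)) =
    (MvPolynomial.eval₂Hom α.toRingHom (fun i => β (MvPolynomial.X i))).comp e.toRingEquiv.toRingHom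
    from ?_) ▸ h
  refine MvPolynomial.ringHom_ext (fun p => ?_) (fun i => by simp [e])
  induction p using MvPolynomial.induction_on with
  | C a => simp [e]
  | add p q hp hq => simp only [map_add, hp, hq]
  | mul_X p i hp =>
    simp only [map_mul, hp]
    congr 1
    simp [e]

end Groth.KoszulLCI
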