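import Groth.Agent.KoszulLCI.Regular
import Groth.Agent.KoszulLCI.Pres
import Groth.Agent.KoszulReg.Basic
import Groth.Agent.DAlg.TorDim
import Groth.Agent.DAlg.PCoh
import Groth.Agent.DAlg.TorAmp
import Groth.Prelude.Def_MoreMor
import Mathlib.RingTheory.Flat.Localization
import Mathlib.RingTheory.Localization.Finiteness
import Mathlib.RingTheory.TensorProduct.Quotient

/-!
# Zariski-locally perfect modules are perfect; quotients by Koszul-regular ideals are perfect
-/

set_option autoImplicit false

universe u

open CategoryTheory CategoryTheory.Limits CategoryTheory.Pretriangulated TensorProduct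

attribute [local instance] HasDerivedCategory.standard

namespace Groth.KoszulLCI

open Groth.DAlg

variable {R : Type u} [CommRing R]

/-- Finite projective modules are perfect. -/
theorem isPerfectModule_of_finite_projective (M : Type u) [AddCommGroup M] [Module R M] [Module.Finite R M]
    [Module.Projective R M] : DRing.IsPerfectModule R M := by
  have hA := isAdditiveSub_finProj R
  refine ⟨(HomologicalComplex.single _ (ComplexShape.up ℤ) 0).obj (ModuleCat.of R M), 0, 0,
    fun i hi => HomologicalComplex.isZero_single_obj_X _ _ _ _ (by omega), fun i => ?_,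
    ⟨((DerivedCategory.singleFunctorIsoCompQ _ 0).app _).symm⟩⟩
  by_cases hi : i = 0
  · exact hA.of_iso (HomologicalComplex.singleObjXIsoOfEq (ComplexShape.up ℤ) 0 _ i hi).symm
      (show finProj R (ModuleCat.of R M) from ⟨‹_›, ‹_›⟩)
  · exact hA.zero _ (HomologicalComplex.isZero_single_obj_X _ _ _ _ hi)

/-- Perfect modules are finite. -/
theorem finite_of_isPerfectModule (M : Type u) [AddCommGroup M] [Module R M] (h : DRing.IsPerfectModule R M) :
    Module.Finite R M :=
  (pcn_zero_mD_iff (ModuleCat.of R M)).1
    (isPseudoCoherent'_iff_isPC.1 (DAlg.IsPerfect.isPseudoCoherent' h) 0)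

theorem isPerfectModule_congr {M N : Type u} [AddCommGroup M] [Module R M] [AddCommGroup N] [Module R N]
    (e : M ≃ₗ[R] N) (h : DRing.IsPerfectModule R M) : DRing.IsPerfectModule R N :=
  IsPerfect.of_iso h ((DerivedCategory.singleFunctor (ModuleCat.{u} R) 0).mapIso e.toModuleIso)

theorem hasTorAmp_congr {M N : Type u} [AddCommGroup M] [Module R M] [AddCommGroup N] [Module R N]
    (e : M ≃ₗ[R] N) {a b : ℤ} (h : DRing.HasTorAmplitudeIn R a b (Dual.inD R M)) :
    DRing.HasTorAmplitudeIn R a b (Dual.inD R N) :=
  TorAmp.of_iso h ((DerivedCategory.singleFunctor (ModuleCat.{u} R) 0).mapIso e.toModuleIso)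

section Seq

variable {F M K : Type u} [AddCommGroup F] [Module R F] [AddCommGroup M] [Module R M] [AddCommGroup K]
  [Module R K] {i : K →ₗ[R] F} {π : F →ₗ[R] M}

theorem shortExact_mk (hi : Function.Injective i) (he : Function.Exact i π) (hπ : Function.Surjective π) :
    (ShortComplex.moduleCatMk i π he.linearMap_comp_eq_zero).ShortExact where
  exact := (ShortComplex.moduleCat_exact_iff _).2 fun x hx => (he x).1 hx
  mono_f := (ModuleCat.mono_iff_injective _).2 hi
  epi_g := (ModuleCat.epi_iff_surjective _).2 hπ

theorem isPerfectModule_ker (hi : Function.Injective i) (he : Function.Exact i π) (hπ : Function.Surjective π)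
    (hF : DRing.IsPerfectModule R F) (hM : DRing.IsPerfectModule R M) : DRing.IsPerfectModule R K :=
  IsPerfect.fiber (shortExact_mk hi he hπ).singleTriangle_distinguished hF hM

theorem isPerfectModule_coker (hi : Function.Injective i) (he : Function.Exact i π) (hπ : Function.Surjective π)
    (hK : DRing.IsPerfectModule R K) (hF : DRing.IsPerfectModule R F) : DRing.IsPerfectModule R M :=
  IsPerfect.cone (shortExact_mk hi he hπ).singleTriangle_distinguished hK hF

theorem hasTorAmp_succ_iff [Module.Flat R F] (hi : Function.Injective i) (he : Function.Exact i π)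
    (hπ : Function.Surjective π) (d : ℕ) :
    DRing.HasTorAmplitudeIn R (-((d + 1 : ℕ) : ℤ)) 0 (Dual.inD R M) ↔
      DRing.HasTorAmplitudeIn R (-(d : ℤ)) 0 (Dual.inD R K) := by
  have : Module.Flat R (ShortComplex.moduleCatMk i π he.linearMap_comp_eq_zero).X₂ := ‹Module.Flat R F›
  exact torAmp_syzygy_iff (shortExact_mk hi he hπ) d

end Seq

/-- A module that is perfect of bounded tor amplitude on a Zariski cover is perfect. -/
theorem isPerfectModule_of_span {t : Set R} (ht : Ideal.span t = ⊤) : ∀ (d : ℕ) (M : Type u) [AddCommGroup M]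
    [Module R M], (∀ r : t, DRing.IsPerfectModule (Localization.Away r.1) (Localization.Away r.1 ⊗[R] M) ∧
      DRing.HasTorAmplitudeIn (Localization.Away r.1) (-(d : ℤ)) 0
        (Dual.inD (Localization.Away r.1) (Localization.Away r.1 ⊗[R] M))) →
    DRing.IsPerfectModule R M := by
  have fin : ∀ (M : Type u) [AddCommGroup M] [Module R M],
      (∀ r : t, DRing.IsPerfectModule (Localization.Away r.1) (Localization.Away r.1 ⊗[R] M)) →
      Module.Finite R M := fun M _ _ h =>
    Module.Finite.of_localizationSpan' t ht (M := M)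
      (fun r => TensorProduct.mk R (Localization.Away r.1) M 1) fun r => finite_of_isPerfectModule _ (h r)
  intro d
  induction d with
  | zero =>
    intro M _ _ h
    have : Module.Finite R M := fin M fun r => (h r).1
    have : Module.Flat R M :=
      Module.flat_of_isLocalized_span (R := R) R M t ht (fun r => Localization.Away r.1 ⊗[R] M)
        (fun r => TensorProduct.mk R (Localization.Away r.1) M 1) fun r => by
          have := flat_of_torAmp_zero (M := ModuleCat.of (Localization.Away r.1) (Localization.Away r.1 ⊗[R] M))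
            (TorAmp.mono (h r).2 (by simp) le_rfl)
          exact Module.Flat.trans R (Localization.Away r.1) _
    obtain ⟨n, π, hπ⟩ := Module.Finite.exists_fin' R M
    have : Module.Finite R (LinearMap.ker π) := fin _ fun r =>
      isPerfectModule_ker (i := (LinearMap.ker π).subtype.baseChange (Localization.Away r.1))
        (π := π.baseChange (Localization.Away r.1))
        (Module.Flat.lTensor_preserves_injective_linearMap (LinearMap.ker π).subtype Subtype.val_injective)
        (lTensor_exact _ π.exact_subtype_ker_map hπ) (LinearMap.lTensor_surjective _ hπ)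
        (isPerfectModule_of_finite_projective _) (h r).1
    have : Module.FinitePresentation R M :=
      Module.finitePresentation_of_surjective π hπ (Module.Finite.iff_fg.1 ‹_›)
    have : Module.Projective R M := Module.Flat.projective_of_finitePresentation
    exact isPerfectModule_of_finite_projective M
  | succ d ih =>
    intro M _ _ h
    have : Module.Finite R M := fin M fun r => (h r).1
    obtain ⟨n, π, hπ⟩ := Module.Finite.exists_fin' R M
    refine isPerfectModule_coker (i := (LinearMap.ker π).subtype) Subtype.val_injective π.exact_subtype_ker_map hπ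
      (ih _ fun r => ?_) (isPerfectModule_of_finite_projective _)
    have hi := Module.Flat.lTensor_preserves_injective_linearMap (M := Localization.Away r.1)
      (LinearMap.ker π).subtype Subtype.val_injective
    have he := lTensor_exact (Localization.Away r.1) π.exact_subtype_ker_map hπ
    have hs := LinearMap.lTensor_surjective (Localization.Away r.1) hπ
    exact ⟨isPerfectModule_ker (i := (LinearMap.ker π).subtype.baseChange (Localization.Away r.1))
        (π := π.baseChange (Localization.Away r.1)) hi he hs (isPerfectModule_of_finite_projective _) (h r).1,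
      (hasTorAmp_succ_iff (i := (LinearMap.ker π).subtype.baseChange (Localization.Away r.1))
        (π := π.baseChange (Localization.Away r.1)) hi he hs d).1 (h r).2⟩

/-- Restriction of scalars along a flat algebra preserves tor amplitude. -/
theorem hasTorAmp_restrictScalars {P : Type u} [CommRing P] [Algebra R P] [Module.Flat R P] :
    ∀ (d : ℕ) (M : Type u) [AddCommGroup M] [Module R M] [Module P M] [IsScalarTower R P M],
      DRing.HasTorAmplitudeIn P (-(d : ℤ)) 0 (Dual.inD P M) →
      DRing.HasTorAmplitudeIn R (-(d : ℤ)) 0 (Dual.inD R M) := by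
  intro d
  induction d with
  | zero =>
    intro M _ _ _ _ h
    have : Module.Flat P M := flat_of_torAmp_zero (M := ModuleCat.of P M) (TorAmp.mono h (by simp) le_rfl)
    have : Module.Flat R M := Module.Flat.trans R P M
    exact TorAmp.mono (torAmp_mD_of_flat (ModuleCat.of R M)) (by simp) le_rfl
  | succ d ih =>
    intro M _ _ _ _ h
    let π := Finsupp.linearCombination P (id : M → M)
    have hπ : Function.Surjective π := fun x => ⟨Finsupp.single x 1, by simp [π]⟩
    have : Module.Flat R (M →₀ P) := Module.Flat.trans R P _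
    let iR : LinearMap.ker π →ₗ[R] (M →₀ P) :=
      { toFun := Subtype.val, map_add' := fun _ _ => rfl, map_smul' := fun _ _ => rfl }
    let πR : (M →₀ P) →ₗ[R] M := π.restrictScalars R
    have hi : Function.Injective iR := Subtype.val_injective
    have he : Function.Exact iR πR := π.exact_subtype_ker_map
    have hπ' : Function.Surjective πR := hπ
    refine (hasTorAmp_succ_iff (R := R) (F := M →₀ P) (M := M) (K := LinearMap.ker π) (i := iR) (π := πR) hi he hπ' d).2 (ih _ ?_)
    exact (hasTorAmp_succ_iff Subtype.val_injective π.exact_subtype_ker_map hπ d).1 h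

section Koszul

theorem perfect_koszul : ∀ l : List R, DRing.IsPerfect R (DRing.toD (Koszul.koszul R l)) ∧
    DRing.HasTorAmplitudeIn R (-(l.length : ℤ)) 0 (DRing.toD (Koszul.koszul R l))
  | [] => by
    let e := ((DerivedCategory.singleFunctorIsoCompQ (ModuleCat.{u} R) 0).app (ModuleCat.of R R))
    exact ⟨IsPerfect.of_iso (isPerfectModule_of_finite_projective R) e,
      TorAmp.of_iso (TorAmp.mono (torAmp_mD_of_flat (ModuleCat.of R R)) (by simp) le_rfl) e⟩
  | f :: l => by
    obtain ⟨h1, h2⟩ := perfect_koszul l
    have hT := DerivedCategory.mappingCone_triangle_distinguished (f • 𝟙 (Koszul.koszul R l))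
    exact ⟨IsPerfect.cone hT h1 h1,
      TorAmp.cone hT (TorAmp.mono h2 (by push_cast [List.length_cons]; omega) (by omega))
        (TorAmp.mono h2 (by push_cast [List.length_cons]; omega) le_rfl)⟩

theorem perfect_quotient_of_isKoszulRegularSeq (l : List R) (h : LCI.IsKoszulRegularSeq R l) :
    DRing.IsPerfectModule R (R ⧸ Ideal.ofList l) ∧
      DRing.HasTorAmplitudeIn R (-(l.length : ℤ)) 0 (Dual.inD R (R ⧸ Ideal.ofList l)) := by
  have := KoszulReg.quasiIso_aug l h
  obtain ⟨h1, h2⟩ := perfect_koszul l
  let e : DRing.toD (Koszul.koszul R l) ≅ Dual.inD R (R ⧸ Ideal.ofList l) :=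
    @asIso _ _ _ _ (DerivedCategory.Q.map (KoszulReg.aug l))
      ((DerivedCategory.isIso_Q_map_iff_quasiIso _ _).mpr this) ≪≫
      ((DerivedCategory.singleFunctorIsoCompQ _ 0).app _).symm
  exact ⟨IsPerfect.of_iso h1 e, TorAmp.of_iso h2 e⟩

/-- The quotient by a Koszul-regular ideal is a perfect module. -/
theorem perfect_quotient_of_isKoszulRegularIdeal {I : Ideal R} (hI : LCI.IsKoszulRegularIdeal I) :
    DRing.IsPerfectModule R (R ⧸ I) := by
  let t : Set R := {g | ∃ l : List (Localization.Away g), LCI.IsKoszulRegularSeq _ l ∧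
    I.map (algebraMap R (Localization.Away g)) = Ideal.ofList l}
  have ht : Ideal.span t = ⊤ := by
    by_contra hne
    obtain ⟨m, hm, hle⟩ := Ideal.exists_le_maximal _ hne
    by_cases hIm : I ≤ m
    · obtain ⟨g, hg, l, hl, hgI⟩ := hI ⟨m, hm.isPrime⟩ hIm
      exact hg (hle (Ideal.subset_span ⟨l, hl, hgI⟩))
    · obtain ⟨g, hgI, hg⟩ := SetLike.not_le_iff_exists.mp hIm
      refine hg (hle (Ideal.subset_span ⟨[1], isKoszulRegularSeq_of_isWeaklyRegular ?_, ?_⟩))
      · exact (RingTheory.Sequence.isWeaklyRegular_cons_iff _ _ _).mpr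
          ⟨fun a b hab => by simpa using hab, .nil _ _⟩
      · rw [Ideal.ofList_singleton, Ideal.span_singleton_one]
        exact Ideal.eq_top_of_isUnit_mem _ (Ideal.mem_map_of_mem _ hgI) (IsLocalization.Away.algebraMap_isUnit g)
  obtain ⟨t', ht', hspan⟩ := (Ideal.span_eq_top_iff_finite t).1 ht
  classical
  choose! l hl hlI using fun g (hg : g ∈ t) => hg
  refine isPerfectModule_of_span hspan (t'.sup fun g => (l g).length) (R ⧸ I) fun r => ?_
  let L := Localization.Away r.1
  let e : (L ⧸ Ideal.ofList (l r.1)) ≃ₗ[L] L ⊗[R] (R ⧸ I) :=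
    (Submodule.quotEquivOfEq _ _ (hlI r.1 (ht' r.2)).symm).trans
      (Algebra.TensorProduct.quotIdealMapEquivTensorQuot L I).toLinearEquiv
  obtain ⟨h1, h2⟩ := perfect_quotient_of_isKoszulRegularSeq (l r.1) (hl r.1 (ht' r.2))
  refine ⟨isPerfectModule_congr e h1, hasTorAmp_congr e (TorAmp.mono h2 ?_ le_rfl)⟩
  have := Finset.le_sup (f := fun g => (l g).length) r.2
  omega

end Koszul

/-- Local complete intersection ring maps are perfect. -/
theorem isPerfectHom_of_isLCI {A B : Type u} [CommRing A] [CommRing B] [Algebra A B] (h : LCI.IsLCI A B) :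
    MoreMor.IsPerfectHom A B := by
  obtain ⟨-, n, φ, hφ, hker⟩ := h
  let _ := φ.toRingHom.toAlgebra
  have : IsScalarTower A (MvPolynomial (Fin n) A) B := IsScalarTower.of_algebraMap_eq fun a => (φ.commutes a).symm
  let e : (MvPolynomial (Fin n) A ⧸ RingHom.ker φ.toRingHom) ≃ₗ[MvPolynomial (Fin n) A] B :=
    (Submodule.quotEquivOfEq _ _ rfl).trans
      ((Algebra.linearMap (MvPolynomial (Fin n) A) B).quotKerEquivOfSurjective hφ)
  have hP : DRing.IsPerfectModule (MvPolynomial (Fin n) A) B :=
    isPerfectModule_congr e (perfect_quotient_of_isKoszulRegularIdeal hker)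
  refine ⟨⟨n, φ, hφ, DAlg.IsPerfect.isPseudoCoherent' hP⟩, ?_⟩
  obtain ⟨a, b, hab⟩ := (DAlg.isPerfect_iff.1 hP).2
  refine ⟨(-a).toNat, (hasTorDimLE_iff B _).2 (hasTorAmp_restrictScalars (P := MvPolynomial (Fin n) A) _ B ?_)⟩
  exact TorAmp.top (TorAmp.mono hab (by omega) le_rfl) fun i hi => subsingleton_HD_mD _ (ne_of_gt hi)

end Groth.KoszulLCI
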