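import Groth.Agent.KoszulLCI.FlatOfH1Scheme
import Groth.Prelude.Def_Mor2
import Groth.Prelude.Def_CInt

/-!
# Regular closed immersions with flat source: the fibrewise criterion
-/

set_option autoImplicit false

universe u

open CategoryTheory CategoryTheory.Limits AlgebraicGeometry

namespace Groth.KoszulLCI

variable {X Y S : Scheme.{u}}

theorem mor2_iff_regImm (u : Y ⟶ X) [IsClosedImmersion u] :
    Mor2.IsRegularClosedImmersion u ↔ RegImm.IsRegularImmersion .regular u := by
  refine ⟨fun h => ⟨inferInstance, fun z => ?_⟩, fun h => ⟨inferInstance, fun z => ?_⟩⟩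
  · obtain ⟨U, hU, hz, rs, hrs, hker⟩ := h.2 z
    refine ⟨⟨U, hU⟩, hz, inferInstance, rs, hrs, ?_⟩
    rw [← Scheme.Hom.ker_apply]
    exact hker
  · obtain ⟨U, hz, -, rs, hrs, hker⟩ := h.2 z
    refine ⟨U.1, U.2, hz, rs, hrs, ?_⟩
    rw [Scheme.Hom.ker_apply]
    exact hker

theorem isPullback_fiberMap (u : Y ⟶ X) (g : X ⟶ S) (s : S) :
    IsPullback ((u ≫ g).fiberι s) (CInt.fiberMap u g s) u (g.fiberι s) := by
  refine IsPullback.of_bot ?_ (pullback.lift_fst _ _ _).symm (IsPullback.of_hasPullback g (S.fromSpecResidueField s))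
  have hs : CInt.fiberMap u g s ≫ g.fiberToSpecResidueField s = (u ≫ g).fiberToSpecResidueField s :=
    (pullback.lift_snd _ _ _).trans (Category.comp_id _)
  show IsPullback ((u ≫ g).fiberι s) (CInt.fiberMap u g s ≫ g.fiberToSpecResidueField s) (u ≫ g) (S.fromSpecResidueField s)
  rw [hs]
  exact IsPullback.of_hasPullback (u ≫ g) (S.fromSpecResidueField s)

/-- Regular closed immersions with flat source restrict to regular closed immersions of the fibres. -/
theorem isRegularClosedImmersion_fiberMap (u : Y ⟶ X) (g : X ⟶ S) [IsClosedImmersion u]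
    [LocallyOfFinitePresentation g] [Flat (u ≫ g)] (h : Mor2.IsRegularClosedImmersion u) (s : S) :
    Mor2.IsRegularClosedImmersion (CInt.fiberMap u g s) := by
  have hb := (isRegularImmersion_regular_of_relH1 g .regular (by decide) u ((mor2_iff_regImm u).mp h)).2
    _ (S.fromSpecResidueField s)
  have hsq := isPullback_fiberMap u g s
  have : IsClosedImmersion (CInt.fiberMap u g s) := MorphismProperty.of_isPullback hsq inferInstance
  rw [mor2_iff_regImm]
  have hsq' : IsPullback hsq.isoPullback.hom (CInt.fiberMap u g s) (pullback.snd u (g.fiberι s)) (𝟙 _) :=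
    IsPullback.of_horiz_isIso ⟨by rw [Category.comp_id, hsq.isoPullback_hom_snd]⟩
  exact ⟨inferInstance, fun z => isRegularImmersionAt_baseChange_kind .regular _ (𝟙 _) _ _ hsq' z (hb.2 _)⟩

set_option backward.isDefEq.respectTransparency false in
set_option backward.isDefEq.respectTransparency.types false in
/-- A closed immersion with flat source which is regular on the fibres is regular where the target is flat. -/
theorem isRegularClosedImmersion_of_fibres (u : Y ⟶ X) (g : X ⟶ S) [IsClosedImmersion u]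
    [LocallyOfFinitePresentation g] [LocallyOfFinitePresentation (u ≫ g)] [Flat (u ≫ g)]
    (hstalk : ∀ y : Y, (g.stalkMap (u y)).hom.Flat)
    (hfib : ∀ s : S, Mor2.IsRegularClosedImmersion (CInt.fiberMap u g s)) :
    Mor2.IsRegularClosedImmersion u := by
  choose O hO hflat using fun y => exists_flat_nhd_of_stalkMap g (u y) (hstalk y)
  let U : X.Opens := ⨆ y, O y
  have : Flat (U.ι ≫ g) := by
    rw [IsZariskiLocalAtSource.iff_of_openCover (P := @Flat.{u}) (Scheme.openCoverOfIsOpenCover _
      (fun y => U.ι ⁻¹ᵁ O y) (TopologicalSpace.IsOpenCover.mk (top_unique fun x _ => ?_)))]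
    · intro y
      show Flat ((U.ι ⁻¹ᵁ O y).ι ≫ U.ι ≫ g)
      rw [← Category.assoc, show (U.ι ⁻¹ᵁ O y).ι ≫ U.ι = (U.ι.resLE (O y) _ le_rfl) ≫ (O y).ι from
        (Scheme.Hom.resLE_comp_ι _ _).symm, Category.assoc]
      exact MorphismProperty.comp_mem @Flat _ _ inferInstance (hflat y)
    · obtain ⟨y, hy⟩ := TopologicalSpace.Opens.mem_iSup.mp x.2
      exact TopologicalSpace.Opens.mem_iSup.mpr ⟨y, hy⟩
  have hrange : Set.range u ⊆ (U : Set X) := by
    rintro _ ⟨y, rfl⟩
    exact TopologicalSpace.Opens.mem_iSup.mpr ⟨y, hO y⟩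
  let u₀ : Y ⟶ (U : Scheme.{u}) := IsOpenImmersion.lift U.ι u (by rwa [Scheme.Opens.range_ι])
  have hu₀ : u₀ ≫ U.ι = u := IsOpenImmersion.lift_fac _ _ _
  have hsq0 : IsPullback (𝟙 Y) u₀ u U.ι := IsPullback.of_horiz_isIso_mono ⟨by rw [Category.id_comp, hu₀]⟩
  have : IsClosedImmersion u₀ := MorphismProperty.of_isPullback hsq0 inferInstance
  have : Flat (u₀ ≫ U.ι ≫ g) := by rw [← Category.assoc, hu₀]; infer_instance
  have : LocallyOfFinitePresentation (u₀ ≫ U.ι ≫ g) := by rw [← Category.assoc, hu₀]; infer_instance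
  have hm : MorLCI u₀ := by
    refine morLCI_of_forall_fiber u₀ (U.ι ≫ g) fun s => ?_
    have := isLocallyNoetherian_fiber g s
    have hsq := isPullback_fiberMap u g s
    have := (hfib s).1
    have h1 : MorLCI (CInt.fiberMap u g s) := morLCI_of_isRegularImmersion _
      (isRegularImmersion_of_isRegularImmersion_regular .koszul _ ((mor2_iff_regImm _).mp (hfib s)))
    let j : (U.ι ≫ g).fiber s ⟶ g.fiber s :=
      pullback.map (U.ι ≫ g) (S.fromSpecResidueField s) g (S.fromSpecResidueField s) U.ι (𝟙 _) (𝟙 _) (by simp) (by simp)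
    have hj : IsPullback ((U.ι ≫ g).fiberι s) j U.ι (g.fiberι s) := by
      refine IsPullback.of_bot ?_ (pullback.lift_fst _ _ _).symm (IsPullback.of_hasPullback g (S.fromSpecResidueField s))
      show IsPullback ((U.ι ≫ g).fiberι s) (j ≫ pullback.snd g (S.fromSpecResidueField s)) (U.ι ≫ g) (S.fromSpecResidueField s)
      rw [show j ≫ pullback.snd g (S.fromSpecResidueField s) = pullback.snd (U.ι ≫ g) (S.fromSpecResidueField s) from
        (pullback.lift_snd _ _ _).trans (Category.comp_id _)]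
      exact IsPullback.of_hasPullback _ _
    have : Flat j := MorphismProperty.of_isPullback hj inferInstance
    let p₁ := pullback.fst u₀ ((U.ι ≫ g).fiberι s)
    let m := pullback.snd u₀ ((U.ι ≫ g).fiberι s)
    have hbig : IsPullback p₁ (m ≫ j) u (g.fiberι s) :=
      hu₀ ▸ (IsPullback.of_hasPullback u₀ ((U.ι ≫ g).fiberι s)).paste_vert hj
    let e := hsq.lift p₁ (m ≫ j) hbig.w
    have he : e ≫ CInt.fiberMap u g s = m ≫ j := hsq.lift_snd _ _ _
    have hsq2 : IsPullback e m (CInt.fiberMap u g s) j := by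
      refine IsPullback.of_right ?_ he hsq
      rw [show e ≫ (u ≫ g).fiberι s = p₁ from hsq.lift_fst _ _ _, ← hj.w]
      simpa using (IsPullback.of_hasPullback u₀ ((U.ι ≫ g).fiberι s)).paste_horiz hsq0
    exact morLCI_of_isPullback_flat hsq2 h1
  have h₀ := isRegularImmersion_regular_of_flat (U.ι ≫ g) .koszul u₀ (isRegularImmersion_of_morLCI u₀ hm)
  rw [mor2_iff_regImm]
  exact hu₀ ▸ isRegularImmersion_comp_openImmersion .regular u₀ U.ι h₀

theorem flat_stalkMap_of_open (g : X ⟶ S) (U : X.Opens) (hflat : Flat (U.ι ≫ g)) (x : X) (hx : x ∈ U) :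
    (g.stalkMap x).hom.Flat := by
  let x' : (U : Scheme.{u}) := ⟨x, hx⟩
  have h1 : ((U.ι ≫ g).stalkMap x').hom.Flat := Flat.stalkMap (U.ι ≫ g) x'
  have h2 := Scheme.Hom.stalkMap_comp U.ι g x'
  rw [h2] at h1
  exact (RingHom.Flat.respectsIso.cancel_right_isIso (g.stalkMap (U.ι x')) (U.ι.stalkMap x')).mp h1

end Groth.KoszulLCI
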