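import Groth.Agent.OmegaSheaf.ConormalTrans
import Groth.Agent.OmegaSheaf.UnivThick.TransMono
import Groth.Agent.AlgSpCartier.RegKinds
import Groth.Agent.KoszulLCI.RelBaseChange

/-!
# Left exactness of the conormal sequence of a composite `Z ⟶ Y ⟶ X` with `Z ⟶ Y` `H₁`-regular
-/

set_option autoImplicit false
set_option linter.style.haveILetI false

universe u

open CategoryTheory Limits AlgebraicGeometry Opposite TopologicalSpace

namespace Groth.KoszulLCI

open Groth.OmegaSheaf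
open Groth.QCohMod (res res_res res_smul res_app res_self sectionsAlg)

section Algebra

variable {P Q : Type u} [CommRing P] [CommRing Q]

set_option maxHeartbeats 1000000 in
theorem inf_sq_le_of_h1 (π : P →+* Q) (hπ : Function.Surjective π) {c : ℕ} (f : Fin c → Q)
    (hf : CAlgX.IsH1Regular f) :
    RingHom.ker π ⊓ ((Ideal.span (Set.range f)).comap π) ^ 2 ≤
      (Ideal.span (Set.range f)).comap π * RingHom.ker π := by
  classical
  choose g hg using fun i => hπ (f i)
  set N := RingHom.ker π with hN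
  set G := Ideal.span (Set.range g) with hG
  set J := (Ideal.span (Set.range f)).comap π with hJ
  have hJe : J = G ⊔ N := by
    have hfG : Ideal.span (Set.range f) = G.map π := by
      rw [hG, Ideal.map_span, ← Set.range_comp]
      exact congrArg _ (congrArg _ (funext fun i => (hg i).symm))
    rw [hJ, hfG, Ideal.comap_map_of_surjective π hπ, hN, RingHom.ker_eq_comap_bot]
  have hGJ : G ≤ J := hJe ▸ le_sup_left
  have hNJ : N ≤ J := hJe ▸ le_sup_right
  rintro u ⟨huN, huJ⟩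
  have h2 : J ^ 2 ≤ G * G ⊔ J * N := by
    calc J ^ 2 = J * (G ⊔ N) := by rw [pow_two, ← hJe]
      _ = (G ⊔ N) * G ⊔ J * N := by rw [Ideal.mul_sup, ← hJe]
      _ ≤ G * G ⊔ J * N := by
        rw [Ideal.sup_mul]
        refine sup_le (sup_le le_sup_left ?_) le_sup_right
        exact le_sup_of_le_right (by rw [mul_comm J N]; exact Ideal.mul_mono_right hGJ)
  obtain ⟨b, hb, b', hb', rfl⟩ := Submodule.mem_sup.mp (h2 huJ)
  refine add_mem ?_ hb'
  have hbN : π b = 0 := RingHom.mem_ker.mp ((add_mem_cancel_right (Ideal.mul_le_right hb' : b' ∈ N)).mp huN)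
  -- coefficients in `G`
  have hrep : ∀ x ∈ G * G, ∃ a : Fin c → P, (∀ k, a k ∈ G) ∧ ∑ k, a k * g k = x := by
    intro x hx
    induction hx using Submodule.mul_induction_on' with
    | mem_mul_mem r hr s hs =>
      obtain ⟨t, ht⟩ := Ideal.mem_span_range_iff_exists_fun.mp hs
      exact ⟨fun k => r * t k, fun k => Ideal.mul_mem_right _ _ hr, by simp [mul_assoc, ← Finset.mul_sum, ht]⟩
    | add x _ y _ hx hy =>
      obtain ⟨a, ha, hax⟩ := hx
      obtain ⟨a', ha', hay⟩ := hy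
      exact ⟨a + a', fun k => add_mem (ha k) (ha' k), by simp [add_mul, Finset.sum_add_distrib, hax, hay]⟩
  obtain ⟨a, ha, hab⟩ := hrep b hb
  have hrel : ∑ k, (π ∘ a) k * f k = 0 := by
    rw [← hbN, ← hab, map_sum]
    simp [hg]
  have hlift : ∀ v ∈ Submodule.span Q {v : Fin c → Q | ∃ i j, v = Pi.single i (f j) - Pi.single j (f i)},
      ∃ w : Fin c → P, π ∘ w = v ∧ (∀ k, w k ∈ G) ∧ ∑ k, w k * g k = 0 := by
    intro v hv
    induction hv using Submodule.span_induction with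
    | mem v hv =>
      obtain ⟨i, j, rfl⟩ := hv
      refine ⟨Pi.single i (g j) - Pi.single j (g i), ?_, fun k => ?_, ?_⟩
      · funext k
        simp [Pi.single_apply, apply_ite π, hg]
      · refine sub_mem ?_ ?_
        all_goals
          rw [Pi.single_apply]
          split_ifs
          exacts [Ideal.subset_span ⟨_, rfl⟩, zero_mem _]
      · simp only [Pi.sub_apply, sub_mul, Finset.sum_sub_distrib, Pi.single_apply, ite_mul, zero_mul,
          Finset.sum_ite_eq', Finset.mem_univ, if_true]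
        ring
    | zero => exact ⟨0, by funext k; simp, fun k => zero_mem _, by simp⟩
    | add x y _ _ hx hy =>
      obtain ⟨w, h1, h2, h3⟩ := hx
      obtain ⟨w', h1', h2', h3'⟩ := hy
      exact ⟨w + w', by funext k; simp [← h1, ← h1'], fun k => add_mem (h2 k) (h2' k),
        by simp [add_mul, Finset.sum_add_distrib, h3, h3']⟩
    | smul r x _ hx =>
      obtain ⟨w, h1, h2, h3⟩ := hx
      obtain ⟨r, rfl⟩ := hπ r
      exact ⟨r • w, by funext k; simp [← h1], fun k => Ideal.mul_mem_left _ _ (h2 k),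
        by simp [mul_assoc, ← Finset.mul_sum, h3]⟩
  obtain ⟨w, hw, -, hw0⟩ := hlift _ (hf _ hrel)
  have : b = ∑ k, (a k - w k) * g k := by
    simp [sub_mul, Finset.sum_sub_distrib, hab, hw0]
  rw [this]
  refine sum_mem fun k _ => ?_
  have hk : a k - w k ∈ N := RingHom.mem_ker.mpr (by
    rw [map_sub, sub_eq_zero]; exact (congrFun hw k).symm)
  rw [mul_comm (a k - w k)]
  exact Ideal.mul_mem_mul (hGJ (Ideal.subset_span ⟨k, rfl⟩)) hk

theorem eq_zero_of_mem_mul {M : Type u} [AddCommGroup M] [Module P M] {J N : Ideal P} (f : N →ₗ[P] M)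
    (hJ : ∀ r ∈ J, ∀ m : M, r • m = 0) (v : P) (hv : v ∈ J * N) : ∀ hvN : v ∈ N, f ⟨v, hvN⟩ = 0 := by
  induction hv using Submodule.mul_induction_on' with
  | mem_mul_mem r hr q hq =>
    intro h
    exact (map_smul f r ⟨q, hq⟩).trans (hJ r hr _)
  | add a ha b hb iha ihb =>
    intro hab
    have ha' : a ∈ N := Ideal.mul_le_right ha
    have hb' : b ∈ N := Ideal.mul_le_right hb
    exact (map_add f ⟨a, ha'⟩ ⟨b, hb'⟩).trans (by rw [iha ha', ihb hb', add_zero])

end Algebra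

variable {Z Y X : Scheme.{u}} (i : Z ⟶ Y) (j : Y ⟶ X)

theorem isQuasicoherent_pullback_conormal [IsImmersion j] [QuasiCompact j] :
    ((Scheme.Modules.pullback i).obj (Omega.conormal j)).IsQuasicoherent := inferInstance

/-- Injectivity of `i^*C_{Y/X} ⟶ C_{Z/X}` on a chart. -/
theorem conormalMap_app_injective [IsImmersion i] [IsImmersion j] [QuasiCompact i] [QuasiCompact j]
    {ψ : (Scheme.Modules.pullback i).obj (Omega.conormal j) ⟶ Omega.conormal (i ≫ j)}
    (hψ : OmegaSh.IsConormalMap (i ≫ j) j (𝟙 X) i ψ) {W : X.Opens} (hjW : IsConormalChart j W)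
    (hkW : IsConormalChart (i ≫ j) W)
    (halg : RingHom.ker (j.app W).hom ⊓ RingHom.ker ((i ≫ j).app W).hom ^ 2 ≤
      RingHom.ker ((i ≫ j).app W).hom * RingHom.ker (j.app W).hom) :
    Function.Injective (ψ.app ((i ≫ j) ⁻¹ᵁ W)) := by
  let U := (i ≫ j) ⁻¹ᵁ W
  have hU : IsAffineOpen U := hkW.affine_preimage
  have eT : U ≤ i ⁻¹ᵁ (j ⁻¹ᵁ W) := le_rfl
  let Pm := (Scheme.Modules.pullback i).obj (Omega.conormal j)
  let ρ : Γ(X, W) →+* Γ(Z, U) := ((i ≫ j).app W).hom
  let N := RingHom.ker (j.app W).hom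
  let J := RingHom.ker ρ
  let E := idealSecEquiv j.ker ⟨W, hjW.affine⟩
  have hN : j.ker.ideal ⟨W, hjW.affine⟩ = N := ker_ideal_eq (i := j) hjW.affine
  let _ : Module Γ(X, W) Γ(Pm, U) := Module.compHom _ ρ
  let f0 : N →ₗ[Γ(X, W)] Γ(Pm, U) :=
    { toFun := fun s ↦ res Pm eT (OmegaSh.pullSect i (Omega.conormal j) (j ⁻¹ᵁ W)
        (OmegaSh.conormalSect j W (E.symm ⟨s.1, hN.symm ▸ s.2⟩)))
      map_add' := fun a b ↦ by
        rw [← map_add, ← map_add, ← map_add, ← map_add]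
        rfl
      map_smul' := fun r a ↦ by
        change _ = ρ r • res Pm eT _
        have hscal : ρ r = Z.presheaf.map (homOfLE eT).op (i.app (j ⁻¹ᵁ W) (j.app W r)) := by
          rw [show Z.presheaf.map (homOfLE eT).op = 𝟙 _ from Z.presheaf.map_id _]
          rfl
        rw [hscal, ← res_smul]
        congr 1
        refine Eq.trans ?_ (Groth.PicAux.pullSec_smul i (Omega.conormal j) _ _)
        refine congrArg (OmegaSh.pullSect i (Omega.conormal j) (j ⁻¹ᵁ W)) ?_
        rw [← conormalSect_smul, ← map_smul]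
        rfl }
  have hFs : Function.Surjective f0 := fun y ↦ by
    let _ := sectionsAlg i eT
    obtain ⟨z, rfl⟩ := (Groth.QCohMod.pullSecTensor_bijective i (Omega.conormal j) eT
      hjW.affine_preimage hU).2 y
    induction z using TensorProduct.induction_on with
    | zero => exact ⟨0, by rw [map_zero, map_zero]⟩
    | add a b ha hb =>
      obtain ⟨x, hx⟩ := ha; obtain ⟨x', hx'⟩ := hb
      exact ⟨x + x', by rw [map_add, map_add, hx, hx']⟩
    | tmul b c =>
      obtain ⟨a, rfl⟩ := hkW.surjective b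
      obtain ⟨k, rfl⟩ := hjW.conormalSect_surjective c
      refine ⟨a • ⟨(E k).1, hN ▸ (E k).2⟩, ?_⟩
      rw [map_smul, Groth.QCohMod.pullSecTensor_tmul]
      change ρ a • res Pm eT (OmegaSh.pullSect i _ _
        (OmegaSh.conormalSect j W (E.symm _))) = _
      rw [show (⟨(E k).1, _⟩ : j.ker.ideal ⟨W, hjW.affine⟩) = E k from rfl, E.symm_apply_apply]
      rfl
  refine (injective_iff_map_eq_zero _).mpr fun y hy ↦ ?_
  obtain ⟨s, rfl⟩ := hFs y
  let s' := E.symm ⟨s.1, hN.symm ▸ s.2⟩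
  have hs' : OmegaSh.idealSect j.ker W s' = s.1 :=
    (idealSecEquiv_apply j.ker ⟨W, hjW.affine⟩ s').symm.trans
      congr(($(E.apply_symm_apply ⟨s.1, hN.symm ▸ s.2⟩)).1)
  have hsJ : ρ s.1 = 0 := by
    show i.app (j ⁻¹ᵁ W) (j.app W s.1) = 0
    rw [RingHom.mem_ker.mp s.2, map_zero]
  obtain ⟨t, ht⟩ : ∃ t, OmegaSh.idealSect (i ≫ j).ker ((𝟙 X : X ⟶ X) ⁻¹ᵁ W) t =
      (𝟙 X : X ⟶ X).app W (OmegaSh.idealSect j.ker W s') := by
    refine exists_idealSect_of_app_eq_zero (i ≫ j) ?_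
    rw [hs']
    exact hsJ
  have hψs : ψ.app U (f0 s) = OmegaSh.conormalSect (i ≫ j) W t := by
    change ψ.app U (res Pm eT _) = _
    rw [← res_app]
    exact (hψ.2 W s' t ht U eT le_rfl).trans (res_self (Omega.conormal (i ≫ j)) _)
  have hy0 : OmegaSh.conormalSect (i ≫ j) W t = 0 := hψs.symm.trans hy
  have hy' : s.1 ∈ RingHom.ker ((i ≫ j).app W).hom ^ 2 := by
    have h1 := (hkW.conormalSect_eq_zero_iff t).mp hy0
    rw [← hs']
    exact (show OmegaSh.idealSect (i ≫ j).ker W t = OmegaSh.idealSect j.ker W s' from ht) ▸ h1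
  exact eq_zero_of_mem_mul f0 (fun r hr m => by
    change ρ r • m = 0
    rw [RingHom.mem_ker.mp hr, zero_smul]) s.1 (halg ⟨s.2, hy'⟩) s.2

/-- A common chart on which the ideal of `Z` in `Y` is generated by an `H₁`-regular sequence. -/
theorem exists_h1_chart [IsImmersion i] [IsImmersion j] (z : Z) (h : RegImm.IsRegularImmersionAt .h1 i z) :
    ∃ W : X.Opens, (i ≫ j) z ∈ W ∧ IsConormalChart j W ∧ IsConormalChart (i ≫ j) W ∧
      ∃ (c : ℕ) (f : Fin c → Γ(Y, j ⁻¹ᵁ W)), CAlgX.IsH1Regular f ∧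
        RingHom.ker (i.app (j ⁻¹ᵁ W)).hom = Ideal.span (Set.range f) := by
  obtain ⟨U, hzU, hci, rs, hrs, hker⟩ := h
  obtain ⟨O, hO, hOU⟩ := j.isEmbedding.isOpen_iff.mp U.1.2
  obtain ⟨W₁, hW₁, hz₁, hW₁O⟩ := exists_conormalChart j (i z) (W₀ := ⟨O, hO⟩)
    (show j (i z) ∈ O from by rw [← Set.mem_preimage, hOU]; exact hzU)
  obtain ⟨W, hW, hzW, hWW₁⟩ := exists_conormalChart (i ≫ j) z (W₀ := W₁ ⊓ j.coborderRange)
    ⟨hz₁, subset_coborder ⟨i z, rfl⟩⟩
  have hjW : IsConormalChart j W := isConormalChart_of_le j hW.affine fun p hp => (hWW₁ hp).2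
  have hle : j ⁻¹ᵁ W ≤ U.1 := fun y hy => by
    have : j y ∈ O := hW₁O (hWW₁ hy).1
    rwa [← Set.mem_preimage, hOU] at this
  refine ⟨W, hzW, hjW, hW, rs.length, (Y.presheaf.map (homOfLE hle).op).hom ∘ rs.get, ?_, ?_⟩
  · refine isH1Regular_map _ ?_ hrs
    have := Flat.flat_appLE (𝟙 Y) (U := U.1) U.2 (V := j ⁻¹ᵁ W) hjW.affine_preimage hle
    exact this
  · have hsq : IsPullback (𝟙 Z) i i (𝟙 Y) := IsPullback.of_horiz_isIso ⟨by simp⟩
    rw [Groth.RegKinds.ker_app_baseChange i (𝟙 Y) i (𝟙 Z) hsq U hjW.affine_preimage hle, hker,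
      Set.range_comp, ← Ideal.map_span, Set.range_list_get]
    congr 1

/-- `i^*C_{Y/X} ⟶ C_{Z/X}` is mono when `i` is `H₁`-regular. -/
theorem conormalMap_mono [IsImmersion i] [IsImmersion j] [QuasiCompact i] [QuasiCompact j]
    {ψ : (Scheme.Modules.pullback i).obj (Omega.conormal j) ⟶ Omega.conormal (i ≫ j)}
    (hψ : OmegaSh.IsConormalMap (i ≫ j) j (𝟙 X) i ψ) (hi : ∀ z : Z, RegImm.IsRegularImmersionAt .h1 i z) :
    Mono ψ := by
  refine mono_of_affine_cover ψ fun z ↦ ?_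
  obtain ⟨W, hz, hjW, hkW, c, f, hf, hker⟩ := exists_h1_chart i j z (hi z)
  refine ⟨(i ≫ j) ⁻¹ᵁ W, hkW.affine_preimage, hz, conormalMap_app_injective i j hψ hjW hkW ?_⟩
  have hcomp : RingHom.ker ((i ≫ j).app W).hom = (Ideal.span (Set.range f)).comap (j.app W).hom := by
    rw [← hker, RingHom.comap_ker]
    rfl
  rw [hcomp]
  exact inf_sq_le_of_h1 (j.app W).hom hjW.surjective f hf

end Groth.KoszulLCI
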