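import Groth.Agent.KoszulLCI.Pres
import Groth.Agent.KoszulLCI.Immersion

/-!
# Extending part of a Koszul-regular generating sequence
-/

set_option autoImplicit false
set_option linter.unusedSectionVars false

universe u

open IsLocalRing

namespace Groth.KoszulLCI

section Local

variable {R : Type u} [CommRing R] [IsLocalRing R]

/-- Replace entries of `f` by the elements of `gs`. -/
theorem exists_extend : ∀ (gs p f : List R), LCI.IsKoszulRegularSeq R (p ++ f) →
    (∀ a ∈ gs, a ∈ Ideal.ofList (p ++ f)) →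
    (∀ (l₁ : List R) (a : R) (l₂ : List R), gs = l₁ ++ a :: l₂ →
      a ∉ maximalIdeal R • Ideal.ofList (p ++ f) ⊔ Ideal.ofList (p ++ l₁)) →
    ∃ f' : List R, LCI.IsKoszulRegularSeq R (p ++ gs ++ f') ∧ (gs ++ f').length = f.length ∧
      Ideal.ofList (p ++ gs ++ f') = Ideal.ofList (p ++ f)
  | [], p, f, hf, _, _ => ⟨f, by simpa using hf, by simp, by simp⟩
  | a :: gs, p, f, hf, hmem, hind => by
    have haI : a ∈ Ideal.ofList f ⊔ Ideal.ofList p := by
      rw [sup_comm, ← Ideal.ofList_append]
      exact hmem a List.mem_cons_self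
    have ha : a ∉ maximalIdeal R • Ideal.ofList f ⊔ Ideal.ofList p := by
      intro h
      have hle : maximalIdeal R • Ideal.ofList f ⊔ Ideal.ofList p ≤
          maximalIdeal R • Ideal.ofList (p ++ f) ⊔ Ideal.ofList (p ++ []) := by
        rw [List.append_nil]
        refine sup_le_sup (Submodule.smul_mono le_rfl ?_) le_rfl
        rw [Ideal.ofList_append]
        exact le_sup_right
      exact hind [] a gs rfl (hle h)
    obtain ⟨b, c, y, f', hp, hc, hy, hay⟩ := exists_unit_coeff _ f a haI ha
    have hpf : (p ++ f).Perm (b :: (p ++ f')) := (hp.append_left p).trans List.perm_middle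
    have hy' : y ∈ Ideal.ofList (p ++ f') := by rwa [Ideal.ofList_append, sup_comm]
    have h1 : LCI.IsKoszulRegularSeq R (a :: (p ++ f')) := by
      refine (isKoszulRegularSeq_cons_congr _ (?_ : c * b - a ∈ Ideal.ofList (p ++ f'))).mp ?_
      · rw [hay, sub_add_cancel_left]
        exact neg_mem hy'
      · exact (isKoszulRegularSeq_cons_unit_mul hc _).mpr ((isKoszulRegularSeq_perm hpf).mp hf)
    have hI : Ideal.ofList (a :: (p ++ f')) = Ideal.ofList (p ++ f) := by
      rw [ofList_eq_of_perm hpf, Ideal.ofList_cons, Ideal.ofList_cons]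
      refine le_antisymm (sup_le ?_ le_sup_right) (sup_le ?_ le_sup_right) <;>
        rw [Ideal.span_le, Set.singleton_subset_iff, SetLike.mem_coe]
      · rw [hay]
        exact add_mem (Ideal.mem_sup_left (Ideal.mem_span_singleton'.mpr ⟨c, rfl⟩))
          (Ideal.mem_sup_right hy')
      · obtain ⟨c, rfl⟩ := hc
        rw [show b = (↑c⁻¹ : R) * a - (↑c⁻¹ : R) * y by rw [hay, mul_add, ← mul_assoc, Units.inv_mul]; ring]
        exact sub_mem (Ideal.mem_sup_left (Ideal.mem_span_singleton'.mpr ⟨_, rfl⟩))
          (Ideal.mem_sup_right (Ideal.mul_mem_left _ _ hy'))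
    have hperm : (a :: (p ++ f')).Perm ((p ++ [a]) ++ f') := by
      rw [List.append_assoc, List.singleton_append]
      exact List.perm_middle.symm
    rw [ofList_eq_of_perm hperm] at hI
    obtain ⟨f'', h2, h3, h4⟩ := exists_extend gs (p ++ [a]) f' ((isKoszulRegularSeq_perm hperm).mp h1)
      (fun x hx => hI ▸ hmem x (List.mem_cons_of_mem _ hx))
      (fun l₁ x l₂ he => by
        rw [hI, List.append_assoc, List.singleton_append]
        exact hind (a :: l₁) x l₂ (by rw [he]; rfl))
    have hlen := hp.length_eq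
    rw [List.append_assoc p [a] gs, List.singleton_append] at h2 h4
    refine ⟨f'', h2, ?_, h4.trans hI⟩
    simp at hlen h3 ⊢
    omega

/-- Independence of `g` modulo `mJ` in the form used by `exists_extend`. -/
theorem notMem_of_indep {s : ℕ} (g : Fin s → R) (J : Ideal R)
    (h : ∀ v : Fin s → R, ∑ k, v k * g k ∈ maximalIdeal R • J → ∀ k, v k ∈ maximalIdeal R)
    (l₁ : List R) (a : R) (l₂ : List R) (he : List.ofFn g = l₁ ++ a :: l₂) :
    a ∉ maximalIdeal R • J ⊔ Ideal.ofList ([] ++ l₁) := by
  classical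
  intro ha
  have hlen : l₁.length < s := by
    have := congrArg List.length he
    simp at this
    omega
  let k₀ : Fin s := ⟨l₁.length, hlen⟩
  have hk₀ : g k₀ = a := by
    have := List.getElem_ofFn (f := g) (i := l₁.length) (h := by simpa using hlen)
    rw [← this]
    simp [he]
  have hsub : Ideal.ofList ([] ++ l₁) ≤ Submodule.span R (g '' {k | k < k₀}) := by
    rw [List.nil_append]
    refine Submodule.span_mono fun x hx => ?_
    obtain ⟨n, hn, rfl⟩ := List.mem_iff_getElem.mp hx
    refine ⟨⟨n, hn.trans hlen⟩, hn, ?_⟩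
    have := List.getElem_ofFn (f := g) (i := n) (h := by simpa using hn.trans hlen)
    rw [← this]
    simp [he, List.getElem_append_left hn]
  obtain ⟨x, hx, y, hy, hxy⟩ := Submodule.mem_sup.mp ha
  obtain ⟨l, hl, rfl⟩ := (Finsupp.mem_span_image_iff_linearCombination R).mp (hsub hy)
  have hl0 : l k₀ = 0 := by
    by_contra h0
    exact lt_irrefl k₀ ((Finsupp.mem_supported R l).mp hl (Finsupp.mem_support_iff.mpr h0))
  have hsum : Finsupp.linearCombination R g l = ∑ k, l k * g k := by
    rw [Finsupp.linearCombination_apply, Finsupp.sum_fintype _ _ (by simp)]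
    rfl
  have := h (Pi.single k₀ 1 - ⇑l) (by
    rw [show ∑ k, (Pi.single k₀ 1 - ⇑l : Fin s → R) k * g k = x by
      simp [sub_mul, Finset.sum_sub_distrib, Pi.single_apply, hk₀, ← hsum, ← hxy]]
    exact hx) k₀
  simp [hl0] at this

end Local

variable {A B : Type u} [CommRing A] [CommRing B]

/-- Descent of Koszul regularity to the quotient by a part of the generators. -/
theorem locReg_descend (θ : A →+* B) (hθ : Function.Surjective θ) {s : ℕ} (g : Fin s → A)
    (hg : LCI.IsKoszulRegularSeq A (List.ofFn g)) (hker : RingHom.ker θ = Ideal.ofList (List.ofFn g))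
    (K : Ideal B)
    (hind : ∀ q : Ideal A, K.comap θ ≤ q → ∀ v : Fin s → A, ∑ k, v k * g k ∈ q * K.comap θ → ∀ k, v k ∈ q)
    (q' : Ideal B) [q'.IsPrime] (hq' : K ≤ q') {t : ℕ} (h : LocReg (K.comap θ) (q'.comap θ) t) :
    LocReg K q' (t - s) := by
  classical
  let q := q'.comap θ
  let P := Localization.AtPrime q
  let θ' : P →+* Localization.AtPrime q' := Localization.localRingHom q q' θ rfl
  have hθ' : Function.Surjective θ' := surjective_localRingHom θ hθ q'
  let gP : Fin s → P := algebraMap A P ∘ g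
  have hgs : LCI.IsKoszulRegularSeq P (List.ofFn gP) := by
    have := isKoszulRegularSeq_localization q hg
    rwa [List.map_ofFn] at this
  have hk' : RingHom.ker θ' = Ideal.ofList (List.ofFn gP) := by
    have := ker_localRingHom_eq_map θ hθ q'
    rw [hker, Ideal.map_ofList, List.map_ofFn] at this
    exact this
  obtain ⟨f, hft, hf, hfI⟩ := h
  have hmJ : ∀ k, gP k ∈ Ideal.ofList f := fun k => by
    rw [hfI]
    refine Ideal.mem_map_of_mem _ (Ideal.mem_comap.mpr ?_)
    rw [RingHom.mem_ker.mp (hker ▸ mem_ofList ((List.mem_ofFn' g _).mpr ⟨k, rfl⟩) : g k ∈ RingHom.ker θ)]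
    exact K.zero_mem
  have hi : ∀ v : Fin s → P, ∑ k, v k * gP k ∈ maximalIdeal P • Ideal.ofList f → ∀ k, v k ∈ maximalIdeal P := by
    intro v hv k
    obtain ⟨b, hb⟩ := IsLocalization.exist_integer_multiples_of_finite q.primeCompl v
    choose a ha using hb
    have hsum : algebraMap A P (∑ k, a k * g k) = algebraMap A P b * ∑ k, v k * gP k := by
      rw [map_sum, Finset.mul_sum]
      refine Finset.sum_congr rfl fun k _ => ?_
      rw [map_mul, ha k, Algebra.smul_def, mul_assoc]
      rfl
    have hmem : algebraMap A P (∑ k, a k * g k) ∈ (q * K.comap θ).map (algebraMap A P) := by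
      rw [hsum, Ideal.map_mul, Localization.AtPrime.map_eq_maximalIdeal, ← hfI, ← smul_eq_mul (a := maximalIdeal P)]
      exact Ideal.mul_mem_left _ _ hv
    obtain ⟨c, hc, hcs⟩ := (IsLocalization.algebraMap_mem_map_algebraMap_iff q.primeCompl P _ _).mp hmem
    rw [Finset.mul_sum] at hcs
    have := hind q (Ideal.comap_mono hq') (fun k => c * a k) (by simpa [mul_assoc] using hcs) k
    have hak : a k ∈ q := ((inferInstance : q.IsPrime).mem_or_mem this).resolve_left hc
    have h2 : algebraMap A P b * v k ∈ maximalIdeal P := by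
      rw [← Algebra.smul_def, ← ha k]
      exact (IsLocalization.AtPrime.to_map_mem_maximal_iff P q _).mpr hak
    exact (Ideal.unit_mul_mem_iff_mem _ (IsLocalization.map_units P b)).mp h2
  obtain ⟨f', h2, h3, h4⟩ := exists_extend (List.ofFn gP) [] f (by simpa using hf)
    (fun x hx => by
      obtain ⟨k, rfl⟩ := List.mem_ofFn.mp hx
      simpa using hmJ k)
    (fun l₁ a l₂ he => notMem_of_indep gP _ (by simpa using hi) l₁ a l₂ he)
  rw [List.nil_append] at h2 h4
  refine ⟨f'.map θ', ?_, (isKoszulRegularSeq_append_iff (List.ofFn gP) f' hgs θ' hθ' hk').mp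
    (isKoszulRegularSeq_of_perm List.perm_append_comm h2), ?_⟩
  · simp at h3 ⊢
    omega
  · have hm : ((K.comap θ).map (algebraMap A P)).map θ' = K.map (algebraMap B (Localization.AtPrime q')) := by
      rw [Ideal.map_map, show θ'.comp (algebraMap A P) = (algebraMap B (Localization.AtPrime q')).comp θ from
        RingHom.ext fun a => Localization.localRingHom_to_map _ q' θ rfl a, ← Ideal.map_map,
        Ideal.map_comap_of_surjective θ hθ]
    rw [← hm, ← hfI]
    have h5 := congrArg (Ideal.map θ') h4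
    rw [List.nil_append, Ideal.ofList_append, Ideal.map_sup, ← hk', (Ideal.map_eq_bot_iff_le_ker θ').mpr le_rfl, bot_sup_eq] at h5
    rw [← h5, Ideal.map_ofList]

/-- The Koszul-regular ideal version of `locReg_descend`. -/
theorem isKoszulRegularIdeal_descend (θ : A →+* B) (hθ : Function.Surjective θ) {s : ℕ} (g : Fin s → A)
    (hg : LCI.IsKoszulRegularSeq A (List.ofFn g)) (hker : RingHom.ker θ = Ideal.ofList (List.ofFn g))
    (K : Ideal B) (hK : LCI.IsKoszulRegularIdeal (K.comap θ))
    (hind : ∀ q : Ideal A, K.comap θ ≤ q → ∀ v : Fin s → A, ∑ k, v k * g k ∈ q * K.comap θ → ∀ k, v k ∈ q) :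
    LCI.IsKoszulRegularIdeal K := by
  have hfg : K.FG := by
    rw [← Ideal.map_comap_of_surjective θ hθ K]
    exact (fg_of_isKoszulRegularIdeal hK).map θ
  refine isKoszulRegularIdeal_of_locReg hfg fun q _ hq => ?_
  obtain ⟨g₁, hg₁, t, ht⟩ := locReg_of_isKoszulRegularIdeal hK (q.comap θ) (Ideal.comap_mono hq)
  refine ⟨θ g₁, hg₁, t - s, fun q₁ _ hq₁ hg₁' => ?_⟩
  exact locReg_descend θ hθ g hg hker K hind q₁ hq₁ (ht (q₁.comap θ) hg₁')

end Groth.KoszulLCI
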