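import Groth.Agent.KoszulLCI.ConormalFree
import Groth.Agent.KoszulLCI.KoszulDescentAlg
import Groth.Agent.PicAux.OpenBij

/-!
# Koszul regularity of the first immersion from split exactness of the conormal sequence
-/

set_option autoImplicit false
set_option linter.style.haveILetI false

universe u

open CategoryTheory Limits AlgebraicGeometry Opposite TopologicalSpace TensorProduct

namespace Groth.KoszulLCI

open Groth.OmegaSheaf
open Groth.QCohMod (res res_res res_smul res_app res_self sectionsAlg)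

/-- A retraction over an open gives a semilinear retraction on the sections over smaller opens. -/
theorem exists_retraction_sections {Z : Scheme.{u}} {M N : Z.Modules} (φ : M ⟶ N) (U : Z.Opens)
    (ρ : (Scheme.Modules.restrictFunctor U.ι).obj N ⟶ (Scheme.Modules.restrictFunctor U.ι).obj M)
    (h : (Scheme.Modules.restrictFunctor U.ι).map φ ≫ ρ = 𝟙 _) (V : Z.Opens) (hV : V ≤ U) :
    ∃ r : Γ(N, V) →+ Γ(M, V), (∀ (a : Γ(Z, V)) (x : Γ(N, V)), r (a • x) = a • r x) ∧
      ∀ y, r (φ.app V y) = y := by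
  obtain ⟨V', rfl⟩ : ∃ V' : (U : Scheme.{u}).Opens, U.ι ''ᵁ V' = V :=
    ⟨U.ι ⁻¹ᵁ V, by rw [Scheme.Hom.image_preimage_eq_opensRange_inf, Scheme.Opens.opensRange_ι, inf_eq_right.mpr hV]⟩
  refine ⟨Groth.PicAux.restrictApp (j := U.ι) ρ V', fun a x => Groth.PicAux.restrictApp_smul ρ V' a x,
    fun y => ?_⟩
  exact (congr((Scheme.Modules.Hom.app $h V') y))

theorem mem_smul_top_of_semilinear {R M N : Type u} [CommRing R] [AddCommGroup M] [Module R M]
    [AddCommGroup N] [Module R N] (r : N →+ M) (hr : ∀ (a : R) x, r (a • x) = a • r x) (I : Ideal R)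
    {x : N} (hx : x ∈ I • (⊤ : Submodule R N)) : r x ∈ I • (⊤ : Submodule R M) := by
  induction hx using Submodule.smul_induction_on' with
  | smul a ha y _ => rw [hr]; exact Submodule.smul_mem_smul ha trivial
  | add a _ b _ ha hb => rw [map_add]; exact add_mem ha hb

theorem repr_mem_of_mem_smul_top {R M ι : Type u} [CommRing R] [AddCommGroup M] [Module R M]
    {c : ℕ} (B : Module.Basis (Fin c) R M) (I : Ideal R) {x : M} (hx : x ∈ I • (⊤ : Submodule R M))
    (m : Fin c) : B.repr x m ∈ I := by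
  induction hx using Submodule.smul_induction_on' with
  | smul a ha y _ => rw [map_smul, Finsupp.smul_apply, smul_eq_mul]; exact Ideal.mul_mem_right _ _ ha
  | add a _ b _ ha hb => rw [map_add, Finsupp.add_apply]; exact add_mem ha hb

variable {Z Y X : Scheme.{u}} (i : Z ⟶ Y) (j : Y ⟶ X)

/-- Independence of the generators of `Y` modulo the ideal of `Z`, from a retraction of `a`. -/
theorem indep_of_retraction [IsImmersion i] [IsImmersion j] [QuasiCompact i] [QuasiCompact j]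
    {ψ : (Scheme.Modules.pullback i).obj (Omega.conormal j) ⟶ Omega.conormal (i ≫ j)}
    (hψ : OmegaSh.IsConormalMap (i ≫ j) j (𝟙 X) i ψ) {W : X.Opens} (hjW : IsConormalChart j W)
    (hkW : IsConormalChart (i ≫ j) W) {c : ℕ} (g : Fin c → Γ(X, W)) (hg : CAlgX.IsH1Regular g)
    (hker : RingHom.ker (j.app W).hom = Ideal.span (Set.range g))
    (r : Γ(Omega.conormal (i ≫ j), (i ≫ j) ⁻¹ᵁ W) →+
      Γ((Scheme.Modules.pullback i).obj (Omega.conormal j), (i ≫ j) ⁻¹ᵁ W))
    (hr : ∀ (a : Γ(Z, (i ≫ j) ⁻¹ᵁ W)) x, r (a • x) = a • r x)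
    (hrψ : ∀ y, r (ψ.app ((i ≫ j) ⁻¹ᵁ W) y) = y)
    (q : Ideal Γ(X, W)) (hq : RingHom.ker ((i ≫ j).app W).hom ≤ q) (v : Fin c → Γ(X, W))
    (hv : ∑ k, v k * g k ∈ q * RingHom.ker ((i ≫ j).app W).hom) (m : Fin c) : v m ∈ q := by
  let U := (i ≫ j) ⁻¹ᵁ W
  have eT : U ≤ i ⁻¹ᵁ (j ⁻¹ᵁ W) := le_rfl
  let Pm := (Scheme.Modules.pullback i).obj (Omega.conormal j)
  let ρ : Γ(X, W) →+* Γ(Z, U) := ((i ≫ j).app W).hom
  obtain ⟨B, hB⟩ := exists_basis_conormal j hjW g hg hker
  let _ := sectionsAlg i eT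
  let E : Module.Basis (Fin c) Γ(Z, U) Γ(Pm, U) := (B.baseChange Γ(Z, U)).map
    (LinearEquiv.ofBijective _ (Groth.QCohMod.pullSecTensor_bijective i (Omega.conormal j) eT
      hjW.affine_preimage hkW.affine_preimage))
  choose s hs using fun k : Fin c => exists_idealSect j.ker ⟨W, hjW.affine⟩ (x := g k)
    (by rw [ker_ideal_eq (i := j) hjW.affine, hker]; exact Ideal.subset_span ⟨k, rfl⟩)
  have hgJ : ∀ k, g k ∈ RingHom.ker ((i ≫ j).app W).hom := fun k => by
    refine RingHom.mem_ker.mpr ?_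
    show i.app (j ⁻¹ᵁ W) (j.app W (g k)) = 0
    rw [RingHom.mem_ker.mp (hker ▸ Ideal.subset_span ⟨k, rfl⟩ : g k ∈ RingHom.ker (j.app W).hom), map_zero]
  choose t ht using fun k : Fin c => exists_idealSect (i ≫ j).ker ⟨W, hkW.affine⟩ (x := g k)
    (by rw [ker_ideal_eq (i := i ≫ j) hkW.affine]; exact hgJ k)
  have hψE : ∀ k, ψ.app U (E k) = OmegaSh.conormalSect (i ≫ j) W (t k) := by
    intro k
    have hE : E k = res Pm eT (OmegaSh.pullSect i (Omega.conormal j) (j ⁻¹ᵁ W)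
        (OmegaSh.conormalSect j W (s k))) := by
      simp only [E, Module.Basis.map_apply, Module.Basis.baseChange_apply, LinearEquiv.ofBijective_apply]
      rw [Groth.QCohMod.pullSecTensor_tmul, one_smul, hB k (s k) (hs k)]
      rfl
    rw [hE, ← res_app]
    refine (hψ.2 W (s k) (t k) ?_ U eT le_rfl).trans (res_self (Omega.conormal (i ≫ j)) _)
    rw [hs k]
    exact ht k
  let y : Γ(Pm, U) := ∑ k, ρ (v k) • E k
  have hψy : ψ.app U y = OmegaSh.conormalSect (i ≫ j) W (∑ k, v k • t k) := by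
    rw [map_sum, map_sum]
    refine Finset.sum_congr rfl fun k _ => ?_
    rw [Scheme.Modules.Hom.app_smul, hψE]
    exact (conormalSect_smul (i ≫ j) _ _).symm
  have key : ∀ x ∈ q * RingHom.ker ((i ≫ j).app W).hom, ∀ u : Γ(ClSub.idealMod (i ≫ j).ker, W),
      OmegaSh.idealSect (i ≫ j).ker W u = x →
        OmegaSh.conormalSect (i ≫ j) W u ∈
          q.map ρ • (⊤ : Submodule Γ(Z, U) Γ(Omega.conormal (i ≫ j), U)) := by
    intro x hx
    induction hx using Submodule.mul_induction_on' with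
    | mem_mul_mem a ha b hb =>
      intro u hu
      obtain ⟨w, hw⟩ := exists_idealSect (i ≫ j).ker ⟨W, hkW.affine⟩ (x := b)
        (by rw [ker_ideal_eq (i := i ≫ j) hkW.affine]; exact hb)
      rw [show u = a • w from idealSect_injective _ _ (by rw [hu, idealSect_smul, hw]), conormalSect_smul]
      exact Submodule.smul_mem_smul (Ideal.mem_map_of_mem _ ha) trivial
    | add a ha b hb iha ihb =>
      intro u hu
      have hle : q * RingHom.ker ((i ≫ j).app W).hom ≤ (i ≫ j).ker.ideal ⟨W, hkW.affine⟩ :=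
        (ker_ideal_eq (i := i ≫ j) hkW.affine).symm ▸ Ideal.mul_le_right
      obtain ⟨u₁, hu₁⟩ := exists_idealSect (i ≫ j).ker ⟨W, hkW.affine⟩ (hle ha)
      obtain ⟨u₂, hu₂⟩ := exists_idealSect (i ≫ j).ker ⟨W, hkW.affine⟩ (hle hb)
      rw [show u = u₁ + u₂ from idealSect_injective _ _ (by rw [hu, map_add, hu₁, hu₂]), map_add]
      exact add_mem (iha u₁ hu₁) (ihb u₂ hu₂)
  have hy : y ∈ q.map ρ • (⊤ : Submodule Γ(Z, U) Γ(Pm, U)) := by
    rw [← hrψ y]
    refine mem_smul_top_of_semilinear r hr _ ?_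
    rw [hψy]
    refine key _ hv _ ?_
    rw [map_sum]
    exact Finset.sum_congr rfl fun k _ => by rw [idealSect_smul, ht]
  have hm := repr_mem_of_mem_smul_top (ι := Γ(Z, U)) E _ hy m
  rw [show E.repr y m = ρ (v m) by
    simp only [y, map_sum, map_smul, Module.Basis.repr_self, Finsupp.finset_sum_apply, Finsupp.smul_apply,
      Finsupp.single_apply, smul_eq_mul, mul_ite, mul_one, mul_zero, Finset.sum_ite_eq', Finset.mem_univ,
      if_true]] at hm
  have : v m ∈ (q.map ρ).comap ρ := hm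
  rwa [Ideal.comap_map_of_surjective ρ hkW.surjective, ← RingHom.ker_eq_comap_bot, sup_eq_left.mpr hq] at this

/-- If `j` and `i ≫ j` are Koszul-regular and `a` has retractions on sections, `i` is Koszul-regular. -/
theorem isRegularImmersion_koszul_of_retraction [IsImmersion i] [IsImmersion j] [QuasiCompact i] [QuasiCompact j]
    {ψ : (Scheme.Modules.pullback i).obj (Omega.conormal j) ⟶ Omega.conormal (i ≫ j)}
    (hψ : OmegaSh.IsConormalMap (i ≫ j) j (𝟙 X) i ψ)
    (hj : ∀ z : Z, RegImm.IsRegularImmersionAt .koszul j (i z))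
    (hij : RegImm.IsRegularImmersion .koszul (i ≫ j))
    (hret : ∀ z : Z, ∃ U : Z.Opens, z ∈ U ∧ ∀ V : Z.Opens, IsAffineOpen V → V ≤ U →
      ∃ r : Γ(Omega.conormal (i ≫ j), V) →+ Γ((Scheme.Modules.pullback i).obj (Omega.conormal j), V),
        (∀ (a : Γ(Z, V)) x, r (a • x) = a • r x) ∧ ∀ y, r (ψ.app V y) = y) :
    RegImm.IsRegularImmersion .koszul i := by
  rw [isRegularImmersion_koszul_iff]
  refine ⟨inferInstance, (morLCI_iff_exists i).mpr fun z => ?_⟩
  obtain ⟨U, hzU, hrU⟩ := hret z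
  obtain ⟨U₀, hzU₀, hci, rs, hrs, hker₀⟩ := hj z
  obtain ⟨O, hO, hOU⟩ := (i ≫ j).isEmbedding.isOpen_iff.mp U.2
  obtain ⟨W, hkW, hzW, hWle⟩ := exists_conormalChart (i ≫ j) z (W₀ := U₀.1 ⊓ ⟨O, hO⟩ ⊓ j.coborderRange)
    ⟨⟨hzU₀, show (i ≫ j) z ∈ O from by rw [← Set.mem_preimage, hOU]; exact hzU⟩, subset_coborder ⟨i z, rfl⟩⟩
  have hjW : IsConormalChart j W := isConormalChart_of_le j hkW.affine fun p hp => (hWle hp).2
  have hWU₀ : W ≤ U₀.1 := fun p hp => (hWle hp).1.1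
  have hWU : (i ≫ j) ⁻¹ᵁ W ≤ U := fun p hp => by
    have : (i ≫ j) p ∈ O := (hWle hp).1.2
    rwa [← Set.mem_preimage, hOU] at this
  let θr := (X.presheaf.map (homOfLE hWU₀).op).hom
  have hflat : θr.Flat := by
    have := Flat.flat_appLE (𝟙 X) (U := U₀.1) U₀.2 (V := W) hkW.affine hWU₀
    exact this
  have hg : LCI.IsKoszulRegularSeq Γ(X, W) (List.ofFn (θr ∘ rs.get)) := by
    rw [← List.map_ofFn, List.ofFn_get]
    exact Groth.KoszulReg.isKoszulRegularSeq_map _ hflat _ hrs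
  have hkerW : RingHom.ker (j.app W).hom = Ideal.ofList (List.ofFn (θr ∘ rs.get)) := by
    have hsq : IsPullback (𝟙 Y) j j (𝟙 X) := IsPullback.of_horiz_isIso ⟨by simp⟩
    rw [← List.map_ofFn, List.ofFn_get, ← Ideal.map_ofList, ← hker₀,
      Groth.RegKinds.ker_app_baseChange j (𝟙 X) j (𝟙 Y) hsq U₀ hkW.affine hWU₀]
    congr 1
  have hh1 : CAlgX.IsH1Regular (θr ∘ rs.get) := isH1Regular_map θr hflat (seq_h1_of_koszul hrs)
  obtain ⟨r, hr, hrψ⟩ := hrU _ hkW.affine_preimage hWU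
  refine ⟨⟨j ⁻¹ᵁ W, hjW.affine_preimage⟩, ⟨(i ≫ j) ⁻¹ᵁ W, hkW.affine_preimage⟩, hzW, le_rfl, ?_⟩
  show RingLCI (i.appLE (j ⁻¹ᵁ W) (i ⁻¹ᵁ (j ⁻¹ᵁ W)) le_rfl).hom
  rw [← Scheme.Hom.app_eq_appLE]
  have hsurj : Function.Surjective (i.app (j ⁻¹ᵁ W)).hom := fun x => by
    obtain ⟨w, hw⟩ := hkW.surjective x
    exact ⟨j.app W w, hw⟩
  have hcomap : (RingHom.ker (i.app (j ⁻¹ᵁ W)).hom).comap (j.app W).hom = RingHom.ker ((i ≫ j).app W).hom := by
    rw [RingHom.comap_ker]
    rfl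
  have hJ : LCI.IsKoszulRegularIdeal (RingHom.ker ((i ≫ j).app W).hom) := by
    refine isKoszulRegularIdeal_ker_of_ringLCI _ hkW.surjective ?_
    have := HasRingHomProperty.appLE (P := MorLCI) (i ≫ j) (morLCI_of_isRegularImmersion _ hij)
      ⟨W, hkW.affine⟩ ⟨(i ≫ j) ⁻¹ᵁ W, hkW.affine_preimage⟩ le_rfl
    rwa [← Scheme.Hom.app_eq_appLE] at this
  refine ringLCI_of_surjective _ hsurj (isKoszulRegularIdeal_descend (j.app W).hom hjW.surjective
    (θr ∘ rs.get) hg hkerW _ (hcomap ▸ hJ) fun q hq v hv m => ?_)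
  refine indep_of_retraction i j hψ hjW hkW (θr ∘ rs.get) hh1 ?_ r hr hrψ q (hcomap ▸ hq) v (hcomap ▸ hv) m
  rw [hkerW, Ideal.ofList]
  congr 1
  ext x
  simp

/-- If `j` and `i ≫ j` are Koszul-regular and `a` is locally split injective, `i` is Koszul-regular. -/
theorem isRegularImmersion_koszul_of_split [IsImmersion i] [IsImmersion j] [QuasiCompact i] [QuasiCompact j]
    {ψ : (Scheme.Modules.pullback i).obj (Omega.conormal j) ⟶ Omega.conormal (i ≫ j)}
    (hψ : OmegaSh.IsConormalMap (i ≫ j) j (𝟙 X) i ψ)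
    (hj : ∀ z : Z, RegImm.IsRegularImmersionAt .koszul j (i z))
    (hij : RegImm.IsRegularImmersion .koszul (i ≫ j))
    (hsplit : ∀ z : Z, ∃ (U : Z.Opens)
      (ρ : (Scheme.Modules.restrictFunctor U.ι).obj (Omega.conormal (i ≫ j)) ⟶
        (Scheme.Modules.restrictFunctor U.ι).obj ((Scheme.Modules.pullback i).obj (Omega.conormal j))),
      z ∈ U ∧ (Scheme.Modules.restrictFunctor U.ι).map ψ ≫ ρ = 𝟙 _) :
    RegImm.IsRegularImmersion .koszul i :=
  isRegularImmersion_koszul_of_retraction i j hψ hj hij fun z =>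
    let ⟨U, ρ, hzU, hρ⟩ := hsplit z
    ⟨U, hzU, fun V _ hV => exists_retraction_sections ψ U ρ hρ V hV⟩

end Groth.KoszulLCI
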