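import Groth.Agent.KoszulLCI.ConormalSplitDescent
import Groth.Agent.OmegaSheaf.AffineHom

/-!
# Split injectivity of `i^*C_{Y/X} ⟶ C_{Z/X}` on sections, and splittings over affine opens
-/

set_option autoImplicit false
set_option linter.style.haveILetI false

universe u

open CategoryTheory Limits AlgebraicGeometry Opposite TopologicalSpace

namespace Groth.KoszulLCI

open Groth.OmegaSheaf
open Groth.QCohMod (res res_res res_smul res_app res_self sectionsAlg)

variable {Z Y X : Scheme.{u}} (i : Z ⟶ Y) (j : Y ⟶ X)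

/-- With a retraction, `N ⊓ q J ≤ q N` on a chart, `N`, `J` the ideals of `Y`, `Z`. -/
theorem inf_mul_le_of_retraction [IsImmersion i] [IsImmersion j] [QuasiCompact i] [QuasiCompact j]
    {ψ : (Scheme.Modules.pullback i).obj (Omega.conormal j) ⟶ Omega.conormal (i ≫ j)}
    (hψ : OmegaSh.IsConormalMap (i ≫ j) j (𝟙 X) i ψ) {W : X.Opens} (hjW : IsConormalChart j W)
    (hkW : IsConormalChart (i ≫ j) W)
    (r : Γ(Omega.conormal (i ≫ j), (i ≫ j) ⁻¹ᵁ W) →+
      Γ((Scheme.Modules.pullback i).obj (Omega.conormal j), (i ≫ j) ⁻¹ᵁ W))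
    (hr : ∀ (a : Γ(Z, (i ≫ j) ⁻¹ᵁ W)) x, r (a • x) = a • r x)
    (hrψ : ∀ y, r (ψ.app ((i ≫ j) ⁻¹ᵁ W) y) = y)
    (q : Ideal Γ(X, W)) (hq : RingHom.ker ((i ≫ j).app W).hom ≤ q) :
    RingHom.ker (j.app W).hom ⊓ q * RingHom.ker ((i ≫ j).app W).hom ≤ q * RingHom.ker (j.app W).hom := by
  let U := (i ≫ j) ⁻¹ᵁ W
  let Pm := (Scheme.Modules.pullback i).obj (Omega.conormal j)
  let ρ : Γ(X, W) →+* Γ(Z, U) := ((i ≫ j).app W).hom
  let J := RingHom.ker ρ
  let N := RingHom.ker (j.app W).hom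
  have hIW : j.ker.ideal ⟨W, hjW.affine⟩ = N := ker_ideal_eq (i := j) hjW.affine
  have hiW : IsConormalChart i (j ⁻¹ᵁ W) := ⟨hjW.affine_preimage, hkW.affine_preimage, fun x => by
    obtain ⟨w, hw⟩ := hkW.surjective x
    exact ⟨j.app W w, hw⟩⟩
  let π : Γ(Omega.conormal j, j ⁻¹ᵁ W) → Γ(Pm, U) := fun x => OmegaSh.pullSect i (Omega.conormal j) (j ⁻¹ᵁ W) x
  obtain ⟨hπs, hπz⟩ := hiW.pullSect_app (Omega.conormal j)
  have hπadd : ∀ x y, π (x + y) = π x + π y := fun x y => map_add _ x y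
  have hπsmul : ∀ (b : Γ(X, W)) (k : Γ(ClSub.idealMod j.ker, W)),
      π (OmegaSh.conormalSect j W (b • k)) = ρ b • π (OmegaSh.conormalSect j W k) := by
    intro b k
    rw [conormalSect_smul]
    exact Groth.PicAux.pullSec_smul i (Omega.conormal j) _ _
  -- elements of `q • π(C)` come from `q N`
  have hlift : ∀ y ∈ q.map ρ • (⊤ : Submodule Γ(Z, U) Γ(Pm, U)), ∃ k : Γ(ClSub.idealMod j.ker, W),
      OmegaSh.idealSect j.ker W k ∈ q * N ∧ π (OmegaSh.conormalSect j W k) = y := by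
    intro y hy
    induction hy using Submodule.smul_induction_on' with
    | smul a ha x _ =>
      rw [Ideal.mem_map_iff_of_surjective ρ hkW.surjective] at ha
      obtain ⟨b, hb, rfl⟩ := ha
      obtain ⟨x, rfl⟩ := hπs x
      obtain ⟨k, rfl⟩ := hjW.conormalSect_surjective x
      refine ⟨b • k, ?_, ?_⟩
      · rw [idealSect_smul]
        exact Ideal.mul_mem_mul hb (hIW ▸ idealSect_mem j.ker ⟨W, hjW.affine⟩ k)
      · exact hπsmul b k
    | add x _ y _ hx hy =>
      obtain ⟨k, hk, rfl⟩ := hx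
      obtain ⟨l, hl, rfl⟩ := hy
      exact ⟨k + l, by rw [map_add]; exact add_mem hk hl, by rw [map_add, hπadd]⟩
  rintro s ⟨hsN, hsq⟩
  obtain ⟨k, hk⟩ := exists_idealSect j.ker ⟨W, hjW.affine⟩ (x := s) (hIW.symm ▸ hsN)
  obtain ⟨t, ht⟩ := exists_idealSect (i ≫ j).ker ⟨W, hkW.affine⟩ (x := s)
    (by rw [ker_ideal_eq (i := i ≫ j) hkW.affine]; exact Ideal.mul_le_right hsq)
  have hψk : ψ.app U (π (OmegaSh.conormalSect j W k)) = OmegaSh.conormalSect (i ≫ j) W t := by
    have h1 := hψ.2 W k t (by rw [hk]; exact ht) U le_rfl le_rfl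
    exact ((res_self (Omega.conormal (i ≫ j)) _).symm.trans h1).trans (res_self (Omega.conormal (i ≫ j)) _)
  have key : ∀ x ∈ q * J, ∀ u : Γ(ClSub.idealMod (i ≫ j).ker, W),
      OmegaSh.idealSect (i ≫ j).ker W u = x →
        OmegaSh.conormalSect (i ≫ j) W u ∈
          q.map ρ • (⊤ : Submodule Γ(Z, U) Γ(Omega.conormal (i ≫ j), U)) := by
    intro x hx
    induction hx using Submodule.mul_induction_on' with
    | mem_mul_mem a ha b hb =>
      intro u hu
      obtain ⟨w, hw⟩ := exists_idealSect (i ≫ j).ker ⟨W, hkW.affine⟩ (x := b)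
        (by rw [ker_ideal_eq (i := i ≫ j) hkW.affine]; exact hb)
      rw [show u = a • w from idealSect_injective _ _ (by rw [hu, idealSect_smul, hw]), conormalSect_smul]
      exact Submodule.smul_mem_smul (Ideal.mem_map_of_mem _ ha) trivial
    | add a ha b hb iha ihb =>
      intro u hu
      have hle : q * J ≤ (i ≫ j).ker.ideal ⟨W, hkW.affine⟩ :=
        (ker_ideal_eq (i := i ≫ j) hkW.affine).symm ▸ Ideal.mul_le_right
      obtain ⟨u₁, hu₁⟩ := exists_idealSect (i ≫ j).ker ⟨W, hkW.affine⟩ (hle ha)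
      obtain ⟨u₂, hu₂⟩ := exists_idealSect (i ≫ j).ker ⟨W, hkW.affine⟩ (hle hb)
      rw [show u = u₁ + u₂ from idealSect_injective _ _ (by rw [hu, map_add, hu₁, hu₂]), map_add]
      exact add_mem (iha u₁ hu₁) (ihb u₂ hu₂)
  have hy : π (OmegaSh.conormalSect j W k) ∈ q.map ρ • (⊤ : Submodule Γ(Z, U) Γ(Pm, U)) := by
    rw [← hrψ (π (OmegaSh.conormalSect j W k))]
    refine mem_smul_top_of_semilinear r hr _ ?_
    rw [hψk]
    exact key _ hsq t ht
  obtain ⟨k', hk', hkk⟩ := hlift _ hy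
  have h0 : π (OmegaSh.conormalSect j W (k - k')) = 0 := by
    show OmegaSh.pullSect i (Omega.conormal j) (j ⁻¹ᵁ W) (OmegaSh.conormalSect j W (k - k')) = 0
    rw [map_sub, map_sub, sub_eq_zero]
    exact hkk.symm
  have hmem := (hπz _).mp h0
  -- `C(q N)` absorbs `K • C`
  have hlift2 : ∀ x ∈ RingHom.ker (i.app (j ⁻¹ᵁ W)).hom •
      (⊤ : Submodule Γ(Y, j ⁻¹ᵁ W) Γ(Omega.conormal j, j ⁻¹ᵁ W)), ∃ l : Γ(ClSub.idealMod j.ker, W),
      OmegaSh.idealSect j.ker W l ∈ q * N ∧ OmegaSh.conormalSect j W l = x := by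
    intro x hx
    induction hx using Submodule.smul_induction_on' with
    | smul a ha y _ =>
      obtain ⟨b, rfl⟩ := hjW.surjective a
      obtain ⟨l, rfl⟩ := hjW.conormalSect_surjective y
      refine ⟨b • l, ?_, conormalSect_smul j _ _⟩
      rw [idealSect_smul]
      exact Ideal.mul_mem_mul (hq (show ρ b = 0 from ha)) (hIW ▸ idealSect_mem j.ker ⟨W, hjW.affine⟩ l)
    | add x _ y _ hx hy =>
      obtain ⟨k, hk, rfl⟩ := hx
      obtain ⟨l, hl, rfl⟩ := hy
      exact ⟨k + l, by rw [map_add]; exact add_mem hk hl, map_add _ _ _⟩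
  obtain ⟨l, hl, hle⟩ := hlift2 _ hmem
  have hz : OmegaSh.conormalSect j W (k - k' - l) = 0 := by rw [map_sub, hle, sub_self]
  rw [hjW.conormalSect_eq_zero_iff, map_sub, map_sub, hk] at hz
  have hN2 : N ^ 2 ≤ q * N := by
    rw [pow_two]
    exact Ideal.mul_mono_left fun x hx => hq (by
      show i.app (j ⁻¹ᵁ W) (j.app W x) = 0
      rw [show j.app W x = 0 from hx, map_zero])
  have := add_mem (add_mem (hN2 hz) hl) hk'
  rwa [sub_add_cancel, sub_add_cancel] at this

/-- A short exact sequence of quasi-coherent modules with free last term splits on an affine open. -/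
theorem exists_splitting_restrict (S : ShortComplex Z.Modules) [S.X₁.IsQuasicoherent] [S.X₂.IsQuasicoherent]
    [S.X₃.IsQuasicoherent] (hS : S.Exact) (hepi : Epi S.g) {V : Z.Opens} (hV : IsAffineOpen V)
    (hinj : Function.Injective (S.f.app V)) {c : ℕ} (B : Module.Basis (Fin c) Γ(Z, V) Γ(S.X₃, V))
    (w : (Scheme.Modules.restrictFunctor V.ι).map S.f ≫ (Scheme.Modules.restrictFunctor V.ι).map S.g = 0) :
    Nonempty (ShortComplex.mk _ _ w).Splitting := by
  choose x hx using fun m => Groth.QCohMod.app_surjective_of_epi S.g hV (B m)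
  let L : Γ(S.X₃, V) →ₗ[Γ(Z, V)] Γ(S.X₂, V) := B.constr Γ(Z, V) x
  have hgL : ∀ y, S.g.app V (L y) = y := by
    intro y
    let G : Γ(S.X₂, V) →ₗ[Γ(Z, V)] Γ(S.X₃, V) :=
      { toFun := fun z => S.g.app V z
        map_add' := map_add _
        map_smul' := fun a z => Scheme.Modules.Hom.app_smul S.g a z }
    have : G.comp L = LinearMap.id := B.ext fun m => by
      simp [L, G, hx]
    exact congr($this y)
  have : IsAffine (V : Scheme.{u}) := hV
  have htop : V.ι ''ᵁ ⊤ = V := V.ι_image_top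
  let A (M : Z.Modules) : Γ(M, V) →+ Γ(M, V.ι ''ᵁ ⊤) := res M htop.le
  let A' (M : Z.Modules) : Γ(M, V.ι ''ᵁ ⊤) →+ Γ(M, V) := res M htop.ge
  have hAA' : ∀ (M : Z.Modules) (z : Γ(M, V.ι ''ᵁ ⊤)), A M (A' M z) = z := fun M z => by
    simp only [A, A', res_res]
    exact res_self M z
  have hA'A : ∀ (M : Z.Modules) (z : Γ(M, V)), A' M (A M z) = z := fun M z => by
    simp only [A, A', res_res]
    exact res_self M z
  have : ((Scheme.Modules.restrictFunctor V.ι).obj S.X₃).IsQuasicoherent := inferInstance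
  have hL' : ∀ (a : Γ(Z, V.ι ''ᵁ ⊤)) (z : Γ(S.X₃, V.ι ''ᵁ ⊤)),
      A S.X₂ (L (A' S.X₃ (a • z))) = a • A S.X₂ (L (A' S.X₃ z)) := fun a z => by
    simp only [A, A', res_smul, map_smul]
    congr 1
    rw [← CommRingCat.comp_apply, ← Functor.map_comp]
    exact congr($(Z.presheaf.map_id _).hom a)
  obtain ⟨s, hs⟩ := exists_hom_of_linear (X := (V : Scheme.{u}))
    (M := (Scheme.Modules.restrictFunctor V.ι).obj S.X₃) (F := (Scheme.Modules.restrictFunctor V.ι).obj S.X₂)
    ((A S.X₂).comp (L.toAddMonoidHom.comp (A' S.X₃)))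
    (fun a z => hL' ((V.ι.appIso ⊤).inv a) z)
  have hsg : s ≫ (Scheme.Modules.restrictFunctor V.ι).map S.g = 𝟙 _ := by
    refine hom_ext_of_top fun z => ?_
    show S.g.app (V.ι ''ᵁ ⊤) (s.app ⊤ z) = z
    rw [hs]
    show S.g.app (V.ι ''ᵁ ⊤) (A S.X₂ (L (A' S.X₃ z))) = z
    simp only [A]
    rw [← res_app, hgL]
    exact hAA' S.X₃ z
  have hmono : Mono ((Scheme.Modules.restrictFunctor V.ι).map S.f) := by
    have : ((Scheme.Modules.restrictFunctor V.ι).obj S.X₁).IsQuasicoherent := inferInstance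
    have : ((Scheme.Modules.restrictFunctor V.ι).obj S.X₂).IsQuasicoherent := inferInstance
    refine mono_of_affine_cover _ fun _ => ⟨⊤, isAffineOpen_top _, trivial, ?_⟩
    have hinj' : Function.Injective (S.f.app (V.ι ''ᵁ ⊤)) := by rw [htop]; exact hinj
    exact hinj'
  have hex : (ShortComplex.mk _ _ w).Exact := by
    have : ((Scheme.Modules.restrictFunctor V.ι).obj S.X₂).IsQuasicoherent := inferInstance
    refine exact_of_affine_cover (ShortComplex.mk _ _ w) fun _ => ⟨⊤, isAffineOpen_top _, trivial, fun m hm => ?_⟩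
    exact Groth.QCohMod.exists_app_eq_of_exact hS (htop.symm ▸ hV) m hm
  exact ⟨ShortComplex.Splitting.ofExactOfSection _ hex s hsg hmono⟩

end Groth.KoszulLCI
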