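import Groth.Agent.KoszulLCI.Kinds
import Groth.Agent.KoszulLCI.Pres
import Groth.Agent.KoszulLCI.Regular
import Groth.Agent.KoszulLCI.RegularFactor
import Groth.Agent.FlatMor2.FibCrit.RegSeq
import Groth.Agent.ArtfunDeform.CotT.KoszulReg
import Mathlib.RingTheory.LocalRing.ResidueField.Fiber
import Mathlib.RingTheory.Polynomial.Basic

/-!
# The fibrewise criterion for Koszul-regular ideals with flat quotient

For a finitely presented flat algebra `C` over `A` and a finitely generated ideal `I` with `C/I` flat over `A`,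
`I` is generated by a Koszul-regular sequence near a prime iff its image in the fibre is generated by a regular
sequence at that prime.
-/

set_option autoImplicit false

universe u

open TensorProduct IsLocalRing RingTheory.Sequence

namespace Groth.KoszulLCI

variable {A C : Type u} [CommRing A] [CommRing C] [Algebra A C]

/-- The map from `C` to a local ring of a fibre. -/
noncomputable def toFibLoc (p : Ideal A) [p.IsPrime] (Q : Ideal (p.Fiber C)) [Q.IsPrime] :
    C →+* Localization.AtPrime Q :=
  (algebraMap (p.Fiber C) _).comp (Algebra.TensorProduct.includeRight : C →ₐ[A] p.Fiber C).toRingHom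

/-- The point of `C` below a point of a fibre. -/
noncomputable abbrev fibPoint (p : Ideal A) [p.IsPrime] (Q : Ideal (p.Fiber C)) [Q.IsPrime] : Ideal C :=
  Q.comap (Algebra.TensorProduct.includeRight : C →ₐ[A] p.Fiber C)

/-- The ideal is generated by a Koszul-regular sequence at a point of a fibre. -/
def FibReg (I : Ideal C) (p : Ideal A) [p.IsPrime] (Q : Ideal (p.Fiber C)) [Q.IsPrime] : Prop :=
  ∃ n, GenReg (I.map (toFibLoc p Q)) n

/-- The ideal is generated by a Koszul-regular sequence near a prime. -/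
def NearReg (I : Ideal C) (r : Ideal C) : Prop :=
  ∃ g ∉ r, ∃ n, GenReg (I.map (algebraMap C (Localization.Away g))) n

theorem fibPoint_under (p : Ideal A) [p.IsPrime] (Q : Ideal (p.Fiber C)) [Q.IsPrime] :
    (fibPoint p Q).under A = p := by
  refine Eq.trans ?_ (Ideal.over_def Q p).symm
  ext a
  simp [Ideal.under, Ideal.mem_comap, fibPoint]

theorem exists_fibPoint (r : Ideal C) [r.IsPrime] :
    ∃ (Q : Ideal ((r.under A).Fiber C)) (_ : Q.IsPrime), fibPoint (r.under A) Q = r := by
  have h : (⟨r, inferInstance⟩ : PrimeSpectrum C) ∈ PrimeSpectrum.comap (algebraMap A C) ⁻¹'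
      {(⟨r.under A, inferInstance⟩ : PrimeSpectrum A)} := PrimeSpectrum.ext rfl
  let Q := PrimeSpectrum.preimageEquivFiber A C ⟨r.under A, inferInstance⟩ ⟨_, h⟩
  refine ⟨Q.asIdeal, Q.isPrime, ?_⟩
  have := congrArg Subtype.val ((PrimeSpectrum.preimageEquivFiber A C ⟨r.under A, inferInstance⟩).symm_apply_apply ⟨_, h⟩)
  exact congrArg PrimeSpectrum.asIdeal this

/-- The local ring of a fibre is a quotient of the local ring. -/
theorem algEquivAux₂_toFibLoc (p : Ideal A) [p.IsPrime] (Q : Ideal (p.Fiber C)) [Q.IsPrime] (c : C) :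
    Ideal.Fiber.algEquivAux₂ p Q (toFibLoc p Q c) =
      Ideal.Quotient.mk _ (algebraMap C (Localization.AtPrime (fibPoint p Q)) c) := by
  let _ : Algebra C (p.Fiber C) := Algebra.TensorProduct.rightAlgebra
  simp [Ideal.Fiber.algEquivAux₂, toFibLoc]
  rw [show (1 : p.ResidueField) ⊗ₜ[A] c = algebraMap C (p.Fiber C) c from rfl, AlgEquiv.commutes,
    ← IsScalarTower.algebraMap_apply, IsScalarTower.algebraMap_apply C (C ⧸ p.map (algebraMap A C))]
  let SpS := C ⧸ p.map (algebraMap A C)
  let r := fibPoint p Q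
  let q' := Q.comap (Ideal.Fiber.algEquivAux₁ p (S := C)).symm
  have : (q'.under SpS).LiesOver r := Ideal.under_liesOver_of_liesOver SpS q' (Q.under C)
  have : Algebra.algebraMapSubmonoid SpS r.primeCompl = (q'.under SpS).primeCompl :=
    Ideal.algebraMapSubmonoid_primeCompl_of_liesOver_surjective (q'.under SpS) r Ideal.Quotient.mk_surjective
  have : IsLocalization (Algebra.algebraMapSubmonoid SpS r.primeCompl) (Localization.AtPrime q') := by
    convert IsLocalization.isLocalization_isLocalization_atPrime_isLocalization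
      (Algebra.algebraMapSubmonoid SpS (Algebra.algebraMapSubmonoid C p.primeCompl)) (Localization.AtPrime q') q'
  exact IsLocalization.map_eq (S := Localization.AtPrime q') _ _

/-- A surjection from the local ring onto the local ring of the fibre, with kernel generated by `p`. -/
theorem exists_fibre_surjection (p : Ideal A) [p.IsPrime] (Q : Ideal (p.Fiber C)) [Q.IsPrime] :
    ∃ π : Localization.AtPrime (fibPoint p Q) →+* Localization.AtPrime Q, Function.Surjective π ∧
      π.comp (algebraMap C _) = toFibLoc p Q ∧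
      RingHom.ker π = p.map (algebraMap A (Localization.AtPrime (fibPoint p Q))) := by
  let e := (Ideal.Fiber.algEquivAux₂ p Q).toRingEquiv
  refine ⟨e.symm.toRingHom.comp (Ideal.Quotient.mk _), e.symm.surjective.comp Ideal.Quotient.mk_surjective,
    RingHom.ext fun c => e.symm_apply_eq.mpr (algEquivAux₂_toFibLoc p Q c).symm, ?_⟩
  ext x
  rw [RingHom.mem_ker, RingHom.comp_apply]
  rw [show p.map (algebraMap A (Localization.AtPrime (fibPoint p Q))) =
      (p.map (algebraMap A C)).map (algebraMap C (Localization.AtPrime (fibPoint p Q))) by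
    rw [Ideal.map_map, ← IsScalarTower.algebraMap_eq]]
  exact (map_eq_zero_iff _ e.symm.injective).trans Ideal.Quotient.eq_zero_iff_mem

/-- An ideal with flat quotient meets `p C` in `p` times itself. -/
theorem inf_le_mul_of_flat (I : Ideal C) [Module.Flat A (C ⧸ I)] (p : Ideal A) :
    I ⊓ p.map (algebraMap A C) ≤ p.map (algebraMap A C) * I := by
  intro x hx
  have hinj := LinearMap.lTensor_injective_of_exact_of_flat
    ((Ideal.Quotient.mkₐ A I).toLinearMap) Ideal.Quotient.mk_surjective
    ((Submodule.subtype I).restrictScalars A) Subtype.val_injective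
    (fun y => by simp [Ideal.Quotient.eq_zero_iff_mem]) (A ⧸ p)
  have h0 : (1 : A ⧸ p) ⊗ₜ[A] (x : C) = 0 := by
    apply (TensorProduct.quotTensorEquivQuotSMul C p).injective
    rw [LinearEquiv.map_zero, show (1 : A ⧸ p) = Ideal.Quotient.mk p 1 from rfl,
      TensorProduct.quotTensorEquivQuotSMul_mk_tmul, one_smul, Submodule.Quotient.mk_eq_zero,
      Ideal.smul_top_eq_map]
    exact hx.2
  have h1 : (1 : A ⧸ p) ⊗ₜ[A] (⟨x, hx.1⟩ : I) = 0 := hinj (by simpa using h0)
  have h2 := congrArg (TensorProduct.quotTensorEquivQuotSMul I p) h1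
  rw [LinearEquiv.map_zero, show (1 : A ⧸ p) = Ideal.Quotient.mk p 1 from rfl,
    TensorProduct.quotTensorEquivQuotSMul_mk_tmul, one_smul, Submodule.Quotient.mk_eq_zero] at h2
  have h3 := Submodule.mem_map_of_mem (f := (Submodule.subtype I).restrictScalars A) h2
  rw [Submodule.map_smul''] at h3
  change x ∈ p • Submodule.map ((Submodule.subtype I).restrictScalars A) ⊤ at h3
  refine Submodule.smul_induction_on h3 (fun a ha y hy => ?_) fun y z hy hz => add_mem hy hz
  obtain ⟨⟨y, hy'⟩, -, rfl⟩ := Submodule.mem_map.mp hy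
  rw [Algebra.smul_def]
  exact Ideal.mul_mem_mul (Ideal.mem_map_of_mem _ ha) hy'

/-- `H₁`-regular sequences with flat quotient stay `H₁`-regular modulo `p`. -/
theorem isH1Regular_mk_of_flat {R : Type u} [CommRing R] [Algebra A R] {c : ℕ} (f : Fin c → R)
    (hf : CAlgX.IsH1Regular f) [Module.Flat A (R ⧸ Ideal.span (Set.range f))] (p : Ideal A) :
    CAlgX.IsH1Regular (Ideal.Quotient.mk (p.map (algebraMap A R)) ∘ f) := by
  intro v hv
  choose a ha using fun i => Ideal.Quotient.mk_surjective (v i)
  have hmem : ∑ i, a i * f i ∈ p.map (algebraMap A R) * Ideal.span (Set.range f) := by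
    refine inf_le_mul_of_flat _ p ⟨?_, ?_⟩
    · exact sum_mem fun i _ => Ideal.mul_mem_left _ _ (Ideal.subset_span ⟨i, rfl⟩)
    · rw [SetLike.mem_coe, ← Ideal.Quotient.eq_zero_iff_mem, map_sum]
      simpa [ha] using hv
  obtain ⟨b, hb, hsum⟩ := (Submodule.mem_ideal_smul_span_iff_exists_sum _ _ _).mp hmem
  have hsum := (Finsupp.sum_fintype b (fun i c => c • f i) (fun i => zero_smul R _)).symm.trans hsum
  simp only [smul_eq_mul] at hsum
  have hrel := hf (fun i => a i - b i) (by
    simp only [sub_mul, Finset.sum_sub_distrib]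
    exact sub_eq_zero.mpr hsum.symm)
  have hv' : v = Ideal.Quotient.mk (p.map (algebraMap A R)) ∘ (fun i => a i - b i) := by
    funext i
    rw [Function.comp_apply, map_sub, Ideal.Quotient.eq_zero_iff_mem.mpr (hb i), sub_zero, ha]
  rw [hv']
  generalize (fun i => a i - b i) = w at hrel
  induction hrel using Submodule.span_induction with
  | mem w hw =>
    obtain ⟨i, j, rfl⟩ := hw
    refine Submodule.subset_span ⟨i, j, funext fun k => ?_⟩
    simp [Pi.single_apply, apply_ite (Ideal.Quotient.mk (p.map (algebraMap A R)))]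
  | zero =>
    rw [show Ideal.Quotient.mk (p.map (algebraMap A R)) ∘ (0 : Fin c → R) = 0 from funext fun _ => map_zero _]
    exact zero_mem _
  | add x y _ _ hx hy => simpa [Function.comp_def, Pi.add_def] using add_mem hx hy
  | smul r x _ hx =>
    simpa [Function.comp_def, Pi.smul_def] using Submodule.smul_mem _ (Ideal.Quotient.mk (p.map (algebraMap A R)) r) hx

theorem isNoetherianRing_fibLoc [Algebra.FiniteType A C] (p : Ideal A) [p.IsPrime] (Q : Ideal (p.Fiber C))
    [Q.IsPrime] : IsNoetherianRing (Localization.AtPrime Q) :=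
  have : IsNoetherianRing (p.Fiber C) := Algebra.FiniteType.isNoetherianRing p.ResidueField _
  inferInstance

/-- A Koszul-regular ideal with flat quotient restricts to a regular ideal of the fibre. -/
theorem fibReg_of_locReg [Algebra.FiniteType A C] {I : Ideal C} [Module.Flat A (C ⧸ I)] (p : Ideal A)
    [p.IsPrime] (Q : Ideal (p.Fiber C)) [Q.IsPrime] (hI : I ≤ fibPoint p Q) {n : ℕ}
    (h : LocReg I (fibPoint p Q) n) : FibReg I p Q := by
  obtain ⟨π, hπ, hπC, hπk⟩ := exists_fibre_surjection p Q
  obtain ⟨l, hln, hl, hlI⟩ := h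
  let R := Localization.AtPrime (fibPoint p Q)
  let r := fibPoint p Q
  have hspan : Ideal.span (Set.range l.get) = I.map (algebraMap C R) := by
    rw [Set.range_list_get, ← hlI]
  have : Module.Flat A (R ⧸ Ideal.span (Set.range l.get)) := by
    have : Module.Flat (C ⧸ I) ((C ⧸ I) ⊗[C] R) := inferInstance
    have h1 : Module.Flat A ((C ⧸ I) ⊗[C] R) := Module.Flat.trans A (C ⧸ I) _
    exact Module.Flat.of_linearEquiv ((((Submodule.quotEquivOfEq _ _ hspan).trans
      (Algebra.TensorProduct.quotIdealMapEquivTensorQuot R I).toLinearEquiv).restrictScalars A).trans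
        ((TensorProduct.comm C R (C ⧸ I)).restrictScalars A))
  have h1 := isH1Regular_mk_of_flat (A := A) l.get (isH1Regular_of_isKoszulRegularSeq hl) p
  let e : R ⧸ p.map (algebraMap A R) ≃+* Localization.AtPrime Q :=
    (Ideal.quotEquivOfEq hπk.symm).trans (RingHom.quotientKerEquivOfSurjective hπ)
  have he : ∀ x, e (Ideal.Quotient.mk _ x) = π x := fun _ => rfl
  have h2 : CAlgX.IsH1Regular (π ∘ l.get) := by
    have := isH1Regular_map (R := R ⧸ p.map (algebraMap A R)) (B := Localization.AtPrime Q) e.toRingHom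
      (RingHom.Flat.of_bijective e.bijective) h1
    exact this
  have hne : Ideal.span (Set.range (π ∘ l.get)) ≤ maximalIdeal (Localization.AtPrime Q) := by
    rw [Ideal.span_le, Set.range_comp, Set.image_subset_iff]
    intro x hx
    have : IsLocalHom π := IsLocalHom.of_surjective (R := R) (S := Localization.AtPrime Q) π hπ
    have hx' : x ∈ maximalIdeal R := by
      have h3 : x ∈ I.map (algebraMap C R) := hspan ▸ Ideal.subset_span hx
      exact (Localization.AtPrime.map_eq_maximalIdeal (I := r)).le (Ideal.map_mono hI h3)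
    exact fun hu => hx' (isUnit_of_map_unit π x hu)
  have := isNoetherianRing_fibLoc p Q
  have hw := Groth.EGA41Two.isWeaklyRegular_of_isQuasiRegular _ _ (π ∘ l.get) (fun j => by
    rw [IsLocalRing.ringJacobson_eq_maximalIdeal]
    exact hne (Ideal.subset_span ⟨j, rfl⟩)) (Groth.Calg1.isQuasiRegular_of_isH1Regular _ h2)
  refine ⟨n, l.map π, by rw [List.length_map, hln], ?_, ?_⟩
  · rw [show l.map π = List.ofFn (π ∘ l.get) by rw [← List.map_ofFn, List.ofFn_get]]
    exact isKoszulRegularSeq_of_isWeaklyRegular hw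
  · rw [← Ideal.map_ofList, hlI, Ideal.map_map, hπC]

/-- The fibrewise criterion: regularity in the fibre gives regularity nearby. -/
theorem exists_weaklyRegular_of_fibReg [Algebra.FinitePresentation A C] [Module.Flat A C] {I : Ideal C} (hIfg : I.FG)
    [Module.Flat A (C ⧸ I)] (p : Ideal A) [p.IsPrime] (Q : Ideal (p.Fiber C)) [Q.IsPrime]
    (hI : I ≤ fibPoint p Q) (h : FibReg I p Q) : ∃ g ∉ fibPoint p Q, ∃ hs : List C,
      IsWeaklyRegular (Localization.Away g) (hs.map (algebraMap C (Localization.Away g))) ∧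
      Ideal.ofList (hs.map (algebraMap C (Localization.Away g))) = I.map (algebraMap C (Localization.Away g)) := by
  obtain ⟨π, hπ, hπC, hπk⟩ := exists_fibre_surjection p Q
  obtain ⟨n, l, hln, hl, hlI⟩ := h
  let r := fibPoint p Q
  let R := Localization.AtPrime r
  have := isNoetherianRing_fibLoc p Q
  have hne : Ideal.ofList l ≠ ⊤ := by
    rw [hlI, ← hπC, ← Ideal.map_map]
    refine ne_top_of_le_ne_top (maximalIdeal.isMaximal (Localization.AtPrime Q)).ne_top ?_
    have : IsLocalHom π := IsLocalHom.of_surjective (R := R) (S := Localization.AtPrime Q) π hπ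
    exact Ideal.map_le_iff_le_comap.mpr fun x hx hu =>
      (Localization.AtPrime.map_eq_maximalIdeal (I := r)).le (Ideal.map_mono hI hx) (isUnit_of_map_unit π x hu)
  have hlw := isWeaklyRegular_of_isKoszulRegularSeq (mem_maximalIdeal_of_ne_top hne) hl
  -- lifts in `I`
  have hlift : ∀ x ∈ l, ∃ y ∈ I, Associated x (toFibLoc p Q y) := fun x hx => by
    have h1 : x ∈ (I.map (algebraMap C R)).map π := by
      rw [Ideal.map_map, hπC]; exact hlI.le (mem_ofList hx)
    obtain ⟨y, hy, rfl⟩ := (Ideal.mem_map_iff_of_surjective π hπ).mp h1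
    obtain ⟨⟨⟨z, hz⟩, s⟩, he⟩ := (IsLocalization.mem_map_algebraMap_iff r.primeCompl _).mp hy
    exact ⟨z, hz, ((IsLocalization.map_units R s).map π).unit, by
      rw [IsUnit.unit_spec, ← map_mul, he]; exact RingHom.congr_fun hπC z⟩
  choose! y hyI hy using hlift
  let hs : List C := l.map y
  have hass : List.Forall₂ Associated l (hs.map (toFibLoc p Q)) := by
    simp only [hs, List.map_map]
    exact List.forall₂_map_right_iff.mpr (List.forall₂_same.mpr fun x hx => hy x hx)
  have hhs : ∀ c ∈ hs, c ∈ I := fun c hc => by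
    obtain ⟨x, hx, rfl⟩ := List.mem_map.mp hc
    exact hyI x hx
  have hgenQ : (Ideal.ofList hs).map (toFibLoc p Q) = I.map (toFibLoc p Q) := by
    rw [Ideal.map_ofList, ← Groth.FrobLCI.RegularSpread.ofList_eq_of_forall₂ (R := Localization.AtPrime Q) hass, hlI]
  have hregQ := Groth.FrobLCI.RegularSpread.isWeaklyRegular_of_forall₂ (R := Localization.AtPrime Q) hass hlw
  -- the fibre as a quotient of the local ring
  have hr : r.under A = p := fibPoint_under p Q
  have hsreg : IsWeaklyRegular (R ⧸ (r.under A).map (algebraMap A R)) hs := by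
    let e : (R ⧸ (r.under A).map (algebraMap A R)) ≃+* Localization.AtPrime Q :=
      (Ideal.quotEquivOfEq (by rw [hπk, hr])).trans (RingHom.quotientKerEquivOfSurjective hπ)
    have hcongr : List.Forall₂ (fun (c : C) (b : Localization.AtPrime Q) =>
        ∀ x : R ⧸ (r.under A).map (algebraMap A R), e.toAddEquiv (c • x) = b • e.toAddEquiv x)
        hs (hs.map (toFibLoc p Q)) := by
      refine List.forall₂_map_right_iff.mpr (List.forall₂_same.mpr fun c _ x => ?_)
      show e (c • x) = toFibLoc p Q c * e x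
      rw [Algebra.smul_def c x, map_mul]
      congr 1
      show e (Ideal.Quotient.mk _ (algebraMap C R c)) = _
      exact RingHom.congr_fun hπC c
    exact (AddEquiv.isWeaklyRegular_congr (R := C) (S := Localization.AtPrime Q)
      (M := R ⧸ (r.under A).map (algebraMap A R)) (M₂ := Localization.AtPrime Q) hcongr).mpr hregQ
  obtain ⟨g₀, hg₀, hg⟩ := Groth.FlatMor2.FibCrit.exists_nhd_weaklyRegular hs r
    (fun c hc => hI (hhs c hc)) R hsreg
  -- Nakayama
  let IR := I.map (algebraMap C R)
  have : Module.Flat A (R ⧸ IR) := by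
    have : Module.Flat (C ⧸ I) ((C ⧸ I) ⊗[C] R) := inferInstance
    have h1 : Module.Flat A ((C ⧸ I) ⊗[C] R) := Module.Flat.trans A (C ⧸ I) _
    exact Module.Flat.of_linearEquiv ((((Algebra.TensorProduct.quotIdealMapEquivTensorQuot R I).toLinearEquiv).restrictScalars A).trans
        ((TensorProduct.comm C R (C ⧸ I)).restrictScalars A))
  have hle : IR ≤ (Ideal.ofList hs).map (algebraMap C R) := by
    have hpm : p.map (algebraMap A R) ≤ maximalIdeal R :=
      hπk ▸ le_maximalIdeal (RingHom.ker_ne_top π)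
    refine Submodule.le_of_le_smul_of_le_jacobson_bot (hIfg.map _) (maximalIdeal_le_jacobson _) fun x hx => ?_
    have h1 : π x ∈ ((Ideal.ofList hs).map (algebraMap C R)).map π := by
      rw [Ideal.map_map, hπC, hgenQ, ← hπC, ← Ideal.map_map]
      exact Ideal.mem_map_of_mem _ hx
    obtain ⟨z, hz, hzx⟩ := (Ideal.mem_map_iff_of_surjective π hπ).mp h1
    have hzI : z ∈ IR := Ideal.map_mono (show Ideal.ofList hs ≤ I from Ideal.span_le.mpr hhs) hz
    have h2 : x - z ∈ p.map (algebraMap A R) * IR := inf_le_mul_of_flat IR p ⟨sub_mem hx hzI, by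
      rw [SetLike.mem_coe, ← hπk, RingHom.mem_ker, map_sub, hzx, sub_self]⟩
    rw [show x = z + (x - z) by ring]
    exact Submodule.add_mem_sup hz (Ideal.mul_mono hpm le_rfl h2)
  obtain ⟨g₁, hg₁, hg₁I⟩ := exists_away_generators hIfg r hs hle
  let g := g₀ * g₁
  have hgr : g ∉ r := fun hm => (Ideal.IsPrime.mem_or_mem (inferInstance : r.IsPrime) hm).elim hg₀ hg₁
  refine ⟨g, hgr, hs, ?_, ?_⟩
  · rw [isWeaklyRegular_map_algebraMap_iff]
    exact ((AlgebraTensorModule.rid A C (Localization.Away g)).isWeaklyRegular_congr hs).mp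
      ((hg g (dvd_mul_right g₀ g₁) (Localization.Away g)).2 A)
  · rw [← Ideal.map_ofList]
    refine le_antisymm (Ideal.map_mono (Ideal.span_le.mpr hhs)) (Ideal.map_le_iff_le_comap.mpr fun x hx => ?_)
    rw [Ideal.mem_comap, ← Ideal.unit_mul_mem_iff_mem _ (isUnit_of_dvd_unit (map_dvd _ (dvd_mul_left g₁ g₀))
      (IsLocalization.Away.algebraMap_isUnit (S := Localization.Away g) g)), ← map_mul]
    exact Ideal.mem_map_of_mem _ (hg₁I x hx)

/-- The fibrewise criterion: regularity in the fibre gives Koszul regularity nearby. -/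
theorem nearReg_of_fibReg [Algebra.FinitePresentation A C] [Module.Flat A C] {I : Ideal C} (hIfg : I.FG)
    [Module.Flat A (C ⧸ I)] (p : Ideal A) [p.IsPrime] (Q : Ideal (p.Fiber C)) [Q.IsPrime]
    (hI : I ≤ fibPoint p Q) (h : FibReg I p Q) : NearReg I (fibPoint p Q) := by
  obtain ⟨g, hg, hs, hw, hI'⟩ := exists_weaklyRegular_of_fibReg hIfg p Q hI h
  exact ⟨g, hg, _, _, rfl, isKoszulRegularSeq_of_isWeaklyRegular hw, hI'⟩

end Groth.KoszulLCI
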