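import Groth.Agent.KoszulLCI.Fibrewise
import Mathlib.RingTheory.Flat.Stability
import Mathlib.RingTheory.LocalRing.ResidueField.Ideal
import Mathlib.RingTheory.FinitePresentation
import Mathlib.RingTheory.IsTensorProduct

/-!
# Base change of the fibrewise criterion for Koszul-regular ideals
-/

set_option autoImplicit false

universe u

open TensorProduct IsLocalRing

namespace Groth.KoszulLCI

variable {A A' C C' : Type u} [CommRing A] [CommRing A'] [CommRing C] [CommRing C'] [Algebra A A']
  [Algebra A C] [Algebra A' C'] [Algebra C C'] [Algebra A C'] [IsScalarTower A A' C'] [IsScalarTower A C C']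
  [Algebra.IsPushout A A' C C']

/-- The flat map between the fibres of a base change. -/
theorem exists_fibreMap (p : Ideal A) [p.IsPrime] (p' : Ideal A') [p'.IsPrime]
    (h : p = p'.comap (algebraMap A A')) :
    ∃ ψ : p.Fiber C →+* p'.Fiber C', ψ.Flat ∧
      ∀ c : C, ψ ((1 : p.ResidueField) ⊗ₜ[A] c) = (1 : p'.ResidueField) ⊗ₜ[A'] algebraMap C C' c := by
  let κ : p.ResidueField →+* p'.ResidueField := Ideal.ResidueField.map p p' (algebraMap A A') h
  let _ : Algebra p.ResidueField p'.ResidueField := κ.toAlgebra
  let k := p.ResidueField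
  let k' := p'.ResidueField
  let F := p.Fiber C
  let F' := p'.Fiber C'
  have : IsScalarTower A k k' := .of_algebraMap_eq fun a => by
    show algebraMap A p'.ResidueField a = κ (algebraMap A p.ResidueField a)
    simp [κ, Ideal.ResidueField.map_algebraMap, ← IsScalarTower.algebraMap_apply]
  let _ : Algebra C' F' := Algebra.TensorProduct.rightAlgebra
  let _ : Algebra C F := Algebra.TensorProduct.rightAlgebra
  let _ : Algebra C F' := ((algebraMap C' F').comp (algebraMap C C')).toAlgebra
  have : IsScalarTower C C' F' := .of_algebraMap_eq fun _ => rfl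
  have : IsScalarTower A k' F' := inferInstance
  have : IsScalarTower A A' F' := .of_algebraMap_eq fun a => by
    rw [IsScalarTower.algebraMap_apply A k' F', IsScalarTower.algebraMap_apply A' k' F',
      ← IsScalarTower.algebraMap_apply A A' k']
  have : IsScalarTower A' C' F' := .of_algebraMap_eq fun a =>
    ((Algebra.TensorProduct.includeRight : C' →ₐ[A'] F').commutes a).symm
  have : IsScalarTower A C' F' := .of_algebraMap_eq fun a => by
    rw [IsScalarTower.algebraMap_apply A A' F', IsScalarTower.algebraMap_apply A' C' F',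
      ← IsScalarTower.algebraMap_apply A A' C']
  have : IsScalarTower A C F' := .of_algebraMap_eq fun a => by
    rw [IsScalarTower.algebraMap_apply C C' F', ← IsScalarTower.algebraMap_apply A C C',
      ← IsScalarTower.algebraMap_apply A C' F']
  let f : k →ₐ[A] F' := (IsScalarTower.toAlgHom A k' F').comp (IsScalarTower.toAlgHom A k k')
  let ψ : F →ₐ[A] F' := Algebra.TensorProduct.lift f (IsScalarTower.toAlgHom A C F') fun _ _ => .all _ _
  have hψ : ∀ c : C, ψ ((1 : k) ⊗ₜ[A] c) = algebraMap C F' c := fun c => by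
    refine (Algebra.TensorProduct.lift_tmul _ _ _ _ _).trans ?_
    rw [map_one f, one_mul]
    rfl
  let _ : Algebra F F' := ψ.toRingHom.toAlgebra
  have : IsScalarTower k k' F' := inferInstance
  have : IsScalarTower A F F' := .of_algebraMap_eq fun a => (ψ.commutes a).symm
  have : IsScalarTower C F F' := .of_algebraMap_eq fun c => (hψ c).symm
  have : IsScalarTower k F F' := .of_algebraMap_eq fun x => by
    show algebraMap k' F' (algebraMap k k' x) = ψ (x ⊗ₜ[A] (1 : C))
    refine Eq.symm ((Algebra.TensorProduct.lift_tmul _ _ _ _ _).trans ?_)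
    rw [map_one, mul_one]
    rfl
  have : IsScalarTower A C F := .of_algebraMap_eq fun a =>
    ((Algebra.TensorProduct.includeRight : C →ₐ[A] F).commutes a).symm
  have h1 : Algebra.IsPushout A' k' C' F' := inferInstance
  have h2 : Algebra.IsPushout A k' C F' :=
    (Algebra.IsPushout.comp_iff (R := A) (S := A') (T := k') (R' := C) (S' := C') (T' := F')).mpr h1
  have : Algebra.IsPushout A k C F := inferInstance
  have h3 : Algebra.IsPushout k k' F F' :=
    (Algebra.IsPushout.comp_iff (R := A) (S := k) (T := k') (R' := C) (S' := F) (T' := F')).mp h2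
  exact ⟨ψ.toRingHom, Module.Flat.isBaseChange k F k' F' h3.symm.out, hψ⟩

theorem finitePresentation_of_isPushout [Algebra.FinitePresentation A C] :
    Algebra.FinitePresentation A' C' :=
  .equiv (Algebra.IsPushout.equiv A A' C C')

theorem flat_of_isPushout [Module.Flat A C] : Module.Flat A' C' :=
  Module.Flat.isBaseChange A A' C C' (Algebra.IsPushout.out (R := A) (S := A') (R' := C) (S' := C'))

theorem flat_quotient_of_isPushout (I : Ideal C) [Module.Flat A (C ⧸ I)] :
    Module.Flat A' (C' ⧸ I.map (algebraMap C C')) :=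
  Module.Flat.of_linearEquiv (((Algebra.TensorProduct.quotIdealMapEquivTensorQuot C' I).toLinearEquiv.restrictScalars A').trans
    (Algebra.IsPushout.cancelBaseChange A A' C C' (C ⧸ I)))

variable {I : Ideal C} (r' : Ideal C') [r'.IsPrime]

theorem locReg_congr {p q : Ideal C} [p.IsPrime] [q.IsPrime] {n : ℕ} {I : Ideal C} (h : p = q)
    (hp : LocReg I p n) : LocReg I q n := by
  subst h
  exact hp

theorem genReg_map_localRingHom_iff {F F' : Type u} [CommRing F] [CommRing F'] [IsNoetherianRing F]
    (ψ : F →+* F') (hψ : ψ.Flat) (Q' : Ideal F') [Q'.IsPrime] (J : Ideal (Localization.AtPrime (Q'.comap ψ)))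
    (hne : J.map (Localization.localRingHom (Q'.comap ψ) Q' ψ rfl) ≠ ⊤) :
    (∃ n, GenReg J n) ↔ ∃ n, GenReg (J.map (Localization.localRingHom (Q'.comap ψ) Q' ψ rfl)) n := by
  let _ := ψ.toAlgebra
  have : Module.Flat F F' := hψ
  have : Module.Flat F (Localization.AtPrime Q') := Module.Flat.trans F F' _
  let θ : Localization.AtPrime (Q'.comap ψ) →+* Localization.AtPrime Q' :=
    Localization.localRingHom (Q'.comap ψ) Q' ψ rfl
  have hθ : RingHom.Flat (R := Localization.AtPrime (Q'.comap ψ)) (S := Localization.AtPrime Q') θ :=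
    flat_of_isLocalization (A := F) (R := Localization.AtPrime (Q'.comap ψ)) (S := Localization.AtPrime Q')
      (Q'.comap ψ).primeCompl θ (RingHom.ext fun x => Localization.localRingHom_to_map (Q'.comap ψ) Q' ψ rfl x)
  refine ⟨fun ⟨n, hn⟩ => ⟨n, GenReg.map (R := Localization.AtPrime (Q'.comap ψ))
    (S := Localization.AtPrime Q') hn θ hθ⟩, fun ⟨n, hn⟩ => ⟨n, ?_⟩⟩
  let _ := θ.toAlgebra
  have : Module.Flat (Localization.AtPrime (Q'.comap ψ)) (Localization.AtPrime Q') := hθ
  have : IsLocalHom (algebraMap (Localization.AtPrime (Q'.comap ψ)) (Localization.AtPrime Q')) :=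
    Localization.isLocalHom_localRingHom (Q'.comap ψ) Q' ψ rfl
  have : Module.FaithfullyFlat (Localization.AtPrime (Q'.comap ψ)) (Localization.AtPrime Q') :=
    Module.FaithfullyFlat.of_flat_of_isLocalHom
  exact GenReg.descend (S := Localization.AtPrime Q') (IsNoetherian.noetherian J) hn hne

/-- Over a point of the base change, the two fibrewise conditions agree. -/
theorem exists_fibReg_iff [Algebra.FiniteType A C] (hI : I.map (algebraMap C C') ≤ r') :
    ∃ (Q : Ideal (((r'.comap (algebraMap C C')).under A).Fiber C)) (_ : Q.IsPrime)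
      (Q' : Ideal ((r'.under A').Fiber C')) (_ : Q'.IsPrime),
      fibPoint _ Q = r'.comap (algebraMap C C') ∧ fibPoint _ Q' = r' ∧
        (FibReg I _ Q ↔ FibReg (I.map (algebraMap C C')) _ Q') := by
  let r := r'.comap (algebraMap C C')
  have h : r.under A = (r'.under A').comap (algebraMap A A') := by
    show Ideal.comap _ (r'.comap _) = Ideal.comap _ (r'.comap _)
    rw [Ideal.comap_comap, Ideal.comap_comap, ← IsScalarTower.algebraMap_eq A C C',
      ← IsScalarTower.algebraMap_eq A A' C']
  obtain ⟨ψ, hψ, hψc⟩ := exists_fibreMap (C := C) (C' := C') (r.under A) (r'.under A') h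
  obtain ⟨Q', _, hQ'⟩ := exists_fibPoint (A := A') r'
  let Q := Q'.comap ψ
  have hQ : fibPoint _ Q = r := by
    ext c
    show ψ ((1 : (r.under A).ResidueField) ⊗ₜ[A] c) ∈ Q' ↔ algebraMap C C' c ∈ r'
    rw [hψc]
    exact (SetLike.ext_iff.mp hQ' (algebraMap C C' c))
  have : IsNoetherianRing ((r.under A).Fiber C) :=
    Algebra.FiniteType.isNoetherianRing (r.under A).ResidueField _
  have hmap : (I.map (toFibLoc (r.under A) Q)).map (Localization.localRingHom Q Q' ψ rfl) =
      (I.map (algebraMap C C')).map (toFibLoc _ Q') := by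
    rw [Ideal.map_map, Ideal.map_map]
    refine congrArg (fun φ => Ideal.map φ I) (RingHom.ext fun c => ?_)
    exact (Localization.localRingHom_to_map Q Q' ψ rfl _).trans (congrArg _ (hψc c))
  refine ⟨Q, inferInstance, Q', ‹_›, hQ, hQ', ?_⟩
  refine (genReg_map_localRingHom_iff ψ hψ Q' _ ?_).trans (hmap ▸ Iff.rfl)
  rw [hmap]
  refine ne_top_of_le_ne_top (maximalIdeal.isMaximal (Localization.AtPrime Q')).ne_top ?_
  refine Ideal.map_le_iff_le_comap.mpr fun x hx => ?_
  have h1 : (Algebra.TensorProduct.includeRight : C' →ₐ[A'] _) x ∈ Q' := (SetLike.ext_iff.mp hQ' x).mpr (hI hx)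
  exact (IsLocalization.AtPrime.to_map_mem_maximal_iff (Localization.AtPrime Q') Q' _).mpr h1

variable (A A')
include A A'

/-- Koszul regularity ascends along base change. -/
theorem nearReg_baseChange [Algebra.FinitePresentation A C] [Module.Flat A C] (hIfg : I.FG)
    [Module.Flat A (C ⧸ I)] (hI : I.map (algebraMap C C') ≤ r') {n : ℕ}
    (h : LocReg I (r'.comap (algebraMap C C')) n) : NearReg (I.map (algebraMap C C')) r' := by
  have := finitePresentation_of_isPushout (A := A) (A' := A') (C := C) (C' := C')
  have := flat_of_isPushout (A := A) (A' := A') (C := C) (C' := C')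
  have := flat_quotient_of_isPushout (A := A) (A' := A') (C' := C') I
  obtain ⟨Q, _, Q', _, hQ, hQ', hiff⟩ := exists_fibReg_iff (A := A) (A' := A') r' hI
  have := nearReg_of_fibReg (hIfg.map (algebraMap C C')) _ Q' (hI.trans hQ'.ge) (hiff.mp
    (fibReg_of_locReg _ Q ((Ideal.map_le_iff_le_comap.mp hI).trans hQ.ge) (n := n) (locReg_congr hQ.symm h)))
  rwa [hQ'] at this

/-- Koszul regularity descends along base change. -/
theorem nearReg_of_baseChange [Algebra.FinitePresentation A C] [Module.Flat A C] (hIfg : I.FG)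
    [Module.Flat A (C ⧸ I)] (hI : I.map (algebraMap C C') ≤ r') {n : ℕ}
    (h : LocReg (I.map (algebraMap C C')) r' n) : NearReg I (r'.comap (algebraMap C C')) := by
  have := finitePresentation_of_isPushout (A := A) (A' := A') (C := C) (C' := C')
  have := flat_quotient_of_isPushout (A := A) (A' := A') (C' := C') I
  obtain ⟨Q, _, Q', _, hQ, hQ', hiff⟩ := exists_fibReg_iff (A := A) (A' := A') r' hI
  have := nearReg_of_fibReg hIfg _ Q ((Ideal.map_le_iff_le_comap.mp hI).trans hQ.ge) (hiff.mpr
    (fibReg_of_locReg _ Q' (hI.trans hQ'.ge) (n := n) (locReg_congr hQ'.symm h)))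
  rwa [hQ] at this

end Groth.KoszulLCI
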