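import Groth.Agent.KoszulLCI.FibrewiseScheme
import Groth.Agent.KoszulLCI.Kinds
import Mathlib.AlgebraicGeometry.Fiber
import Mathlib.AlgebraicGeometry.Morphisms.FiniteType

/-!
# Immersions of flat schemes which are regular on the fibres
-/

set_option autoImplicit false

universe u

open CategoryTheory CategoryTheory.Limits AlgebraicGeometry

namespace Groth.KoszulLCI

variable {X Y S : Scheme.{u}}

theorem morLCI_iff_inLCILocus (f : X ⟶ Y) : MorLCI f ↔ ∀ x, InLCILocus f x := by
  rw [morLCI_iff_exists]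
  exact ⟨fun h x => let ⟨V, U, hx, e, h⟩ := h x; ⟨U.1, V.1, U.2, V.2, e, hx, h⟩,
    fun h x => let ⟨U, V, hU, hV, e, hx, h⟩ := h x; ⟨⟨V, hV⟩, ⟨U, hU⟩, hx, e, h⟩⟩

theorem isLocallyNoetherian_fiber (g : X ⟶ S) [LocallyOfFiniteType g] (s : S) :
    IsLocallyNoetherian (g.fiber s) :=
  have : LocallyOfFiniteType (g.fiberToSpecResidueField s) := MorphismProperty.pullback_snd _ _ inferInstance
  LocallyOfFiniteType.isLocallyNoetherian (g.fiberToSpecResidueField s)

/-- A closed immersion between flat schemes of finite presentation over `S` is a local complete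
intersection at a point if it is at the point of the fibre. -/
theorem inLCILocus_iff_fiber (f : X ⟶ Y) (g : Y ⟶ S) [Flat (f ≫ g)] [LocallyOfFinitePresentation (f ≫ g)]
    [Flat g] [LocallyOfFinitePresentation g] (s : S) {X' : Scheme.{u}} (gX : X' ⟶ X) (f' : X' ⟶ g.fiber s)
    (hX : IsPullback gX f' f (g.fiberι s)) (x' : X') :
    InLCILocus f' x' ↔ InLCILocus f (gX x') :=
  inLCILocus_baseChange f g (S.fromSpecResidueField s) (g.fiberι s) (g.fiberToSpecResidueField s) gX f'
    (IsPullback.of_hasPullback g (S.fromSpecResidueField s))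
    (hX.paste_vert (IsPullback.of_hasPullback g (S.fromSpecResidueField s))) hX.w x'

theorem morLCI_of_forall_fiber (f : X ⟶ Y) (g : Y ⟶ S) [Flat (f ≫ g)] [LocallyOfFinitePresentation (f ≫ g)]
    [Flat g] [LocallyOfFinitePresentation g]
    (h : ∀ s : S, MorLCI (pullback.snd f (g.fiberι s))) : MorLCI f := by
  rw [morLCI_iff_inLCILocus]
  intro x
  obtain ⟨y', hy'⟩ : f x ∈ Set.range (g.fiberι (g (f x))) := by
    rw [Scheme.Hom.range_fiberι]; rfl
  obtain ⟨x', hx', -⟩ := Scheme.exists_preimage_of_isPullback (IsPullback.of_hasPullback f (g.fiberι (g (f x)))) x y' hy'.symm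
  exact hx' ▸ (inLCILocus_iff_fiber f g _ _ _ (IsPullback.of_hasPullback _ _) x').mp
    ((morLCI_iff_inLCILocus _).mp (h _) x')

end Groth.KoszulLCI
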