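import Groth.Agent.KoszulLCI.FibrewiseBC
import Groth.Agent.KoszulLCI.SmoothCancel
import Mathlib.RingTheory.Localization.Algebra
import Mathlib.RingTheory.Smooth.Basic
import Mathlib.RingTheory.TensorProduct.MvPolynomial

/-!
# The locus where a map of flat finitely presented algebras is a local complete intersection
-/

set_option autoImplicit false

universe u

open TensorProduct

namespace Groth.KoszulLCI

/-- `B₀ → B` is a local complete intersection near the prime `q`. -/
def NearLCI (B₀ : Type u) {B : Type u} [CommRing B₀] [CommRing B] [Algebra B₀ B] (q : Ideal B) : Prop :=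
  ∃ b ∉ q, LCI.IsLCI B₀ (Localization.Away b)

theorem ker_algebraMap_of_isPushout {C C' B B' : Type u} [CommRing C] [CommRing C'] [CommRing B] [CommRing B']
    [Algebra C C'] [Algebra C B] [Algebra C' B'] [Algebra B B'] [Algebra C B'] [IsScalarTower C C' B']
    [IsScalarTower C B B'] [Algebra.IsPushout C C' B B'] (hs : Function.Surjective (algebraMap C B)) :
    Function.Surjective (algebraMap C' B') ∧
      RingHom.ker (algebraMap C' B') = (RingHom.ker (algebraMap C B)).map (algebraMap C C') := by
  let I := RingHom.ker (algebraMap C B)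
  let e₁ : (C ⧸ I) ≃ₐ[C] B := Ideal.quotientKerAlgEquivOfSurjective (f := Algebra.ofId C B) hs
  let e : (C' ⧸ I.map (algebraMap C C')) ≃ₐ[C'] B' :=
    (Algebra.TensorProduct.quotIdealMapEquivTensorQuot C' I).trans
      ((Algebra.TensorProduct.congr AlgEquiv.refl e₁).trans (Algebra.IsPushout.equiv C C' B B'))
  have he : ∀ x, algebraMap C' B' x = e (Ideal.Quotient.mk _ x) := fun x => (e.commutes x).symm
  refine ⟨fun y => ?_, ?_⟩
  · obtain ⟨z, rfl⟩ := e.surjective y
    obtain ⟨x, rfl⟩ := Ideal.Quotient.mk_surjective z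
    exact ⟨x, he x⟩
  · ext x
    rw [RingHom.mem_ker, he, map_eq_zero_iff _ e.injective, Ideal.Quotient.eq_zero_iff_mem]

variable {B₀ B C : Type u} [CommRing B₀] [CommRing B] [Algebra B₀ B]

theorem locReg_of_nearLCI {n : ℕ} (α : MvPolynomial (Fin n) B₀ →ₐ[B₀] B) (hα : Function.Surjective α)
    (q : Ideal B) [q.IsPrime] (h : NearLCI B₀ q) :
    ∃ m, LocReg (RingHom.ker α.toRingHom) (q.comap α.toRingHom) m := by
  obtain ⟨b, hb, hlci⟩ := h
  obtain ⟨G, rfl⟩ := hα b
  let P := MvPolynomial (Fin n) B₀
  let PG := Localization.Away G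
  let I := RingHom.ker α.toRingHom
  let r := q.comap α.toRingHom
  have hK := isKoszulRegularIdeal_map_away α hα G hlci
  have hd : Disjoint (Submonoid.powers G : Set P) r := by
    rw [Set.disjoint_left]
    rintro _ ⟨j, rfl⟩ hj
    exact hb (Ideal.IsPrime.mem_of_pow_mem (inferInstance : r.IsPrime) j hj)
  let rG := r.map (algebraMap P PG)
  have : rG.IsPrime := IsLocalization.isPrime_of_isPrime_disjoint (Submonoid.powers G) PG r inferInstance hd
  have hrG : rG.comap (algebraMap P PG) = r :=
    IsLocalization.comap_map_of_isPrime_disjoint (Submonoid.powers G) PG inferInstance hd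
  have hIr : I ≤ r := fun x hx => by
    show α.toRingHom x ∈ q
    rw [RingHom.mem_ker.mp hx]
    exact q.zero_mem
  obtain ⟨g, hg, m, hm⟩ := exists_locReg hK rG (Ideal.map_mono hIr)
  have h1 := locReg_of_away hm rG hg
  have : IsLocalization.AtPrime (Localization.AtPrime rG) r := by
    have := IsLocalization.isLocalization_isLocalization_atPrime_isLocalization (Submonoid.powers G)
      (Localization.AtPrime rG) rG
    convert this
    exact hrG.symm
  let e := IsLocalization.algEquiv r.primeCompl (Localization.AtPrime rG) (Localization.AtPrime r)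
  have he : e.toAlgHom.toRingHom.comp (algebraMap P _) = algebraMap P _ := RingHom.ext fun a => e.commutes a
  have h2 := h1.map e.toAlgHom.toRingHom (RingHom.Flat.of_bijective e.bijective)
  rw [Ideal.map_map, Ideal.map_map, RingHom.comp_assoc, ← IsScalarTower.algebraMap_eq P PG (Localization.AtPrime rG), he] at h2
  exact ⟨m, h2⟩

theorem nearLCI_of_nearReg [CommRing C] [Algebra B₀ C] [Algebra.Smooth B₀ C] (α : C →ₐ[B₀] B)
    (hα : Function.Surjective α) (q : Ideal B) [q.IsPrime]
    (h : NearReg (RingHom.ker α.toRingHom) (q.comap α.toRingHom)) : NearLCI B₀ q := by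
  obtain ⟨g, hg, m, l, -, hl, hlI⟩ := h
  refine ⟨α g, hg, ?_⟩
  let Cg := Localization.Away g
  let Bb := Localization.Away (α g)
  have hM : (Submonoid.powers g).map (α : C →+* B) = Submonoid.powers (α g) := Submonoid.map_powers _ _
  have : IsLocalization ((Submonoid.powers g).map (α : C →+* B)) Bb := by
    rw [hM]; infer_instance
  have hle : Submonoid.powers g ≤ (Submonoid.powers (α g)).comap (α : C →+* B) :=
    Submonoid.map_le_iff_le_comap.mp hM.le
  let ψ : Cg →ₐ[B₀] Bb :=
    { IsLocalization.map (S := Cg) Bb (α : C →+* B) hle with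
      commutes' := fun x => by
        show IsLocalization.map (S := Cg) Bb (α : C →+* B) hle (algebraMap B₀ Cg x) = _
        rw [IsScalarTower.algebraMap_apply B₀ C Cg, IsLocalization.map_eq,
          IsScalarTower.algebraMap_apply B₀ B Bb]
        exact congrArg _ (α.commutes x) }
  let _ := ψ.toRingHom.toAlgebra
  have : IsScalarTower B₀ Cg Bb := .of_algebraMap_eq fun x => (ψ.commutes x).symm
  refine isLCI_trans (B := Cg) (isLCI_trans (B := C) (isLCI_of_smooth C) (isLCI_away g)) ?_
  refine isLCI_of_surjective (A := Cg) (B := Bb) ?_ ?_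
  · exact IsLocalization.map_surjective_of_surjective (M := Submonoid.powers g) (S := Cg) (Q := Bb)
      (g := (α : C →+* B)) hα
  · have hk : RingHom.ker ψ.toRingHom = (RingHom.ker α.toRingHom).map (algebraMap C Cg) :=
      IsLocalization.ker_map (S := Cg) Bb (α : C →+* B) hM
    rw [show RingHom.ker (algebraMap Cg Bb) = RingHom.ker ψ.toRingHom from rfl, hk, ← hlI]
    exact isKoszulRegularIdeal_ofList hl

attribute [local instance] MvPolynomial.algebraMvPolynomial

/-- The fibrewise criterion makes the locus of local complete intersection compatible with base change. -/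
theorem nearLCI_baseChange_iff (A : Type u) {A' B₀' B' : Type u} [CommRing A] [CommRing A'] [CommRing B₀'] [CommRing B']
    [Algebra A B₀] [Algebra A B] [IsScalarTower A B₀ B]
    [Algebra A' B₀'] [Algebra A' B'] [Algebra B₀' B'] [IsScalarTower A' B₀' B']
    [Algebra A A'] [Algebra B₀ B₀'] [Algebra B B'] [Algebra A B₀'] [Algebra A B'] [Algebra B₀ B']
    [IsScalarTower A A' B₀'] [IsScalarTower A B₀ B₀'] [IsScalarTower A A' B'] [IsScalarTower A B B']
    [IsScalarTower B₀ B B'] [IsScalarTower B₀ B₀' B']
    [Algebra.IsPushout A A' B₀ B₀'] [Algebra.IsPushout A A' B B']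
    [Algebra.FinitePresentation A B₀] [Module.Flat A B₀] [Algebra.FinitePresentation A B] [Module.Flat A B]
    (q' : Ideal B') [q'.IsPrime] :
    NearLCI B₀ (q'.comap (algebraMap B B')) ↔ NearLCI B₀' q' := by
  have : Algebra.FiniteType B₀ B := Algebra.FiniteType.of_restrictScalars_finiteType A B₀ B
  obtain ⟨n, α, hα⟩ := Algebra.FiniteType.iff_quotient_mvPolynomial''.mp this
  let C := MvPolynomial (Fin n) B₀
  let C' := MvPolynomial (Fin n) B₀'
  let _ : Algebra C B := α.toRingHom.toAlgebra
  have : IsScalarTower B₀ C B := .of_algebraMap_eq fun x => (α.commutes x).symm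
  let α' : C' →ₐ[B₀'] B' := MvPolynomial.aeval fun i => algebraMap B B' (α (MvPolynomial.X i))
  let _ : Algebra C' B' := α'.toRingHom.toAlgebra
  have : IsScalarTower B₀' C' B' := .of_algebraMap_eq fun x => (α'.commutes x).symm
  let _ : Algebra C B' := ((algebraMap B B').comp α.toRingHom).toAlgebra
  have : IsScalarTower C B B' := .of_algebraMap_eq fun _ => rfl
  have hcomm : α'.toRingHom.comp (algebraMap C C') = (algebraMap B B').comp α.toRingHom := by
    refine MvPolynomial.ringHom_ext (fun a => ?_) fun i => ?_
    · show α' (MvPolynomial.map (algebraMap B₀ B₀') (MvPolynomial.C a)) = algebraMap B B' (α (MvPolynomial.C a))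
      rw [MvPolynomial.map_C, show α (MvPolynomial.C a) = algebraMap B₀ B a from α.commutes a,
        show α' (MvPolynomial.C (algebraMap B₀ B₀' a)) = algebraMap B₀' B' (algebraMap B₀ B₀' a) from α'.commutes _,
        ← IsScalarTower.algebraMap_apply, ← IsScalarTower.algebraMap_apply]
    · show α' (MvPolynomial.map (algebraMap B₀ B₀') (MvPolynomial.X i)) = _
      rw [MvPolynomial.map_X]
      exact MvPolynomial.aeval_X _ i
  have : IsScalarTower C C' B' := .of_algebraMap_eq' hcomm.symm
  have : IsScalarTower B₀ C C' := .of_algebraMap_eq fun x =>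
    (MvPolynomial.map_C (algebraMap B₀ B₀') x).symm
  have : IsScalarTower B₀ C B' := .of_algebraMap_eq fun x => by
    rw [IsScalarTower.algebraMap_apply B₀ B B', IsScalarTower.algebraMap_apply B₀ C B,
      ← IsScalarTower.algebraMap_apply C B B']
  have : IsScalarTower B₀ C' B' := .of_algebraMap_eq fun x => by
    rw [IsScalarTower.algebraMap_apply B₀ B₀' B', IsScalarTower.algebraMap_apply B₀' C' B',
      ← IsScalarTower.algebraMap_apply B₀ B₀' C']
  have : IsScalarTower A C C' := .of_algebraMap_eq fun x => by
    rw [IsScalarTower.algebraMap_apply A B₀ C, ← IsScalarTower.algebraMap_apply B₀ C C',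
      ← IsScalarTower.algebraMap_apply A B₀ C']
  have : IsScalarTower A B₀' B' := .of_algebraMap_eq fun x => by
    rw [IsScalarTower.algebraMap_apply A A' B', IsScalarTower.algebraMap_apply A' B₀' B',
      ← IsScalarTower.algebraMap_apply A A' B₀']
  have := (inferInstance : Algebra.IsPushout A A' B₀ B₀').symm
  -- the pushouts
  have hB : Algebra.IsPushout B₀ B B₀' B' :=
    (Algebra.IsPushout.comp_iff (R := A) (S := B₀) (T := B) (R' := A') (S' := B₀') (T' := B')).mp
      (inferInstance : Algebra.IsPushout A A' B B').symm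
  have hC : Algebra.IsPushout B₀ C B₀' C' := inferInstance
  have hCB : Algebra.IsPushout C B C' B' :=
    (Algebra.IsPushout.comp_iff (R := B₀) (S := C) (T := B) (R' := B₀') (S' := C') (T' := B')).mp hB
  have hCA : Algebra.IsPushout A C A' C' :=
    (Algebra.IsPushout.comp_iff (R := A) (S := B₀) (T := C) (R' := A') (S' := B₀') (T' := C')).mpr hC
  have := hCA.symm
  have := hCB.symm
  obtain ⟨hα's, hker⟩ := ker_algebraMap_of_isPushout (C := C) (C' := C') (B := B) (B' := B') hα
  let I := RingHom.ker α.toRingHom
  change RingHom.ker α'.toRingHom = I.map (algebraMap C C') at hker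
  -- hypotheses of the criterion
  have : Algebra.FinitePresentation A C := Algebra.FinitePresentation.trans A B₀ C
  have : Module.Flat A C := Module.Flat.trans A B₀ C
  have hIfg : I.FG := Algebra.FinitePresentation.ker_fG_of_surjective (α.restrictScalars A) hα
  have : Module.Flat A (C ⧸ I) := Module.Flat.of_linearEquiv
    ((Ideal.quotientKerAlgEquivOfSurjective hα).restrictScalars A).toLinearEquiv
  let r' := q'.comap α'.toRingHom
  have hr : (q'.comap (algebraMap B B')).comap α.toRingHom = r'.comap (algebraMap C C') := by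
    rw [Ideal.comap_comap, ← hcomm, ← Ideal.comap_comap]
  have hI : I.map (algebraMap C C') ≤ r' := hker ▸ Ideal.comap_mono bot_le
  have : Algebra.Smooth B₀ C := ⟨inferInstance, inferInstance⟩
  have : Algebra.Smooth B₀' C' := ⟨inferInstance, inferInstance⟩
  constructor
  · intro h
    obtain ⟨m, hm⟩ := locReg_of_nearLCI α hα (q'.comap (algebraMap B B')) h
    have h1 := nearReg_baseChange A A' r' hIfg hI (locReg_congr hr hm)
    rw [← hker] at h1
    exact nearLCI_of_nearReg α' hα's q' h1
  · intro h
    obtain ⟨m, hm⟩ := locReg_of_nearLCI α' hα's q' h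
    have h1 := nearReg_of_baseChange A A' r' hIfg hI (hker ▸ hm)
    rw [← hr] at h1
    exact nearLCI_of_nearReg α hα _ h1

end Groth.KoszulLCI
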