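import Groth.Agent.KoszulLCI.FibrewiseImmersion
import Groth.Agent.S9272

/-!
# Regular immersions which are flat over a base
-/

set_option autoImplicit false

universe u

open CategoryTheory CategoryTheory.Limits AlgebraicGeometry TensorProduct RingTheory.Sequence

namespace Groth.KoszulLCI

section Algebra

variable {A C : Type u} [CommRing A] [CommRing C] [Algebra A C]

/-- A quasi-regular sequence with flat quotient restricts to a regular ideal of the fibre. -/
theorem fibReg_of_quasi [Algebra.FiniteType A C] {n : ℕ} (f : Fin n → C) (hf : CAlgX.IsQuasiRegular f)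
    [Module.Flat A (C ⧸ Ideal.span (Set.range f))] (p : Ideal A) [p.IsPrime] (Q : Ideal (p.Fiber C)) [Q.IsPrime]
    (hI : Ideal.span (Set.range f) ≤ fibPoint p Q) : FibReg (Ideal.span (Set.range f)) p Q := by
  let f' : Fin n → p.Fiber C := fun i => (1 : p.ResidueField) ⊗ₜ[A] f i
  have h1 : CAlgX.IsQuasiRegular f' := Groth.Agent.S9272.result A C p.ResidueField n f inferInstance hf
  have h2 := isQuasiRegular_map (R := p.Fiber C) (B := Localization.AtPrime Q) (algebraMap _ _)
    (RingHom.flat_algebraMap_iff.mpr inferInstance) h1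
  have := isNoetherianRing_fibLoc p Q
  have hw := Groth.EGA41Two.isWeaklyRegular_of_isQuasiRegular _ _ (algebraMap (p.Fiber C) (Localization.AtPrime Q) ∘ f')
    (fun j => by
      rw [IsLocalRing.ringJacobson_eq_maximalIdeal]
      exact (IsLocalization.AtPrime.to_map_mem_maximal_iff (Localization.AtPrime Q) Q _).mpr
        (hI (Ideal.subset_span ⟨j, rfl⟩))) h2
  refine ⟨n, List.ofFn (algebraMap (p.Fiber C) (Localization.AtPrime Q) ∘ f'), List.length_ofFn ..,
    isKoszulRegularSeq_of_isWeaklyRegular hw, ?_⟩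
  rw [Ideal.map_span]
  refine congrArg Ideal.span (Set.ext fun x => ?_)
  simp only [Set.mem_setOf_eq, List.mem_ofFn, Set.mem_image, Set.mem_range, exists_exists_eq_and]
  rfl

end Algebra

variable {X Z S : Scheme.{u}}

/-- A closed subscheme which is flat over the base and regular on the fibres is regularly immersed. -/
theorem isRegularImmersionAt_regular_of_fibReg (φ : X ⟶ S) [Flat φ] [LocallyOfFinitePresentation φ] (i : Z ⟶ X)
    [Flat (i ≫ φ)] (z : Z) (U : X.affineOpens) (W : S.affineOpens) (e : U.1 ≤ φ ⁻¹ᵁ W.1) (hz : i z ∈ U.1)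
    (hci : IsClosedImmersion (i ∣_ U.1)) (hfg : (RingHom.ker (i.app U.1).hom).FG)
    (h : letI := (φ.appLE W.1 U.1 e).hom.toAlgebra
      Module.Flat Γ(S, W.1) (Γ(X, U.1) ⧸ RingHom.ker (i.app U.1).hom) →
      ∀ (p : Ideal Γ(S, W.1)) [p.IsPrime] (Q : Ideal (p.Fiber Γ(X, U.1))) [Q.IsPrime],
        fibPoint p Q = (U.2.primeIdealOf ⟨i z, hz⟩).asIdeal → FibReg (RingHom.ker (i.app U.1).hom) p Q) :
    RegImm.IsRegularImmersionAt .regular i z := by
  let _ := (φ.appLE W.1 U.1 e).hom.toAlgebra
  have : Algebra.FinitePresentation Γ(S, W.1) Γ(X, U.1) :=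
    HasRingHomProperty.appLE (P := @LocallyOfFinitePresentation) φ ‹_› W U e
  have : Module.Flat Γ(S, W.1) Γ(X, U.1) := Flat.flat_appLE φ W.2 U.2 e
  let I := RingHom.ker (i.app U.1).hom
  let r := (U.2.primeIdealOf ⟨i z, hz⟩).asIdeal
  have hA := Groth.KoszulReg.isAffineOpen_preimage i U.1 U.2
  let _ := ((i ≫ φ).appLE W.1 (i ⁻¹ᵁ U.1) (fun y hy => e hy)).hom.toAlgebra
  have hflatZ : Module.Flat Γ(S, W.1) Γ(Z, i ⁻¹ᵁ U.1) := Flat.flat_appLE (i ≫ φ) W.2 hA (fun y hy => e hy)
  have hflat : Module.Flat Γ(S, W.1) (Γ(X, U.1) ⧸ I) := by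
    let α : Γ(X, U.1) →ₐ[Γ(S, W.1)] Γ(Z, i ⁻¹ᵁ U.1) :=
      { (i.app U.1).hom with
        commutes' := fun x => by
          show (i.app U.1).hom ((φ.appLE W.1 U.1 e).hom x) = ((i ≫ φ).appLE W.1 (i ⁻¹ᵁ U.1) _).hom x
          rw [← RingHom.comp_apply, ← CommRingCat.hom_comp, Scheme.Hom.app_eq_appLE, Scheme.Hom.appLE_comp_appLE] }
    exact Module.Flat.of_linearEquiv
      (Ideal.quotientKerAlgEquivOfSurjective (f := α) (Groth.KoszulReg.surjective_app i U.1 U.2)).toLinearEquiv
  obtain ⟨Q, _, hQ⟩ := exists_fibPoint (A := Γ(S, W.1)) r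
  have hIr : I ≤ r := ker_app_le_primeIdealOf i U.2 z hz
  obtain ⟨g, hg, hs, hw, hI⟩ := exists_weaklyRegular_of_fibReg hfg _ Q (hIr.trans hQ.ge) (h hflat _ Q hQ)
  have hg' : g ∉ r := hQ ▸ hg
  have hzg : i z ∈ X.basicOpen g := (mem_basicOpen_iff U.2 g hz).mpr hg'
  let _ := (X.presheaf.map (homOfLE (X.basicOpen_le g)).op).hom.toAlgebra
  have := U.2.isLocalization_basicOpen g
  let e' := IsLocalization.algEquiv (Submonoid.powers g) (Localization.Away g) Γ(X, X.basicOpen g)
  have hcomp : ((e' : Localization.Away g →+* Γ(X, X.basicOpen g))).comp (algebraMap _ _) =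
      (X.presheaf.map (homOfLE (X.basicOpen_le g)).op).hom := RingHom.ext fun a => e'.commutes a
  have hne : Ideal.ofList (hs.map (algebraMap Γ(X, U.1) (Localization.Away g))) ≠ ⊤ := by
    rw [hI]
    intro htop
    obtain ⟨m, ⟨k, rfl⟩, hm⟩ := (IsLocalization.algebraMap_mem_map_algebraMap_iff (Submonoid.powers g)
      (Localization.Away g) I (1 : Γ(X, U.1))).1 (by rw [htop]; exact Submodule.mem_top)
    rw [mul_one] at hm
    exact hg' ((inferInstance : r.IsPrime).mem_of_pow_mem k (hIr hm))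
  refine exists_seq_of_ker .regular i z ⟨X.basicOpen g, U.2.basicOpen g⟩ hzg
    (Groth.KoszulReg.isClosedImmersion_restrict i (X.basicOpen_le g))
    (e' : Localization.Away g →+* Γ(X, X.basicOpen g))
    (RingHom.Flat.of_bijective e'.bijective) (hs.map (algebraMap _ (Localization.Away g)))
    ⟨hw, by simpa [smul_eq_mul, Ideal.mul_top] using hne.symm⟩ ?_
  rw [← Ideal.map_ofList, hI, Ideal.map_map, hcomp]
  exact ker_app_basicOpen i U.2 g

/-- A chart of a regular immersion inside the preimage of an affine open of the base. -/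
theorem exists_chart (φ : X ⟶ S) (k : RegImm.Kind) (i : Z ⟶ X) (z : Z) (h : RegImm.IsRegularImmersionAt k i z) :
    ∃ (U : X.affineOpens) (W : S.affineOpens) (_ : U.1 ≤ φ ⁻¹ᵁ W.1) (_ : i z ∈ U.1),
      IsClosedImmersion (i ∣_ U.1) ∧ ∃ rs : List Γ(X, U.1), k.Seq Γ(X, U.1) rs ∧
        RingHom.ker (i.app U.1).hom = Ideal.ofList rs := by
  obtain ⟨U, hzU, hci, rs, hrs, hker⟩ := h
  obtain ⟨W, hW, hzW, -⟩ := exists_isAffineOpen_mem_and_subset (show φ (i z) ∈ (⊤ : S.Opens) from trivial)
  obtain ⟨b, hb, hzb⟩ := U.2.exists_basicOpen_le ⟨i z, show i z ∈ φ ⁻¹ᵁ W from hzW⟩ hzU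
  let _ := (X.presheaf.map (homOfLE (X.basicOpen_le b)).op).hom.toAlgebra
  have := U.2.isLocalization_basicOpen b
  have hk : RingHom.ker (i.app (X.basicOpen b)).hom =
      Ideal.ofList (rs.map (X.presheaf.map (homOfLE (X.basicOpen_le b)).op).hom) := by
    rw [ker_app_basicOpen i U.2 b, hker, Ideal.map_ofList]
  refine ⟨⟨X.basicOpen b, U.2.basicOpen b⟩, ⟨W, hW⟩, hb, hzb,
    Groth.KoszulReg.isClosedImmersion_restrict i (X.basicOpen_le b), _, seq_map k _ ?_ hrs ?_, hk⟩
  · exact RingHom.flat_algebraMap_iff.mpr (IsLocalization.flat Γ(X, X.basicOpen b) (Submonoid.powers b))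
  · exact hk ▸ ne_top_of_le_ne_top ((U.2.basicOpen b).primeIdealOf ⟨i z, hzb⟩).isPrime.ne_top
      (ker_app_le_primeIdealOf i (U.2.basicOpen b) z hzb)

/-- A relative quasi-regular immersion into a flat scheme of finite presentation is regular. -/
theorem isRegularImmersion_regular_of_flat (φ : X ⟶ S) [Flat φ] [LocallyOfFinitePresentation φ]
    (k : RegImm.Kind) (i : Z ⟶ X) [Flat (i ≫ φ)] (h : RegImm.IsRegularImmersion k i) :
    RegImm.IsRegularImmersion .regular i := by
  refine ⟨h.1, fun z => ?_⟩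
  obtain ⟨U, W, e, hz, hci, rs, hrs, hker⟩ := exists_chart φ k i z (h.2 z)
  have hI : RingHom.ker (i.app U.1).hom = Ideal.span (Set.range rs.get) := by
    rw [hker, Set.range_list_get]
  refine isRegularImmersionAt_regular_of_fibReg φ i z U W e hz hci
    (hker ▸ fg_ofList rs) fun hflat p _ Q _ hQ => ?_
  let _ := (φ.appLE W.1 U.1 e).hom.toAlgebra
  have : Algebra.FiniteType Γ(S, W.1) Γ(X, U.1) :=
    HasRingHomProperty.appLE (P := @LocallyOfFiniteType) φ inferInstance W U e
  have hle := (ker_app_le_primeIdealOf i U.2 z hz).trans hQ.ge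
  rw [hI] at hle hflat ⊢
  exact fibReg_of_quasi rs.get (seq_quasi k hrs) p Q hle

theorem locallyOfFinitePresentation_of_isRegularImmersion (k : RegImm.Kind) (i : Z ⟶ X)
    (h : RegImm.IsRegularImmersion k i) : LocallyOfFinitePresentation i := by
  rw [HasRingHomProperty.iff_exists_appLE (P := @LocallyOfFinitePresentation)]
  · intro z
    obtain ⟨U, hz, hci, rs, -, hker⟩ := h.2 z
    refine ⟨U, ⟨i ⁻¹ᵁ U.1, Groth.KoszulReg.isAffineOpen_preimage i U.1 U.2⟩, hz, le_rfl, ?_⟩
    rw [← Scheme.Hom.app_eq_appLE]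
    exact RingHom.FinitePresentation.of_surjective _ (Groth.KoszulReg.surjective_app i U.1 U.2)
      (hker ▸ fg_ofList rs)
  · exact (RingHom.finitePresentation_stableUnderComposition.stableUnderCompositionWithLocalizationAway
      RingHom.finitePresentation_holdsForLocalizationAway).left

/-- Base change of a relative regular immersion into a flat scheme of finite presentation. -/
theorem isRegularImmersion_regular_baseChange (φ : X ⟶ S) [Flat φ] [LocallyOfFinitePresentation φ]
    (k : RegImm.Kind) (i : Z ⟶ X) [Flat (i ≫ φ)] (h : RegImm.IsRegularImmersion k i) (S' : Scheme.{u}) (g : S' ⟶ S) :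
    RegImm.IsRegularImmersion .regular (pullback.snd i (pullback.fst φ g)) := by
  have := h.1
  have := locallyOfFinitePresentation_of_isRegularImmersion k i h
  have hreg := isRegularImmersion_regular_of_flat φ k i h
  have hm := (morLCI_iff_inLCILocus i).mp (morLCI_of_isRegularImmersion i
    (isRegularImmersion_of_isRegularImmersion_regular .koszul i hreg))
  let i' := pullback.snd i (pullback.fst φ g)
  have hsq := (IsPullback.of_hasPullback i (pullback.fst φ g)).paste_vert (IsPullback.of_hasPullback φ g)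
  have : Flat (i' ≫ pullback.snd φ g) := MorphismProperty.of_isPullback hsq inferInstance
  have : Flat (pullback.snd φ g) := inferInstance
  have : LocallyOfFinitePresentation (pullback.snd φ g) := inferInstance
  have : IsImmersion i' := inferInstance
  refine isRegularImmersion_regular_of_flat (pullback.snd φ g) .koszul i' (isRegularImmersion_of_morLCI i' ?_)
  rw [morLCI_iff_inLCILocus]
  intro z
  exact (inLCILocus_baseChange i φ g (pullback.fst φ g) (pullback.snd φ g) (pullback.fst i (pullback.fst φ g)) i'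
    (IsPullback.of_hasPullback φ g) hsq pullback.condition z).mpr (hm _)

end Groth.KoszulLCI
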