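import Groth.Agent.KoszulLCI.FibrewiseLocus
import Groth.Agent.KoszulLCI.Immersion
import Groth.Agent.KoszulLCI.SchemeBaseChange
import Mathlib.AlgebraicGeometry.Morphisms.FinitePresentation
import Mathlib.AlgebraicGeometry.Morphisms.Flat

/-!
# The Koszul locus of a map of flat schemes of finite presentation over a base
-/

set_option autoImplicit false

universe u

open CategoryTheory CategoryTheory.Limits AlgebraicGeometry

namespace Groth.KoszulLCI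

variable {X Y S : Scheme.{u}} (f : X ⟶ Y)

/-- The points near which `f` is a local complete intersection. -/
abbrev InLCILocus (x : X) : Prop :=
  ∃ (U : X.Opens) (V : Y.Opens) (_ : IsAffineOpen U) (_ : IsAffineOpen V) (hUV : U ≤ f ⁻¹ᵁ V),
    x ∈ U ∧ RingLCI (f.appLE V U hUV).hom

theorem morLCI_ι_comp_iff {U : X.Opens} {V : Y.Opens} (hU : IsAffineOpen U) (hV : IsAffineOpen V)
    (hUV : U ≤ f ⁻¹ᵁ V) : MorLCI (U.ι ≫ f) ↔ RingLCI (f.appLE V U hUV).hom := by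
  have : IsAffine U.toScheme := hU
  have : IsAffine V.toScheme := hV
  rw [← Scheme.Hom.resLE_comp_ι f hUV]
  have h1 : MorLCI (f.resLE V U hUV ≫ V.ι) ↔ MorLCI (f.resLE V U hUV) :=
    ⟨morLCI_of_comp_smooth _ _, fun h => MorphismProperty.comp_mem _ _ _ h (morLCI_of_smooth _)⟩
  rw [h1, HasRingHomProperty.iff_of_isAffine (P := MorLCI), Scheme.Hom.appTop, Scheme.Hom.app_eq_appLE,
    Scheme.Hom.resLE_appLE]
  exact Scheme.Hom.appLE_congr _ _ V.ι_image_top U.ι_image_top (fun φ => RingLCI φ.hom)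

theorem mem_basicOpen_iff {U : X.Opens} (hU : IsAffineOpen U) (b : Γ(X, U)) {x : X} (hx : x ∈ U) :
    x ∈ X.basicOpen b ↔ b ∉ (hU.primeIdealOf ⟨x, hx⟩).asIdeal := by
  show _ ↔ hU.primeIdealOf ⟨x, hx⟩ ∈ PrimeSpectrum.basicOpen b
  rw [← hU.fromSpec_preimage_basicOpen b]
  show _ ↔ hU.fromSpec (hU.primeIdealOf ⟨x, hx⟩) ∈ X.basicOpen b
  rw [hU.fromSpec_primeIdealOf]

theorem inLCILocus_iff {U : X.Opens} {V : Y.Opens} (hU : IsAffineOpen U) (hV : IsAffineOpen V)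
    (hUV : U ≤ f ⁻¹ᵁ V) {x : X} (hx : x ∈ U) :
    InLCILocus f x ↔
      @NearLCI Γ(Y, V) Γ(X, U) _ _ (f.appLE V U hUV).hom.toAlgebra (hU.primeIdealOf ⟨x, hx⟩).asIdeal := by
  let _ := (f.appLE V U hUV).hom.toAlgebra
  have key : ∀ b : Γ(X, U), RingLCI (f.appLE V (X.basicOpen b) ((X.basicOpen_le b).trans hUV)).hom ↔
      LCI.IsLCI Γ(Y, V) (Localization.Away b) := fun b => by
    let _ := (f.appLE V (X.basicOpen b) ((X.basicOpen_le b).trans hUV)).hom.toAlgebra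
    let _ := (X.presheaf.map (homOfLE (X.basicOpen_le b)).op).hom.toAlgebra
    have : IsScalarTower Γ(Y, V) Γ(X, U) Γ(X, X.basicOpen b) := .of_algebraMap_eq' (by
      show (f.appLE V (X.basicOpen b) _).hom = (X.presheaf.map _).hom.comp (f.appLE V U hUV).hom
      rw [← CommRingCat.hom_comp, Scheme.Hom.appLE_map])
    have := hU.isLocalization_basicOpen b
    let e := (IsLocalization.algEquiv (Submonoid.powers b) Γ(X, X.basicOpen b)
      (Localization.Away b)).restrictScalars Γ(Y, V)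
    exact ⟨fun h => isLCI_of_algEquiv e h, fun h => isLCI_of_algEquiv e.symm h⟩
  constructor
  · rintro ⟨U₁, V₁, hU₁, hV₁, hUV₁, hx₁, h⟩
    obtain ⟨b, hb, hxb⟩ := hU.exists_basicOpen_le ⟨x, hx₁⟩ hx
    refine ⟨b, (mem_basicOpen_iff hU b hx).mp hxb, (key b).mp ?_⟩
    rw [← morLCI_ι_comp_iff f (hU.basicOpen b) hV, ← Scheme.homOfLE_ι X hb, Category.assoc]
    exact MorphismProperty.comp_mem _ _ _ (morLCI_of_smooth _) ((morLCI_ι_comp_iff f hU₁ hV₁ hUV₁).mpr h)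
  · rintro ⟨b, hb, h⟩
    exact ⟨X.basicOpen b, V, hU.basicOpen b, hV, (X.basicOpen_le b).trans hUV,
      (mem_basicOpen_iff hU b hx).mpr hb, (key b).mpr h⟩

theorem isOpen_inLCILocus : IsOpen {x : X | InLCILocus f x} := by
  rw [isOpen_iff_forall_mem_open]
  rintro x ⟨U, V, hU, hV, hUV, hx, h⟩
  exact ⟨U, fun y hy => ⟨U, V, hU, hV, hUV, hy, h⟩, U.isOpen, hx⟩

variable (g : Y ⟶ S) [Flat (f ≫ g)] [LocallyOfFinitePresentation (f ≫ g)] [Flat g] [LocallyOfFinitePresentation g]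
  {X' Y' S' : Scheme.{u}} (h : S' ⟶ S) (gY : Y' ⟶ Y) (g' : Y' ⟶ S') (gX : X' ⟶ X) (f' : X' ⟶ Y')

theorem inLCILocus_baseChange (hY : IsPullback gY g' g h) (hX : IsPullback gX (f' ≫ g') (f ≫ g) h)
    (w : gX ≫ f = f' ≫ gY) (x' : X') : InLCILocus f' x' ↔ InLCILocus f (gX x') := by
  obtain ⟨W, hW, hxW, -⟩ := exists_isAffineOpen_mem_and_subset (show g (f (gX x')) ∈ (⊤ : S.Opens) from trivial)
  obtain ⟨V, hV, hxV, hVW'⟩ := exists_isAffineOpen_mem_and_subset (show f (gX x') ∈ g ⁻¹ᵁ W from hxW)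
  have hVW : V ≤ g ⁻¹ᵁ W := hVW'
  obtain ⟨U, hU, hxU, hUV'⟩ := exists_isAffineOpen_mem_and_subset (show gX x' ∈ f ⁻¹ᵁ V from hxV)
  have hUV : U ≤ f ⁻¹ᵁ V := hUV'
  have hUW : U ≤ (f ≫ g) ⁻¹ᵁ W := fun y hy => hVW (hUV hy)
  have hxS : h (g' (f' x')) ∈ W := by
    rw [← Scheme.Hom.comp_apply f' g', ← Scheme.Hom.comp_apply, ← hX.w, Scheme.Hom.comp_apply,
      Scheme.Hom.comp_apply]
    exact hxW
  obtain ⟨W', hW', hxW', hWW'⟩ := exists_isAffineOpen_mem_and_subset (show g' (f' x') ∈ h ⁻¹ᵁ W from hxS)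
  have hW'W : W' ≤ h ⁻¹ᵁ W := hWW'
  let V' := gY ⁻¹ᵁ V ⊓ g' ⁻¹ᵁ W'
  let U' := gX ⁻¹ᵁ U ⊓ (f' ≫ g') ⁻¹ᵁ W'
  have hVY : V' = gY ⁻¹ᵁ V ⊓ g' ⁻¹ᵁ W' := rfl
  have hUX : U' = gX ⁻¹ᵁ U ⊓ (f' ≫ g') ⁻¹ᵁ W' := rfl
  have : IsAffine W.toScheme := hW
  have : IsAffine W'.toScheme := hW'
  have : IsAffine V.toScheme := hV
  have : IsAffine U.toScheme := hU
  have hV' : IsAffineOpen V' := IsAffine.of_isIso ((Scheme.Hom.isPullback_resLE hY hW'W hVW hVY).isoPullback).hom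
  have hU' : IsAffineOpen U' := IsAffine.of_isIso ((Scheme.Hom.isPullback_resLE hX hW'W hUW hUX).isoPullback).hom
  have hU'V' : U' ≤ f' ⁻¹ᵁ V' := fun y hy => ⟨by
    show gY (f' y) ∈ V
    rw [← Scheme.Hom.comp_apply, ← w]
    exact hUV hy.1, hy.2⟩
  have hxU' : x' ∈ U' := ⟨hxU, hxW'⟩
  have hpoY := (isIso_pushoutSection_iff hY hW'W hVW hVY).mp
    (isIso_pushoutSection_of_isAffineOpen hY hW'W hVW hVY hW hW' hV)
  have hpoX := (isIso_pushoutSection_iff hX hW'W hUW hUX).mp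
    (isIso_pushoutSection_of_isAffineOpen hX hW'W hUW hUX hW hW' hU)
  rw [inLCILocus_iff f' hU' hV' hU'V' hxU', inLCILocus_iff f hU hV hUV hxU,
    ← IsAffineOpen.comap_primeIdealOf_appLE (f := gX) U hU U' hU' inf_le_left hxU']
  let _ := (g.appLE W V hVW).hom.toAlgebra
  let _ := ((f ≫ g).appLE W U hUW).hom.toAlgebra
  let _ := (f.appLE V U hUV).hom.toAlgebra
  let _ := (g'.appLE W' V' inf_le_right).hom.toAlgebra
  let _ := ((f' ≫ g').appLE W' U' inf_le_right).hom.toAlgebra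
  let _ := (f'.appLE V' U' hU'V').hom.toAlgebra
  let _ := (h.appLE W W' hW'W).hom.toAlgebra
  let _ := (gY.appLE V V' inf_le_left).hom.toAlgebra
  let _ := (gX.appLE U U' inf_le_left).hom.toAlgebra
  let _ : Algebra Γ(S, W) Γ(Y', V') :=
    ((g'.appLE W' V' inf_le_right).hom.comp (h.appLE W W' hW'W).hom).toAlgebra
  let _ : Algebra Γ(S, W) Γ(X', U') :=
    (((f' ≫ g').appLE W' U' inf_le_right).hom.comp (h.appLE W W' hW'W).hom).toAlgebra
  let _ : Algebra Γ(Y, V) Γ(X', U') :=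
    ((f'.appLE V' U' hU'V').hom.comp (gY.appLE V V' inf_le_left).hom).toAlgebra
  have : IsScalarTower Γ(S, W) Γ(Y, V) Γ(X, U) := .of_algebraMap_eq' (by
    show ((f ≫ g).appLE W U hUW).hom = (f.appLE V U hUV).hom.comp (g.appLE W V hVW).hom
    rw [← CommRingCat.hom_comp, Scheme.Hom.appLE_comp_appLE])
  have : IsScalarTower Γ(S', W') Γ(Y', V') Γ(X', U') := .of_algebraMap_eq' (by
    show ((f' ≫ g').appLE W' U' _).hom = (f'.appLE V' U' hU'V').hom.comp (g'.appLE W' V' _).hom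
    rw [← CommRingCat.hom_comp, Scheme.Hom.appLE_comp_appLE])
  have : IsScalarTower Γ(S, W) Γ(S', W') Γ(Y', V') := .of_algebraMap_eq fun _ => rfl
  have : IsScalarTower Γ(S, W) Γ(S', W') Γ(X', U') := .of_algebraMap_eq fun _ => rfl
  have : IsScalarTower Γ(Y, V) Γ(Y', V') Γ(X', U') := .of_algebraMap_eq fun _ => rfl
  have : IsScalarTower Γ(S, W) Γ(Y, V) Γ(Y', V') := .of_algebraMap_eq' (by
    have := congrArg (fun φ => φ.hom) hpoY.w
    simp only [CommRingCat.hom_comp] at this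
    first | exact this | exact this.symm)
  have : IsScalarTower Γ(S, W) Γ(X, U) Γ(X', U') := .of_algebraMap_eq' (by
    have := congrArg (fun φ => φ.hom) hpoX.w
    simp only [CommRingCat.hom_comp] at this
    first | exact this | exact this.symm)
  have : IsScalarTower Γ(Y, V) Γ(X, U) Γ(X', U') := .of_algebraMap_eq' (by
    show (f'.appLE V' U' hU'V').hom.comp (gY.appLE V V' _).hom =
      (gX.appLE U U' _).hom.comp (f.appLE V U hUV).hom
    rw [← CommRingCat.hom_comp, ← CommRingCat.hom_comp, Scheme.Hom.appLE_comp_appLE,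
      Scheme.Hom.appLE_comp_appLE]
    simp only [w])
  have : Algebra.IsPushout Γ(S, W) Γ(S', W') Γ(Y, V) Γ(Y', V') := by
    rw [← CommRingCat.isPushout_iff_isPushout]
    first | exact hpoY | exact hpoY.flip
  have : Algebra.IsPushout Γ(S, W) Γ(S', W') Γ(X, U) Γ(X', U') := by
    rw [← CommRingCat.isPushout_iff_isPushout]
    first | exact hpoX | exact hpoX.flip
  have : Module.Flat Γ(S, W) Γ(Y, V) := Flat.flat_appLE g hW hV hVW
  have : Module.Flat Γ(S, W) Γ(X, U) := Flat.flat_appLE (f ≫ g) hW hU hUW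
  have : Algebra.FinitePresentation Γ(S, W) Γ(Y, V) :=
    HasRingHomProperty.appLE (P := @LocallyOfFinitePresentation) g ‹_› ⟨W, hW⟩ ⟨V, hV⟩ hVW
  have : Algebra.FinitePresentation Γ(S, W) Γ(X, U) :=
    HasRingHomProperty.appLE (P := @LocallyOfFinitePresentation) (f ≫ g) ‹_› ⟨W, hW⟩ ⟨U, hU⟩ hUW
  exact (nearLCI_baseChange_iff Γ(S, W) (A' := Γ(S', W'))
    (hU'.primeIdealOf ⟨x', hxU'⟩).asIdeal).symm

end Groth.KoszulLCI
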