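import Groth.Agent.KoszulLCI.Relations
import Groth.Agent.KoszulLCI.Kinds
import Groth.Agent.EGA41Two.FlatRegularFibre
import Groth.Agent.FlatMorOne.FlatLocusOpen
import Mathlib.RingTheory.TensorProduct.Quotient
import Mathlib.RingTheory.TensorProduct.DirectLimitFG

/-!
# Flatness from a relative `H₁`-regular sequence

If `f` is an `H₁`-regular sequence in a finitely presented `A`-algebra `B` with `B/(f)` flat over `A`,
then `B` is flat over `A` at every prime containing `f`.
-/

set_option autoImplicit false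

universe u

open TensorProduct RingTheory.Sequence IsLocalRing

namespace Groth.KoszulLCI

attribute [local instance] Algebra.TensorProduct.rightAlgebra
set_option synthInstance.maxHeartbeats 100000

/-- Flatness of a module from flatness of its quotient by a regular sequence in the maximal ideal. -/
theorem flat_of_flat_quotient_regular {A B : Type u} [CommRing A] [IsNoetherianRing A] [CommRing B]
    [IsLocalRing B] [IsNoetherianRing B] [Algebra A B] : ∀ (fs : List B) (M : Type u) [AddCommGroup M] [Module B M]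
    [Module A M] [IsScalarTower A B M] [Module.Finite B M], (∀ f ∈ fs, f ∈ maximalIdeal B) →
    IsWeaklyRegular M fs → Module.Flat A (M ⧸ (Ideal.ofList fs • (⊤ : Submodule B M))) → Module.Flat A M
  | [], M, _, _, _, _, _, _, _, hl => by
    have := hl
    exact Module.Flat.of_linearEquiv ((Submodule.quotEquivOfEqBot
      (Ideal.ofList ([] : List B) • (⊤ : Submodule B M))
      (by rw [Ideal.ofList_nil, Submodule.bot_smul])).restrictScalars A).symm
  | f :: rs, M, _, _, _, _, _, hfs, hreg, hl => by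
    rw [isWeaklyRegular_cons_iff] at hreg
    have := hl
    have := flat_of_flat_quotient_regular rs (QuotSMulTop f M) (fun g hg => hfs g (List.mem_cons_of_mem _ hg))
      hreg.2 (Module.Flat.of_linearEquiv
        ((Submodule.quotOfListConsSMulTopEquivQuotSMulTopInner M f rs).restrictScalars A).symm)
    exact Groth.EGA41Two.FlatFibre.flat_of_flat_quotSMulTop (A := A) M f (hfs f List.mem_cons_self) hreg.1

variable {A A₀ T B : Type u} [CommRing A] [CommRing A₀] [CommRing T] [CommRing B] [Algebra A₀ A]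
  [Algebra A₀ T] [Algebra A B] [Algebra T B] [Algebra A₀ B] [IsScalarTower A₀ A B] [IsScalarTower A₀ T B]
  [Algebra.IsPushout A₀ A T B] [IsNoetherianRing A₀] [Algebra.FiniteType A₀ T] {r : ℕ} (g : Fin r → T)
  (q : Ideal B) [q.IsPrime]

/-- Flatness of the local ring at a point of an `H₁`-regular model with flat quotient. -/
theorem flat_atPrime_of_model_h1 [Module.Flat A₀ (T ⧸ Ideal.span (Set.range g))] (hg : CAlgX.IsH1Regular g)
    (hq : ∀ i, algebraMap T B (g i) ∈ q) : Module.Flat A (Localization.AtPrime q) := by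
  let q₀ := q.comap (algebraMap T B)
  let L := Localization.AtPrime q₀
  have : IsNoetherianRing T := Algebra.FiniteType.isNoetherianRing A₀ T
  let fs := List.ofFn (algebraMap T L ∘ g)
  have hfs : ∀ x ∈ fs, x ∈ maximalIdeal L := fun x hx => by
    obtain ⟨i, rfl⟩ := List.mem_ofFn.mp hx
    exact (IsLocalization.AtPrime.to_map_mem_maximal_iff L q₀ _).mpr (hq i)
  have hreg : IsWeaklyRegular L fs := by
    refine Groth.EGA41Two.isWeaklyRegular_of_isQuasiRegular _ _ (algebraMap T L ∘ g) (fun j => ?_)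
      (Groth.Calg1.isQuasiRegular_of_isH1Regular _
        (isH1Regular_map (algebraMap T L) (RingHom.flat_algebraMap_iff.mpr inferInstance) hg))
    rw [IsLocalRing.ringJacobson_eq_maximalIdeal]
    exact hfs _ (List.mem_ofFn.mpr ⟨j, rfl⟩)
  have hflat : Module.Flat A₀ (L ⧸ (Ideal.ofList fs • (⊤ : Submodule L L))) := by
    let J := Ideal.span (Set.range g)
    have hJ : Ideal.ofList fs • (⊤ : Submodule L L) = J.map (algebraMap T L) := by
      rw [smul_eq_mul, Ideal.mul_top, Ideal.map_span, ← Set.range_comp]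
      exact congrArg Ideal.span (Set.ext fun x => List.mem_ofFn)
    have : Module.Flat A₀ ((T ⧸ J) ⊗[T] L) := Module.Flat.trans A₀ (T ⧸ J) _
    exact Module.Flat.of_linearEquiv ((((Submodule.quotEquivOfEq _ _ hJ).trans
      (Algebra.TensorProduct.quotIdealMapEquivTensorQuot L J).toLinearEquiv).restrictScalars A₀).trans
        ((TensorProduct.comm T L (T ⧸ J)).restrictScalars A₀))
  have := flat_of_flat_quotient_regular fs L hfs hreg hflat
  have : Module.Flat A₀ (LocalizedModule q₀.primeCompl T) := Module.Flat.of_linearEquiv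
    ((IsLocalizedModule.linearEquiv q₀.primeCompl (LocalizedModule.mkLinearMap q₀.primeCompl T)
      (Algebra.linearMap T L)).restrictScalars A₀)
  have : Module.Flat A (LocalizedModule q.primeCompl B) :=
    Groth.FlatMorOne.flat_localized_baseChange (B := A₀) (R := A) (algebraMap T B)
      (β := (IsScalarTower.toAlgHom A₀ T B).toLinearMap) (Algebra.IsPushout.out)
      (fun s m => by simp) q
  exact Module.Flat.of_linearEquiv ((IsLocalizedModule.linearEquiv q.primeCompl
    (Algebra.linearMap B (Localization.AtPrime q))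
    (LocalizedModule.mkLinearMap q.primeCompl B)).restrictScalars A)

section Stage

variable (T B)

/-- The map of a stage of a model. -/
noncomputable abbrev stageHom (C : Subalgebra A₀ A) : C ⊗[A₀] T →ₐ[C] B :=
  Algebra.TensorProduct.lift (Algebra.ofId C B) (IsScalarTower.toAlgHom A₀ T B) fun _ _ => .all _ _

theorem stageHom_eq (C : Subalgebra A₀ A) (y : C ⊗[A₀] T) :
    stageHom T B C y = Algebra.IsPushout.equiv A₀ A T B (C.val.toLinearMap.rTensor T y) := by
  induction y using TensorProduct.induction_on with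
  | zero => simp
  | add x y hx hy => simp only [map_add, hx, hy]
  | tmul c t =>
    simp [stageHom, Algebra.IsPushout.equiv_tmul, IsScalarTower.algebraMap_apply C A B]

theorem exists_stageHom_eq (b : B) :
    ∃ (C : Subalgebra A₀ A), C.FG ∧ ∃ y : C ⊗[A₀] T, stageHom T B C y = b := by
  obtain ⟨C, hC, y, hy⟩ := TensorProduct.Algebra.exists_of_fg ((Algebra.IsPushout.equiv A₀ A T B).symm b)
  exact ⟨C, hC, y, by rw [stageHom_eq, hy, AlgEquiv.apply_symm_apply]⟩

theorem stageHom_inclusion {C C' : Subalgebra A₀ A} (h : C ≤ C') (y : C ⊗[A₀] T) :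
    stageHom T B C' ((Subalgebra.inclusion h).toLinearMap.rTensor T y) = stageHom T B C y := by
  rw [stageHom_eq, stageHom_eq, ← LinearMap.rTensor_comp_apply]
  rfl

theorem exists_eq_zero_of_stageHom {C : Subalgebra A₀ A} (hC : C.FG) {y : C ⊗[A₀] T}
    (hy : stageHom T B C y = 0) : ∃ (C' : Subalgebra A₀ A) (h : C ≤ C'), C'.FG ∧
      (Subalgebra.inclusion h).toLinearMap.rTensor T y = 0 := by
  rw [stageHom_eq, map_eq_zero_iff _ (Algebra.IsPushout.equiv A₀ A T B).injective,
    ← map_zero (C.val.toLinearMap.rTensor T)] at hy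
  obtain ⟨C', h, hC', h'⟩ := TensorProduct.Algebra.eq_of_fg_of_subtype_eq hC hy
  exact ⟨C', h, hC', by rw [h', map_zero]⟩

theorem stageHom_isPushout (C : Subalgebra A₀ A) :
    letI := (stageHom T B C).toRingHom.toAlgebra
    ∃ (_ : IsScalarTower C (C ⊗[A₀] T) B), Algebra.IsPushout C A (C ⊗[A₀] T) B := by
  let _ := (stageHom T B C).toRingHom.toAlgebra
  let _ : Algebra T (C ⊗[A₀] T) := Algebra.TensorProduct.rightAlgebra
  have : IsScalarTower C (C ⊗[A₀] T) B := .of_algebraMap_eq fun c => ((stageHom T B C).commutes c).symm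
  refine ⟨this, ?_⟩
  have : IsScalarTower A₀ C B := inferInstance
  have : IsScalarTower T (C ⊗[A₀] T) B := .of_algebraMap_eq fun t => by
    show algebraMap T B t = stageHom T B C ((1 : C) ⊗ₜ[A₀] t)
    simp [stageHom]
  have : IsScalarTower A₀ T (C ⊗[A₀] T) := .of_algebraMap_eq fun a =>
    ((Algebra.TensorProduct.includeRight : T →ₐ[A₀] C ⊗[A₀] T).commutes a).symm
  have : IsScalarTower A₀ (C ⊗[A₀] T) B := .of_algebraMap_eq (R := A₀) (S := C ⊗[A₀] T) (A := B) fun a => by
    show algebraMap A₀ B a = algebraMap (C ⊗[A₀] T) B (algebraMap A₀ (C ⊗[A₀] T) a)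
    rw [IsScalarTower.algebraMap_apply A₀ C B, IsScalarTower.algebraMap_apply C (C ⊗[A₀] T) B,
      ← IsScalarTower.algebraMap_apply A₀ C (C ⊗[A₀] T)]
  exact (Algebra.IsPushout.comp_iff (R := A₀) (S := C) (T := A) (R' := T) (S' := C ⊗[A₀] T) (T' := B)).mp
    inferInstance

end Stage

omit [IsNoetherianRing A₀] [Algebra.FiniteType A₀ T] in
theorem flat_tensor_quotient_span (C : Type u) [CommRing C] [Algebra A₀ C]
    [Module.Flat C (C ⊗[A₀] (T ⧸ Ideal.span (Set.range g)))] :
    Module.Flat C ((C ⊗[A₀] T) ⧸ Ideal.span (Set.range fun i => ((1 : C) ⊗ₜ[A₀] g i : C ⊗[A₀] T))) := by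
  have hmap : Ideal.span (Set.range fun i => ((1 : C) ⊗ₜ[A₀] g i : C ⊗[A₀] T)) =
      (Ideal.span (Set.range g)).map (algebraMap T (C ⊗[A₀] T)) := by
    rw [Ideal.map_span, ← Set.range_comp]
    rfl
  rw [hmap]
  exact Module.Flat.of_linearEquiv
    (((Algebra.TensorProduct.quotIdealMapEquivTensorQuot (C ⊗[A₀] T) (Ideal.span (Set.range g))).toLinearEquiv.restrictScalars C).trans
      (Algebra.IsPushout.cancelBaseChange A₀ C T (C ⊗[A₀] T) (T ⧸ Ideal.span (Set.range g))))

set_option maxHeartbeats 1000000 in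
/-- Flatness at a point of a model with flat quotient whose sequence is `H₁`-regular at the limit. -/
theorem flat_atPrime_of_model_flat [Module.Flat A₀ (T ⧸ Ideal.span (Set.range g))]
    (hg : CAlgX.IsH1Regular (algebraMap T B ∘ g)) (hq : ∀ i, algebraMap T B (g i) ∈ q) :
    Module.Flat A (Localization.AtPrime q) := by
  classical
  have : IsNoetherianRing T := Algebra.FiniteType.isNoetherianRing A₀ T
  let Z : Submodule T (Fin r → T) := LinearMap.ker (Fintype.linearCombination T g)
  have hZmem : ∀ z, z ∈ Z ↔ ∑ i, z i * g i = 0 := fun z => by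
    simp [Z, Fintype.linearCombination_apply]
  obtain ⟨s, hs⟩ : Z.FG := IsNoetherian.noetherian Z
  -- the witnesses in `B`
  have hwit : ∀ z ∈ s, ∃ b : Fin r × Fin r → B, algebraMap T B ∘ z =
      ∑ p : Fin r × Fin r, b p • (Pi.single p.1 (algebraMap T B (g p.2)) -
        Pi.single p.2 (algebraMap T B (g p.1)) : Fin r → B) := by
    intro z hz
    have hrel := hg (algebraMap T B ∘ z) (by
      have := congrArg (algebraMap T B) ((hZmem z).mp (hs ▸ Submodule.subset_span hz))
      simpa [map_sum] using this)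
    have hset : {v : Fin r → B | ∃ i j, v = Pi.single i ((algebraMap T B ∘ g) j) - Pi.single j ((algebraMap T B ∘ g) i)} =
        Set.range fun p : Fin r × Fin r => (Pi.single p.1 (algebraMap T B (g p.2)) -
          Pi.single p.2 (algebraMap T B (g p.1)) : Fin r → B) := by
      ext v
      simp [eq_comm]
    rw [hset] at hrel
    obtain ⟨b, hb⟩ := (Submodule.mem_span_range_iff_exists_fun B).mp hrel
    exact ⟨b, hb.symm⟩
  choose! b hb using hwit
  choose Cb hCb yb hyb using fun x : (Fin r → T) × (Fin r × Fin r) => exists_stageHom_eq (A := A) (A₀ := A₀) T B (b x.1 x.2)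
  let C₁ := (s ×ˢ (Finset.univ : Finset (Fin r × Fin r))).sup Cb
  have hC₁ : C₁.FG := Finset.sup_induction Subalgebra.fg_bot (fun A hA B hB => hA.sup hB) fun x _ => hCb x
  have hle : ∀ z ∈ s, ∀ p, Cb (z, p) ≤ C₁ := fun z hz p =>
    Finset.le_sup (f := Cb) (Finset.mem_product.mpr ⟨hz, Finset.mem_univ p⟩)
  let b₁ : ∀ z ∈ s, Fin r × Fin r → C₁ ⊗[A₀] T := fun z hz p =>
    (Subalgebra.inclusion (hle z hz p)).toLinearMap.rTensor T (yb (z, p))
  let g₁ : Fin r → C₁ ⊗[A₀] T := fun i => (1 : C₁) ⊗ₜ[A₀] g i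
  let d : ∀ z ∈ s, Fin r → C₁ ⊗[A₀] T := fun z hz =>
    (∑ p : Fin r × Fin r, b₁ z hz p • (Pi.single p.1 (g₁ p.2) - Pi.single p.2 (g₁ p.1) : Fin r → C₁ ⊗[A₀] T)) -
      fun i => (1 : C₁) ⊗ₜ[A₀] z i
  have hst : ∀ t, stageHom T B C₁ ((1 : C₁) ⊗ₜ[A₀] t) = algebraMap T B t := fun t => by simp [stageHom]
  have hd : ∀ z (hz : z ∈ s) i, stageHom T B C₁ (d z hz i) = 0 := by
    intro z hz i
    have := congrFun (hb z hz) i
    simp only [Function.comp_apply] at this
    simp only [d, Pi.sub_apply, Finset.sum_apply, Pi.smul_apply, smul_eq_mul, map_sub, map_sum, map_mul,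
      hst, sub_eq_zero, Pi.single_apply, apply_ite (stageHom T B C₁), map_zero, g₁, b₁, stageHom_inclusion, hyb]
    rw [this]
    simp [Pi.single_apply]
  choose Cd hCdle hCdfg hCd using fun (x : {x // x ∈ s}) (i : Fin r) =>
    exists_eq_zero_of_stageHom T B hC₁ (hd x.1 x.2 i)
  let C := C₁ ⊔ (Finset.univ : Finset ({x // x ∈ s} × Fin r)).sup fun x => Cd x.1 x.2
  have hC : C.FG := hC₁.sup (Finset.sup_induction Subalgebra.fg_bot (fun A hA B hB => hA.sup hB) fun x _ =>
    hCdfg x.1 x.2)
  have hC₁C : C₁ ≤ C := le_sup_left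
  have hCdC : ∀ x i, Cd x i ≤ C := fun x i =>
    le_sup_of_le_right (Finset.le_sup (f := fun x => Cd x.1 x.2) (Finset.mem_univ (x, i)))
  let ι : C₁ ⊗[A₀] T →ₐ[A₀] C ⊗[A₀] T :=
    Algebra.TensorProduct.map (Subalgebra.inclusion hC₁C) (AlgHom.id A₀ T)
  have hι : ∀ y, ι y = (Subalgebra.inclusion hC₁C).toLinearMap.rTensor T y := fun y => by
    induction y using TensorProduct.induction_on with
    | zero => simp
    | add x y hx hy => simp only [map_add, hx, hy]
    | tmul c t => simp [ι]
  have hzero : ∀ z (hz : z ∈ s) i, ι (d z hz i) = 0 := fun z hz i => by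
    rw [hι, show Subalgebra.inclusion hC₁C =
        (Subalgebra.inclusion (hCdC ⟨z, hz⟩ i)).comp (Subalgebra.inclusion (hCdle ⟨z, hz⟩ i)) from rfl,
      AlgHom.comp_toLinearMap, LinearMap.rTensor_comp_apply, hCd ⟨z, hz⟩ i, map_zero]
  -- the stage
  let T' := C ⊗[A₀] T
  let _ := (stageHom T B C).toRingHom.toAlgebra
  obtain ⟨_, _⟩ := stageHom_isPushout T B C
  let g' : Fin r → T' := fun i => (1 : C) ⊗ₜ[A₀] g i
  have : IsNoetherianRing C := isNoetherianRing_of_fg hC
  have : Module.Flat C (T' ⧸ Ideal.span (Set.range g')) := flat_tensor_quotient_span g C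
  have hg' : CAlgX.IsH1Regular g' := by
    intro v hv
    let _ : Algebra T T' := Algebra.TensorProduct.rightAlgebra
    have : IsScalarTower A₀ T T' := .of_algebraMap_eq fun a =>
      ((Algebra.TensorProduct.includeRight : T →ₐ[A₀] T').commutes a).symm
    refine Submodule.span_le.mpr ?_ (relations_baseChange (A := A₀) (A' := C) (B := T) (B' := T') g v hv)
    rintro _ ⟨z, hz, rfl⟩
    have hzs : z ∈ Submodule.span T (s : Set (Fin r → T)) := hs.symm ▸ (hZmem z).mpr hz
    clear hz
    induction hzs using Submodule.span_induction with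
    | mem z hz =>
      have he : (fun i => algebraMap T T' (z i)) = ∑ p : Fin r × Fin r, ι (b₁ z hz p) •
          (Pi.single p.1 (g' p.2) - Pi.single p.2 (g' p.1) : Fin r → T') := by
        funext i
        have := hzero z hz i
        simp only [d, Pi.sub_apply, Finset.sum_apply, Pi.smul_apply, smul_eq_mul, map_sub, map_sum, map_mul,
          Pi.single_apply, apply_ite ι, map_zero, g₁, sub_eq_zero] at this
        simp only [Finset.sum_apply, Pi.smul_apply, Pi.sub_apply, smul_eq_mul, Pi.single_apply, g']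
        refine Eq.trans ?_ (this.symm.trans ?_)
        · simp [ι, RingHom.algebraMap_toAlgebra]
        · refine Finset.sum_congr rfl fun p _ => ?_
          simp [ι]
      show (fun i => algebraMap T T' (z i)) ∈ _
      rw [he]
      exact sum_mem fun p _ => Submodule.smul_mem _ _ (Submodule.subset_span ⟨p.1, p.2, rfl⟩)
    | zero =>
      simp only [SetLike.mem_coe] at *
      rw [show (algebraMap T T') ∘ (0 : Fin r → T) = 0 from funext fun _ => map_zero _]
      exact zero_mem _
    | add x y _ _ hx hy =>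
      simp only [SetLike.mem_coe] at *
      rw [show (algebraMap T T') ∘ (x + y) = algebraMap T T' ∘ x + algebraMap T T' ∘ y from
        funext fun _ => map_add _ _ _]
      exact add_mem hx hy
    | smul t x _ hx =>
      simp only [SetLike.mem_coe] at *
      rw [show (algebraMap T T') ∘ (t • x) = algebraMap T T' t • (algebraMap T T' ∘ x) from
        funext fun _ => map_mul _ _ _]
      exact Submodule.smul_mem _ _ hx
  refine flat_atPrime_of_model_h1 (A₀ := C) (T := T') g' q hg' fun i => ?_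
  show stageHom T B C ((1 : C) ⊗ₜ[A₀] g i) ∈ q
  simpa [stageHom] using hq i

variable (A₀)
include A₀

/-- Flatness at a point of a model whose sequence is relatively `H₁`-regular at the limit. -/
theorem flat_atPrime_of_model [Module.Flat A (B ⧸ Ideal.span (Set.range (algebraMap T B ∘ g)))]
    (hg : CAlgX.IsH1Regular (algebraMap T B ∘ g)) (hq : ∀ i, algebraMap T B (g i) ∈ q) :
    Module.Flat A (Localization.AtPrime q) := by
  let I := Ideal.span (Set.range g)
  let J := Ideal.span (Set.range (algebraMap T B ∘ g))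
  have hJ : J = I.map (algebraMap T B) := by rw [Ideal.map_span, ← Set.range_comp]
  let _ : Algebra (T ⧸ I) (B ⧸ J) := (Ideal.Quotient.lift I ((Ideal.Quotient.mk J).comp (algebraMap T B))
    (fun t ht => Ideal.Quotient.eq_zero_iff_mem.mpr (hJ ▸ Ideal.mem_map_of_mem _ ht))).toAlgebra
  have : IsScalarTower T (T ⧸ I) (B ⧸ J) := .of_algebraMap_eq fun t => rfl
  have : IsScalarTower A₀ (T ⧸ I) (B ⧸ J) := .of_algebraMap_eq fun a => by
    rw [IsScalarTower.algebraMap_apply A₀ T (T ⧸ I), ← IsScalarTower.algebraMap_apply T (T ⧸ I) (B ⧸ J),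
      ← IsScalarTower.algebraMap_apply A₀ T (B ⧸ J)]
  have : Algebra.IsPushout T B (T ⧸ I) (B ⧸ J) := by
    refine Algebra.IsPushout.of_equiv (S' := B ⊗[T] (T ⧸ I))
      ((Algebra.TensorProduct.quotIdealMapEquivTensorQuot B I).symm.trans (Ideal.quotientEquivAlgOfEq B hJ.symm))
      (RingHom.ext fun x => ?_)
    obtain ⟨t, rfl⟩ := Ideal.Quotient.mk_surjective x
    let e := (Algebra.TensorProduct.quotIdealMapEquivTensorQuot B I).symm.trans (Ideal.quotientEquivAlgOfEq B hJ.symm)
    show e ((1 : B) ⊗ₜ[T] Ideal.Quotient.mk I t) = _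
    rw [show (1 : B) ⊗ₜ[T] Ideal.Quotient.mk I t = algebraMap B (B ⊗[T] (T ⧸ I)) (algebraMap T B t) by
        rw [← IsScalarTower.algebraMap_apply T B (B ⊗[T] (T ⧸ I))]
        exact ((Algebra.TensorProduct.includeRight : (T ⧸ I) →ₐ[T] B ⊗[T] (T ⧸ I)).commutes t)]
    exact e.commutes _
  have : Algebra.IsPushout A₀ A (T ⧸ I) (B ⧸ J) := by
    have : Algebra.IsPushout A₀ T A B := (inferInstance : Algebra.IsPushout A₀ A T B).symm
    exact ((Algebra.IsPushout.comp_iff (R := A₀) (S := T) (T := T ⧸ I) (R' := A) (S' := B) (T' := B ⧸ J)).mpr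
      (Algebra.IsPushout.symm ‹Algebra.IsPushout T B (T ⧸ I) (B ⧸ J)›).symm.symm).symm
  have : Algebra.FiniteType A₀ (T ⧸ I) := inferInstance
  obtain ⟨C, hC, hflat⟩ := Groth.FlatMorOne.exists_stage_flat_global (R₀ := A₀) (R := A) (S₀ := T ⧸ I)
    (S := B ⧸ J) (M₀ := T ⧸ I) (M := B ⧸ J) (f₀ := Algebra.linearMap (T ⧸ I) (B ⧸ J))
    (IsBaseChange.linearMap (T ⧸ I) (B ⧸ J))
  have hflatC := hflat C hC le_rfl
  let T' := C ⊗[A₀] T
  let _ := (stageHom T B C).toRingHom.toAlgebra
  obtain ⟨_, _⟩ := stageHom_isPushout T B C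
  let g' : Fin r → T' := fun i => (1 : C) ⊗ₜ[A₀] g i
  have : IsNoetherianRing C := isNoetherianRing_of_fg hC
  have : Module.Flat C (C ⊗[A₀] (T ⧸ I)) := Module.Flat.of_linearEquiv
    (((AlgebraTensorModule.rid (T ⧸ I) (C ⊗[A₀] (T ⧸ I)) (C ⊗[A₀] (T ⧸ I))).restrictScalars C).symm)
  have : Module.Flat C (T' ⧸ Ideal.span (Set.range g')) := flat_tensor_quotient_span g C
  have hcomp : algebraMap T' B ∘ g' = algebraMap T B ∘ g := funext fun i => by
    show stageHom T B C ((1 : C) ⊗ₜ[A₀] g i) = _
    simp [stageHom]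
  exact flat_atPrime_of_model_flat (A₀ := C) (T := T') g' q (hcomp ▸ hg)
    fun i => show (algebraMap T' B ∘ g') i ∈ q by rw [hcomp]; exact hq i

omit A₀

/-- A finitely presented algebra is flat at the points of a relatively `H₁`-regular closed subscheme. -/
theorem flat_atPrime_of_h1 {A B : Type u} [CommRing A] [CommRing B] [Algebra A B] [Algebra.FinitePresentation A B]
    {r : ℕ} (f : Fin r → B) (hf : CAlgX.IsH1Regular f) [Module.Flat A (B ⧸ Ideal.span (Set.range f))]
    (q : Ideal B) [q.IsPrime] (hq : ∀ i, f i ∈ q) : Module.Flat A (Localization.AtPrime q) := by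
  obtain ⟨R₀, hR₀, S₀, _, _, _, _, hS₀, hpush, -⟩ := Groth.FlatMorOne.exists_models A B B
  have : IsNoetherianRing R₀ := Algebra.FiniteType.isNoetherianRing ℤ R₀
  choose Cf hCf yf hyf using fun i => exists_stageHom_eq (A := A) (A₀ := R₀) S₀ B (f i)
  let C := (Finset.univ : Finset (Fin r)).sup Cf
  have hC : C.FG := Finset.sup_induction Subalgebra.fg_bot (fun A hA B hB => hA.sup hB) fun x _ => hCf x
  let T := C ⊗[R₀] S₀
  let g : Fin r → T := fun i =>
    (Subalgebra.inclusion (Finset.le_sup (f := Cf) (Finset.mem_univ i))).toLinearMap.rTensor S₀ (yf i)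
  let _ := (stageHom (A := A) (A₀ := R₀) S₀ B C).toRingHom.toAlgebra
  obtain ⟨_, _⟩ := stageHom_isPushout (A := A) (A₀ := R₀) S₀ B C
  have hcomp : algebraMap T B ∘ g = f := funext fun i => (stageHom_inclusion S₀ B _ _).trans (hyf i)
  have : IsNoetherianRing C := isNoetherianRing_of_fg hC
  have : Module.Flat A (B ⧸ Ideal.span (Set.range (algebraMap T B ∘ g))) := by rw [hcomp]; infer_instance
  exact flat_atPrime_of_model (A₀ := C) g q (hcomp ▸ hf) fun i => show (algebraMap T B ∘ g) i ∈ q by rw [hcomp]; exact hq i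

end Groth.KoszulLCI
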