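import Groth.Agent.KoszulLCI.FlatOfH1
import Groth.Agent.KoszulLCI.FibrewiseRegular
import Groth.Agent.FlatMorOne.FlatLocusOpen
import Groth.Agent.FlatMor2.FibCrit.SchemeCrit

/-!
# A relative `H₁`-regular immersion has a flat neighbourhood
-/

set_option autoImplicit false

universe u

open CategoryTheory CategoryTheory.Limits AlgebraicGeometry TensorProduct

namespace Groth.KoszulLCI

variable {X Y Z S : Scheme.{u}}

/-- Kinds of regular immersions at least as strong as `H₁`. -/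
theorem seq_h1 {R : Type u} [CommRing R] (k : RegImm.Kind) (hk : k ≠ .quasi) {l : List R} (h : k.Seq R l) :
    RegImm.Kind.Seq .h1 R l := by
  cases k with
  | regular => exact seq_h1_of_koszul (seq_koszul_of_regular h)
  | koszul => exact seq_h1_of_koszul h
  | h1 => exact h
  | quasi => exact absurd rfl hk

/-- Flatness at a point spreads to an open neighbourhood. -/
theorem exists_flat_nhd_of_flat_at (φ : X ⟶ S) [LocallyOfFinitePresentation φ] (U : X.affineOpens) (W : S.affineOpens)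
    (e : U.1 ≤ φ ⁻¹ᵁ W.1) (x : X) (hx : x ∈ U.1)
    (hflat' : letI := (φ.appLE W.1 U.1 e).hom.toAlgebra
      Module.Flat Γ(S, W.1) (LocalizedModule (U.2.primeIdealOf ⟨x, hx⟩).asIdeal.primeCompl Γ(X, U.1))) :
    ∃ O : X.Opens, x ∈ O ∧ Flat (O.ι ≫ φ) := by
  let _ := (φ.appLE W.1 U.1 e).hom.toAlgebra
  have : Algebra.FinitePresentation Γ(S, W.1) Γ(X, U.1) :=
    HasRingHomProperty.appLE (P := @LocallyOfFinitePresentation) φ ‹_› W U e
  obtain ⟨_, ⟨b, rfl⟩, hqb, hb⟩ := PrimeSpectrum.isTopologicalBasis_basic_opens.exists_subset_of_mem_open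
    (show U.2.primeIdealOf ⟨x, hx⟩ ∈ _ from hflat')
    (Groth.FlatMorOne.isOpen_flatLocus Γ(S, W.1) Γ(X, U.1) Γ(X, U.1))
  let Cb := Localization.Away b
  have hCb : Module.Flat Γ(S, W.1) Cb := by
    refine Module.flat_of_isLocalized_maximal Cb Cb (fun P _ => LocalizedModule P.primeCompl Cb)
      (fun P _ => LocalizedModule.mkLinearMap P.primeCompl Cb) fun P _ => ?_
    let p := P.comap (algebraMap Γ(X, U.1) Cb)
    have hp : b ∉ p := fun h' => (inferInstance : P.IsMaximal).ne_top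
      (Ideal.eq_top_of_isUnit_mem _ h' (IsLocalization.Away.algebraMap_isUnit b))
    have : Module.Flat Γ(S, W.1) (LocalizedModule p.primeCompl Γ(X, U.1)) := hb (show (⟨p, inferInstance⟩ : PrimeSpectrum _) ∈ _ from hp)
    have : IsLocalization.AtPrime (Localization.AtPrime P) p :=
      IsLocalization.isLocalization_isLocalization_atPrime_isLocalization (Submonoid.powers b) _ P
    exact Module.Flat.of_linearEquiv
      (((IsLocalizedModule.linearEquiv P.primeCompl (LocalizedModule.mkLinearMap P.primeCompl Cb)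
          (Algebra.linearMap Cb (Localization.AtPrime P))).restrictScalars Γ(S, W.1)).trans
        ((IsLocalizedModule.linearEquiv p.primeCompl (Algebra.linearMap Γ(X, U.1) (Localization.AtPrime P))
          (LocalizedModule.mkLinearMap p.primeCompl Γ(X, U.1))).restrictScalars Γ(S, W.1)))
  refine ⟨X.basicOpen b, (mem_basicOpen_iff U.2 b hx).mpr hqb, ?_⟩
  have hbW : X.basicOpen b ≤ φ ⁻¹ᵁ W.1 := (X.basicOpen_le b).trans e
  let _ := (φ.appLE W.1 (X.basicOpen b) hbW).hom.toAlgebra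
  let _ := (X.presheaf.map (homOfLE (X.basicOpen_le b)).op).hom.toAlgebra
  have : IsScalarTower Γ(S, W.1) Γ(X, U.1) Γ(X, X.basicOpen b) := .of_algebraMap_eq' (by
    show (φ.appLE W.1 (X.basicOpen b) _).hom = (X.presheaf.map _).hom.comp (φ.appLE W.1 U.1 e).hom
    rw [← CommRingCat.hom_comp, Scheme.Hom.appLE_map])
  have := U.2.isLocalization_basicOpen b
  have hflatb : Module.Flat Γ(S, W.1) Γ(X, X.basicOpen b) := Module.Flat.of_linearEquiv
    ((IsLocalization.algEquiv (Submonoid.powers b) Γ(X, X.basicOpen b) Cb).restrictScalars Γ(S, W.1)).toLinearEquiv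
  have : IsAffine (X.basicOpen b).toScheme := U.2.basicOpen b
  have : IsAffine W.1.toScheme := W.2
  rw [← Scheme.Hom.resLE_comp_ι φ hbW]
  refine MorphismProperty.comp_mem @Flat _ _ ?_ inferInstance
  rw [HasRingHomProperty.iff_of_isAffine (P := @Flat), Scheme.Hom.appTop, Scheme.Hom.app_eq_appLE,
    Scheme.Hom.resLE_appLE]
  exact (Scheme.Hom.appLE_congr _ _ W.1.ι_image_top (X.basicOpen b).ι_image_top (fun ψ => ψ.hom.Flat)).mpr hflatb

/-- Flatness of the stalk map spreads to an open neighbourhood. -/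
theorem exists_flat_nhd_of_stalkMap (φ : X ⟶ S) [LocallyOfFinitePresentation φ] (x : X)
    (hflat : (φ.stalkMap x).hom.Flat) : ∃ O : X.Opens, x ∈ O ∧ Flat (O.ι ≫ φ) := by
  obtain ⟨W, hW, hxW, -⟩ := exists_isAffineOpen_mem_and_subset (show φ x ∈ (⊤ : S.Opens) from trivial)
  obtain ⟨U, hU, hx, hUW'⟩ := exists_isAffineOpen_mem_and_subset (show x ∈ φ ⁻¹ᵁ W from hxW)
  have e : U ≤ φ ⁻¹ᵁ W := hUW'
  refine exists_flat_nhd_of_flat_at φ ⟨U, hU⟩ ⟨W, hW⟩ e x hx ?_
  let _ := (φ.appLE W U e).hom.toAlgebra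
  let _ := S.presheaf.algebra_section_stalk ⟨φ x, e hx⟩
  let _ := X.presheaf.algebra_section_stalk ⟨x, hx⟩
  let q := (hU.primeIdealOf ⟨x, hx⟩).asIdeal
  have : IsLocalization.AtPrime (X.presheaf.stalk x) q := hU.isLocalization_stalk ⟨x, hx⟩
  have : IsLocalization.AtPrime (S.presheaf.stalk (φ x)) (q.under Γ(S, W)) :=
    Groth.FlatMor2.FibCrit.isLocalization_stalk_under φ hW hU e x hx
  let _ : Algebra (S.presheaf.stalk (φ x)) (X.presheaf.stalk x) := (φ.stalkMap x).hom.toAlgebra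
  let _ : Algebra Γ(S, W) (X.presheaf.stalk x) :=
    ((algebraMap Γ(X, U) (X.presheaf.stalk x)).comp (algebraMap Γ(S, W) Γ(X, U))).toAlgebra
  have : IsScalarTower Γ(S, W) Γ(X, U) (X.presheaf.stalk x) := IsScalarTower.of_algebraMap_eq' rfl
  have : IsScalarTower Γ(S, W) (S.presheaf.stalk (φ x)) (X.presheaf.stalk x) :=
    IsScalarTower.of_algebraMap_eq fun a => (Groth.FlatMor2.FibCrit.stalkMap_germ_appLE φ e x hx a).symm
  have hst : Module.Flat Γ(S, W) (X.presheaf.stalk x) :=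
    (Groth.FlatMor2.FibCrit.flat_base_iff_local (Br := S.presheaf.stalk (φ x)) (q.under Γ(S, W))).mp
      (RingHom.flat_algebraMap_iff.mp hflat)
  exact Module.Flat.of_linearEquiv ((IsLocalizedModule.linearEquiv q.primeCompl
    (LocalizedModule.mkLinearMap q.primeCompl Γ(X, U))
    (Algebra.linearMap Γ(X, U) (X.presheaf.stalk x))).restrictScalars Γ(S, W))

/-- Near a point of a relative `H₁`-regular immersion the ambient scheme is flat. -/
theorem exists_flat_nhd (φ : X ⟶ S) [LocallyOfFinitePresentation φ] (k : RegImm.Kind) (hk : k ≠ .quasi)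
    (i : Z ⟶ X) [Flat (i ≫ φ)] (z : Z) (h : RegImm.IsRegularImmersionAt k i z) :
    ∃ O : X.Opens, i z ∈ O ∧ Flat (O.ι ≫ φ) := by
  obtain ⟨U, W, e, hz, hci, rs, hrs, hker⟩ := exists_chart φ k i z h
  let _ := (φ.appLE W.1 U.1 e).hom.toAlgebra
  have : Algebra.FinitePresentation Γ(S, W.1) Γ(X, U.1) :=
    HasRingHomProperty.appLE (P := @LocallyOfFinitePresentation) φ ‹_› W U e
  have hA := Groth.KoszulReg.isAffineOpen_preimage i U.1 U.2
  let _ := ((i ≫ φ).appLE W.1 (i ⁻¹ᵁ U.1) (fun y hy => e hy)).hom.toAlgebra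
  have hflatZ : Module.Flat Γ(S, W.1) Γ(Z, i ⁻¹ᵁ U.1) := Flat.flat_appLE (i ≫ φ) W.2 hA (fun y hy => e hy)
  let α : Γ(X, U.1) →ₐ[Γ(S, W.1)] Γ(Z, i ⁻¹ᵁ U.1) :=
    { (i.app U.1).hom with
      commutes' := fun x => by
        show (i.app U.1).hom ((φ.appLE W.1 U.1 e).hom x) = ((i ≫ φ).appLE W.1 (i ⁻¹ᵁ U.1) _).hom x
        rw [← RingHom.comp_apply, ← CommRingCat.hom_comp, Scheme.Hom.app_eq_appLE, Scheme.Hom.appLE_comp_appLE] }
  have hI : RingHom.ker α = Ideal.span (Set.range rs.get) := by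
    rw [Set.range_list_get]
    exact hker
  have : Module.Flat Γ(S, W.1) (Γ(X, U.1) ⧸ Ideal.span (Set.range rs.get)) := hI ▸ Module.Flat.of_linearEquiv
      (Ideal.quotientKerAlgEquivOfSurjective (f := α) (Groth.KoszulReg.surjective_app i U.1 U.2)).toLinearEquiv
  let q := (U.2.primeIdealOf ⟨i z, hz⟩).asIdeal
  have hq : ∀ j, rs.get j ∈ q := fun j =>
    ker_app_le_primeIdealOf i U.2 z hz (hker ▸ mem_ofList (List.get_mem rs j))
  have hflat := flat_atPrime_of_h1 (A := Γ(S, W.1)) rs.get (seq_h1 k hk hrs) q hq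
  have hflat' : Module.Flat Γ(S, W.1) (LocalizedModule q.primeCompl Γ(X, U.1)) := Module.Flat.of_linearEquiv
    ((IsLocalizedModule.linearEquiv q.primeCompl (LocalizedModule.mkLinearMap q.primeCompl Γ(X, U.1))
      (Algebra.linearMap Γ(X, U.1) (Localization.AtPrime q))).restrictScalars Γ(S, W.1))
  exact exists_flat_nhd_of_flat_at φ U W e (i z) hz hflat'

set_option backward.isDefEq.respectTransparency false in
set_option backward.isDefEq.respectTransparency.types false in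
/-- A relative `H₁`-regular immersion lands in an open which is flat over the base. -/
theorem exists_flat_open (φ : X ⟶ S) [LocallyOfFinitePresentation φ] (k : RegImm.Kind) (hk : k ≠ .quasi)
    (i : Z ⟶ X) [Flat (i ≫ φ)] (h : ∀ z, RegImm.IsRegularImmersionAt k i z) :
    ∃ U : X.Opens, Set.range i ⊆ (U : Set X) ∧ Flat (U.ι ≫ φ) := by
  choose O hO hflat using fun z => exists_flat_nhd φ k hk i z (h z)
  refine ⟨⨆ z, O z, ?_, ?_⟩
  · rintro _ ⟨z, rfl⟩
    exact TopologicalSpace.Opens.mem_iSup.mpr ⟨z, hO z⟩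
  · rw [IsZariskiLocalAtSource.iff_of_openCover (P := @Flat.{u}) (Scheme.openCoverOfIsOpenCover _
      (fun z => (⨆ w, O w).ι ⁻¹ᵁ O z) (TopologicalSpace.IsOpenCover.mk (top_unique fun y _ => ?_)))]
    · intro z
      show Flat (((⨆ w, O w).ι ⁻¹ᵁ O z).ι ≫ (⨆ w, O w).ι ≫ φ)
      have hle : O z ≤ ⨆ w, O w := le_iSup O z
      rw [← Category.assoc, show ((⨆ w, O w).ι ⁻¹ᵁ O z).ι ≫ (⨆ w, O w).ι =
        ((⨆ w, O w).ι.resLE (O z) _ le_rfl) ≫ (O z).ι from (Scheme.Hom.resLE_comp_ι _ _).symm, Category.assoc]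
      exact MorphismProperty.comp_mem @Flat _ _ inferInstance (hflat z)
    · obtain ⟨z, hz⟩ := TopologicalSpace.Opens.mem_iSup.mp y.2
      exact TopologicalSpace.Opens.mem_iSup.mpr ⟨z, hz⟩

set_option backward.isDefEq.respectTransparency false in
set_option backward.isDefEq.respectTransparency.types false in
/-- A regular immersion followed by an open immersion. -/
theorem isRegularImmersion_comp_openImmersion (k : RegImm.Kind) (m : Z ⟶ Y) (j : Y ⟶ X) [IsOpenImmersion j]
    (h : RegImm.IsRegularImmersion k m) : RegImm.IsRegularImmersion k (m ≫ j) := by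
  have := h.1
  refine ⟨inferInstance, fun z => ?_⟩
  obtain ⟨U, hz, hci, rs, hrs, hker⟩ := h.2 z
  have hpre : j ⁻¹ᵁ (j ''ᵁ U.1) = U.1 := j.preimage_image_eq U.1
  refine exists_seq_of_ker k (m ≫ j) z ⟨j ''ᵁ U.1, U.2.image_of_isOpenImmersion j⟩ ⟨m z, hz, rfl⟩ ?_
    (j.appIso U.1).inv.hom (RingHom.Flat.of_bijective (ConcreteCategory.bijective_of_isIso (j.appIso U.1).inv)) rs hrs ?_
  · show IsClosedImmersion ((m ≫ j) ∣_ (j ''ᵁ U.1))
    rw [morphismRestrict_comp]
    have : IsClosedImmersion (m ∣_ j ⁻¹ᵁ (j ''ᵁ U.1)) := hpre.symm ▸ hci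
    have hsurj : Function.Surjective (j ∣_ (j ''ᵁ U.1)) := fun y => by
      obtain ⟨u, hu, hy⟩ := y.2
      refine ⟨⟨u, u, hu, rfl⟩, Subtype.ext ?_⟩
      exact (congrArg (fun ψ : (↑(j ⁻¹ᵁ j ''ᵁ U.1) : Scheme.{u}) ⟶ X => ψ ⟨u, u, hu, rfl⟩)
        (morphismRestrict_ι j (j ''ᵁ U.1))).trans hy
    have : IsClosedImmersion (j ∣_ (j ''ᵁ U.1)) :=
      IsClosedImmersion.of_isPreimmersion _ (Set.range_eq_univ.mpr hsurj ▸ isClosed_univ)
    exact MorphismProperty.comp_mem @IsClosedImmersion _ _ ‹_› ‹_›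
  · rw [← Ideal.map_ofList, ← hker]
    show RingHom.ker ((m ≫ j).app (j ''ᵁ U.1)).hom = _
    have key : (j.appIso U.1).inv ≫ (m ≫ j).app (j ''ᵁ U.1) =
        m.app U.1 ≫ Z.presheaf.map (eqToHom (congrArg (m ⁻¹ᵁ ·) hpre)).op := by
      refine (congrArg (_ ≫ ·) (Scheme.Hom.comp_app m j _)).trans ((Category.assoc _ _ _).symm.trans ?_)
      refine (congrArg (· ≫ _) (Scheme.Hom.appIso_inv_app j U.1)).trans ?_
      exact m.naturality _
    ext x
    refine ⟨fun hx => ?_, fun hx => ?_⟩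
    · rw [show x = (j.appIso U.1).inv.hom ((j.appIso U.1).hom.hom x) from
        ((j.appIso U.1).hom_inv_id_apply x).symm] at hx ⊢
      refine Ideal.mem_map_of_mem _ ?_
      have h2 := congr_arg (fun ψ => ψ.hom ((j.appIso U.1).hom.hom x)) key
      simp only [CommRingCat.hom_comp, RingHom.comp_apply] at h2
      rw [RingHom.mem_ker.mp hx] at h2
      exact (ConcreteCategory.bijective_of_isIso
        (Z.presheaf.map (eqToHom (congrArg (m ⁻¹ᵁ ·) hpre)).op)).1 (h2.symm.trans (map_zero _).symm)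
    · refine (Ideal.map_le_iff_le_comap.mpr fun y hy => ?_) hx
      have h2 := congr_arg (fun ψ => ψ.hom y) key
      simp only [CommRingCat.hom_comp, RingHom.comp_apply] at h2
      refine RingHom.mem_ker.mpr (h2.trans ?_)
      rw [RingHom.mem_ker.mp hy, map_zero]

/-- A relative `H₁`-regular immersion is regular and stays so after base change. -/
theorem isRegularImmersion_regular_of_relH1 (φ : X ⟶ S) [LocallyOfFinitePresentation φ] (k : RegImm.Kind)
    (hk : k ≠ .quasi) (i : Z ⟶ X) [Flat (i ≫ φ)] (h : RegImm.IsRegularImmersion k i) :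
    RegImm.IsRegularImmersion .regular i ∧
      ∀ (S' : Scheme.{u}) (g : S' ⟶ S), RegImm.IsRegularImmersion .regular (pullback.snd i (pullback.fst φ g)) := by
  have := h.1
  obtain ⟨U, hU, hflat⟩ := exists_flat_open φ k hk i h.2
  let i₀ : Z ⟶ (U : Scheme.{u}) := IsOpenImmersion.lift U.ι i (by rwa [Scheme.Opens.range_ι])
  have hi₀ : i₀ ≫ U.ι = i := IsOpenImmersion.lift_fac _ _ _
  have hsq : IsPullback (𝟙 Z) i₀ i U.ι :=
    (IsPullback.of_horiz_isIso_mono ⟨by rw [Category.id_comp, hi₀]⟩)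
  have : IsImmersion i₀ := MorphismProperty.of_isPullback hsq inferInstance
  have h₀ : RegImm.IsRegularImmersion k i₀ :=
    ⟨inferInstance, fun z => isRegularImmersionAt_baseChange_kind k i U.ι i₀ (𝟙 Z) hsq z (h.2 _)⟩
  have : Flat (i₀ ≫ U.ι ≫ φ) := by rw [← Category.assoc, hi₀]; infer_instance
  refine ⟨hi₀ ▸ isRegularImmersion_comp_openImmersion .regular i₀ U.ι
    (isRegularImmersion_regular_of_flat (U.ι ≫ φ) k i₀ h₀), fun S' g => ?_⟩
  have hm := isRegularImmersion_regular_baseChange (U.ι ≫ φ) k i₀ h₀ S' g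
  let j : pullback (U.ι ≫ φ) g ⟶ pullback φ g :=
    pullback.map (U.ι ≫ φ) g φ g U.ι (𝟙 _) (𝟙 _) (by simp) (by simp)
  have hj : IsPullback (pullback.fst (U.ι ≫ φ) g) j U.ι (pullback.fst φ g) := by
    refine IsPullback.of_bot ?_ (pullback.lift_fst _ _ _).symm (IsPullback.of_hasPullback φ g)
    have hjs : j ≫ pullback.snd φ g = pullback.snd (U.ι ≫ φ) g :=
      (pullback.lift_snd _ _ _).trans (Category.comp_id _)
    rw [hjs]
    exact IsPullback.of_hasPullback (U.ι ≫ φ) g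
  have : IsOpenImmersion j := MorphismProperty.of_isPullback hj inferInstance
  have hbig : IsPullback (pullback.fst i₀ (pullback.fst (U.ι ≫ φ) g))
      (pullback.snd i₀ (pullback.fst (U.ι ≫ φ) g) ≫ j) i (pullback.fst φ g) :=
    hi₀ ▸ (IsPullback.of_hasPullback i₀ (pullback.fst (U.ι ≫ φ) g)).paste_vert hj
  let e := hbig.isoPullback
  have he : pullback.snd i (pullback.fst φ g) =
      e.inv ≫ pullback.snd i₀ (pullback.fst (U.ι ≫ φ) g) ≫ j := by
    rw [← hbig.isoPullback_inv_snd]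
  have hmj := isRegularImmersion_comp_openImmersion .regular _ j hm
  have hsq' : IsPullback e.inv (pullback.snd i (pullback.fst φ g))
      (pullback.snd i₀ (pullback.fst (U.ι ≫ φ) g) ≫ j) (𝟙 _) :=
    IsPullback.of_horiz_isIso ⟨by rw [Category.comp_id, he]⟩
  exact ⟨inferInstance, fun z => isRegularImmersionAt_baseChange_kind .regular _ (𝟙 _) _ _ hsq' z (hmj.2 _)⟩

end Groth.KoszulLCI
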