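import Groth.Agent.EGA41Two.FlatRegularFibre
import Groth.Agent.EGA41Two.QuasiRegularConv
import Groth.Agent.KoszulLCI.Kinds
import Groth.Prelude.Def_RegImm

/-!
# Flatness of the ambient scheme along a relative quasi-regular immersion at a Noetherian local ring
-/

set_option autoImplicit false
set_option linter.style.haveILetI false

universe u

open IsLocalRing RingTheory.Sequence TensorProduct CategoryTheory AlgebraicGeometry
open scoped Pointwise

namespace Groth.KoszulLCI

section Algebra

variable {A B : Type u} [CommRing A] [CommRing B] [IsLocalRing B] [IsNoetherianRing B] [Algebra A B]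

set_option maxHeartbeats 1600000 in
/-- The base ring need not be Noetherian. -/
theorem flat_of_flat_quotSMulTop_any (M : Type u) [AddCommGroup M] [Module B M] [Module A M]
    [IsScalarTower A B M] [Module.Finite B M] (f : B) (hf : f ∈ maximalIdeal B) (hr : IsSMulRegular M f)
    [Module.Flat A (QuotSMulTop f M)] : Module.Flat A M := by
  refine Module.Flat.iff_lTensor_injective.mpr fun J hJfg => ?_
  haveI : Module.Finite A J := Module.Finite.iff_fg.mpr hJfg
  haveI : Module.Finite B (M ⊗[A] J) := Groth.FlatMorOne.finite_tensor_left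
  let μ : M ⊗[A] J →ₗ[B] M ⊗[A] A := AlgebraTensorModule.map LinearMap.id J.subtype
  let K := LinearMap.ker μ
  let l : M →ₗ[A] M := (LinearMap.lsmul B M f).restrictScalars A
  let q : M →ₗ[A] QuotSMulTop f M := (Submodule.mkQ (f • (⊤ : Submodule B M))).restrictScalars A
  have hex : Function.Exact l q := fun x => by
    show Submodule.Quotient.mk x = 0 ↔ _
    rw [Submodule.Quotient.mk_eq_zero, Submodule.mem_smul_pointwise_iff_exists]
    exact ⟨fun ⟨y, _, hy⟩ => ⟨y, hy⟩, fun ⟨y, hy⟩ => ⟨y, trivial, hy⟩⟩
  have hlsmul : ∀ y, l.rTensor J y = f • y := fun y => by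
    induction y using TensorProduct.induction_on with
    | zero => simp
    | add a b ha hb => simp only [map_add, ha, hb, smul_add]
    | tmul m j => rw [LinearMap.rTensor_tmul, smul_tmul']; rfl
  have hregT : IsSMulRegular (M ⊗[A] A) f := fun x y hxy => by
    refine (AlgebraTensorModule.rid A B M).injective (hr ?_)
    show f • _ = f • _
    rw [← map_smul, ← map_smul]
    exact congrArg _ hxy
  have hK : K ≤ Ideal.span {f} • K := by
    intro x hx
    have h0 : q.rTensor J x = 0 := by
      refine (Module.Flat.lTensor_preserves_injective_linearMap (M := QuotSMulTop f M) J.subtype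
        Subtype.val_injective) ?_
      rw [map_zero]
      show (J.subtype.lTensor _ ∘ₗ q.rTensor J) x = 0
      rw [LinearMap.lTensor_comp_rTensor, ← LinearMap.rTensor_comp_lTensor, LinearMap.comp_apply,
        show J.subtype.lTensor M x = μ x from rfl, LinearMap.mem_ker.mp hx, map_zero]
    obtain ⟨y, rfl⟩ := (rTensor_exact J hex (Submodule.mkQ_surjective _) x).mp h0
    rw [hlsmul] at hx ⊢
    refine Submodule.smul_mem_smul (Ideal.mem_span_singleton_self f) (LinearMap.mem_ker.mpr (hregT ?_))
    show f • μ y = f • 0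
    rw [smul_zero, ← map_smul]
    exact LinearMap.mem_ker.mp hx
  have hKbot : K = ⊥ := Submodule.eq_bot_of_le_smul_of_le_jacobson_bot _ _ (IsNoetherian.noetherian K) hK
    ((Ideal.span_singleton_le_iff_mem _).mpr hf |>.trans (IsLocalRing.maximalIdeal_le_jacobson _))
  have hinj : Function.Injective μ := LinearMap.ker_eq_bot.mp hKbot
  exact hinj

/-- Flatness from flatness of the quotient by a regular sequence, over an arbitrary base. -/
theorem flat_of_flat_quotient_regular_any : ∀ (fs : List B) (M : Type u) [AddCommGroup M] [Module B M]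
    [Module A M] [IsScalarTower A B M] [Module.Finite B M], (∀ f ∈ fs, f ∈ maximalIdeal B) →
    IsWeaklyRegular M fs → Module.Flat A (M ⧸ (Ideal.ofList fs • (⊤ : Submodule B M))) → Module.Flat A M
  | [], M, _, _, _, _, _, _, _, hl => by
    have := hl
    exact Module.Flat.of_linearEquiv ((Submodule.quotEquivOfEqBot
      (Ideal.ofList ([] : List B) • (⊤ : Submodule B M))
      (by rw [Ideal.ofList_nil, Submodule.bot_smul])).restrictScalars A).symm
  | f :: rs, M, _, _, _, _, _, hfs, hreg, hl => by
    rw [isWeaklyRegular_cons_iff] at hreg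
    have := hl
    have := flat_of_flat_quotient_regular_any rs (QuotSMulTop f M) (fun g hg => hfs g (List.mem_cons_of_mem _ hg))
      hreg.2 (Module.Flat.of_linearEquiv
        ((Submodule.quotOfListConsSMulTopEquivQuotSMulTopInner M f rs).restrictScalars A).symm)
    exact flat_of_flat_quotSMulTop_any M f (hfs f List.mem_cons_self) hreg.1

/-- Flatness along a quasi-regular sequence with flat quotient, for a Noetherian local ring. -/
theorem flat_of_quasi_of_surjective {A L C : Type u} [CommRing A] [CommRing L] [IsLocalRing L] [IsNoetherianRing L]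
    [CommRing C] (g : A →+* L) (π : L →+* C) (hπ : Function.Surjective π) (hC : (π.comp g).Flat) (ls : List L)
    (hker : RingHom.ker π = Ideal.ofList ls) (hne : RingHom.ker π ≠ ⊤) (hq : CAlgX.IsQuasiRegular ls.get) :
    g.Flat := by
  have hmax : ∀ x ∈ ls, x ∈ maximalIdeal L := fun x hx =>
    IsLocalRing.le_maximalIdeal hne (hker.symm ▸ Ideal.subset_span hx)
  have hw : IsWeaklyRegular L ls := by
    have := Groth.EGA41Two.isWeaklyRegular_of_isQuasiRegular ls.length L ls.get
      (fun j => by rw [IsLocalRing.ringJacobson_eq_maximalIdeal]; exact hmax _ (List.get_mem ls j)) hq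
    rwa [List.ofFn_get] at this
  let _ := g.toAlgebra
  let _ : Algebra A C := (π.comp g).toAlgebra
  have : Module.Flat A C := hC
  let πA : L →ₐ[A] C := { π with commutes' := fun _ => rfl }
  have hπA : Function.Surjective πA := hπ
  exact flat_of_flat_quotient_regular_any ls L hmax hw
    (Module.Flat.of_linearEquiv (((Submodule.quotEquivOfEq _ (RingHom.ker πA)
      (by rw [smul_eq_mul, Ideal.mul_top]; exact hker.symm)).restrictScalars A).trans
        (Ideal.quotientKerAlgEquivOfSurjective hπA).toLinearEquiv))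

end Algebra

section Scheme

variable {Z X S : Scheme.{u}}

theorem ker_stalkMap_eq_map_of_restrict (i : Z ⟶ X) (U : X.affineOpens) [IsClosedImmersion (i ∣_ U.1)] (z : Z)
    (hzU : i z ∈ U.1) : RingHom.ker (i.stalkMap z).hom =
      (RingHom.ker (i.app U.1).hom).map (X.presheaf.germ U.1 (i z) hzU).hom := by
  haveI : IsAffine U.1 := U.2
  have hV : IsAffineOpen (i ⁻¹ᵁ U.1) := isAffine_of_isAffineHom (i ∣_ U.1)
  have hsurj : Function.Surjective (i.app U.1).hom := by
    have h1 := (i ∣_ U.1).app_surjective ⊤ (isAffineOpen_top _)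
    rw [morphismRestrict_app] at h1
    have h2 : Function.Surjective (i.app (U.1.ι ''ᵁ ⊤)).hom := by
      intro y
      obtain ⟨x, hx⟩ := h1 ((Z.presheaf.map (eqToHom (image_morphismRestrict_preimage i U.1 ⊤)).op).hom y)
      exact ⟨x, (ConcreteCategory.bijective_of_isIso
        (Z.presheaf.map (eqToHom (image_morphismRestrict_preimage i U.1 ⊤)).op)).1 hx⟩
    rwa [Scheme.Opens.ι_image_top] at h2
  letI := TopCat.Presheaf.algebra_section_stalk X.presheaf ⟨i z, hzU⟩
  letI := TopCat.Presheaf.algebra_section_stalk Z.presheaf (⟨z, hzU⟩ : (i ⁻¹ᵁ U.1 : Z.Opens))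
  have hlocX : IsLocalization.AtPrime (X.presheaf.stalk (i z)) (U.2.primeIdealOf ⟨i z, hzU⟩).asIdeal :=
    U.2.isLocalization_stalk ⟨i z, hzU⟩
  have hlocZ : IsLocalization.AtPrime (Z.presheaf.stalk z) (hV.primeIdealOf ⟨z, hzU⟩).asIdeal :=
    hV.isLocalization_stalk ⟨z, hzU⟩
  set p := (U.2.primeIdealOf ⟨i z, hzU⟩).asIdeal
  set q := (hV.primeIdealOf ⟨z, hzU⟩).asIdeal
  set φ := (i.app U.1).hom
  have hgerm : ∀ a, (i.stalkMap z).hom (algebraMap _ (X.presheaf.stalk (i z)) a) =
      algebraMap _ (Z.presheaf.stalk z) (φ a) := fun a ↦ Scheme.Hom.germ_stalkMap_apply i U.1 z hzU a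
  have hmem : ∀ a, a ∉ p → φ a ∉ q := by
    intro a ha hq
    have h1 : IsUnit ((i.stalkMap z).hom (algebraMap _ (X.presheaf.stalk (i z)) a)) :=
      (IsLocalization.map_units (X.presheaf.stalk (i z)) (⟨a, ha⟩ : p.primeCompl)).map _
    rw [hgerm, IsLocalization.AtPrime.isUnit_to_map_iff (Z.presheaf.stalk z) q] at h1
    exact h1 hq
  have hmem' : ∀ a, φ a ∉ q → a ∉ p := by
    intro a ha hp
    apply ha
    by_contra hnq
    have h1 : IsUnit ((i.stalkMap z).hom (algebraMap _ (X.presheaf.stalk (i z)) a)) := by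
      rw [hgerm]
      exact IsLocalization.map_units (Z.presheaf.stalk z) (⟨φ a, hnq⟩ : q.primeCompl)
    have h2 : IsUnit (algebraMap _ (X.presheaf.stalk (i z)) a) := (isUnit_map_iff (i.stalkMap z).hom _).mp h1
    exact (IsLocalization.AtPrime.isUnit_to_map_iff (X.presheaf.stalk (i z)) p a).mp h2 hp
  show RingHom.ker (i.stalkMap z).hom = (RingHom.ker φ).map (algebraMap _ (X.presheaf.stalk (i z)))
  refine le_antisymm ?_ (Ideal.map_le_iff_le_comap.mpr fun a ha ↦ ?_)
  · intro w hw
    obtain ⟨a, s, rfl⟩ := IsLocalization.exists_mk'_eq p.primeCompl w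
    rw [IsLocalization.mk'_mem_map_algebraMap_iff]
    have h1 : (i.stalkMap z).hom (algebraMap _ _ a) = 0 := by
      rw [← IsLocalization.mk'_spec (X.presheaf.stalk (i z)) a s, map_mul, RingHom.mem_ker.mp hw, zero_mul]
    rw [hgerm, IsLocalization.map_eq_zero_iff q.primeCompl] at h1
    obtain ⟨⟨m, hm⟩, hma⟩ := h1
    obtain ⟨t, rfl⟩ := hsurj m
    exact ⟨t, hmem' t hm, RingHom.mem_ker.mpr (by rw [map_mul]; exact hma)⟩
  · rw [Ideal.mem_comap, RingHom.mem_ker, hgerm, RingHom.mem_ker.mp ha, map_zero]


end Scheme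

end Groth.KoszulLCI
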