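import Groth.Agent.AlgSpCartier.RegKindsAlg
import Groth.Agent.EGA41Two.QuasiRegularConv

/-!
# Quotients of quasi-regular and `H₁`-regular sequences, and choices of generators
-/

set_option autoImplicit false
set_option linter.style.haveILetI false
set_option linter.unusedSectionVars false

universe u

open MvPolynomial Matrix

namespace Groth.KoszulLCI

variable {A : Type u} [CommRing A]

theorem isH1Regular_quotient {c : ℕ} (f : Fin (c + 1) → A) (hf : CAlgX.IsH1Regular f) :
    CAlgX.IsH1Regular fun i : Fin c => Ideal.Quotient.mk (Ideal.span {f 0}) (f i.succ) := by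
  classical
  intro v hv
  choose a ha using fun i => Ideal.Quotient.mk_surjective (v i)
  have hv' : Ideal.Quotient.mk (Ideal.span {f 0}) (∑ i, a i * f i.succ) = 0 := by
    rw [map_sum, ← hv]
    simp [ha]
  obtain ⟨t, ht⟩ := Ideal.mem_span_singleton'.mp (Ideal.Quotient.eq_zero_iff_mem.mp hv')
  have hrel := hf (Fin.cons (-t) a) (by simp [Fin.sum_univ_succ, ← ht])
  let π := Ideal.Quotient.mk (Ideal.span {f 0})
  have hx0 : π (f 0) = 0 := Ideal.Quotient.eq_zero_iff_mem.mpr (Ideal.mem_span_singleton_self _)
  have key : ∀ w ∈ Submodule.span A {v : Fin (c + 1) → A | ∃ i j, v = Pi.single i (f j) - Pi.single j (f i)},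
      (fun k : Fin c => π (w k.succ)) ∈ Submodule.span (A ⧸ Ideal.span {f 0})
        {v : Fin c → A ⧸ Ideal.span {f 0} | ∃ i j, v = Pi.single i (π (f j.succ)) - Pi.single j (π (f i.succ))} := by
    intro w hw
    induction hw using Submodule.span_induction with
    | mem w hw =>
      obtain ⟨i, j, rfl⟩ := hw
      cases i using Fin.cases with
      | zero =>
        cases j using Fin.cases with
        | zero =>
          convert Submodule.zero_mem _ using 1
          funext k
          simp
        | succ j =>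
          convert Submodule.zero_mem _ using 1
          funext k
          simp [Pi.single_apply, hx0, apply_ite π]
      | succ i =>
        cases j using Fin.cases with
        | zero =>
          convert Submodule.zero_mem _ using 1
          funext k
          simp [Pi.single_apply, hx0, apply_ite π]
        | succ j =>
          refine Submodule.subset_span ⟨i, j, ?_⟩
          funext k
          simp [Pi.single_apply, apply_ite π]
    | zero => convert Submodule.zero_mem _ using 1; funext k; simp
    | add x y _ _ hx hy => convert add_mem hx hy using 1; funext k; simp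
    | smul r x _ hx => convert Submodule.smul_mem _ (π r) hx using 1; funext k; simp
  convert key _ hrel using 1
  funext k
  simp [π, ha]

/-- The kind quasi or `H₁` passes to the quotient by a prefix. -/
theorem seq_quotient_prefix (k : RegImm.Kind) (hk : k = .h1 ∨ k = .quasi) : ∀ (l₁ l₂ : List A) {B : Type u}
    [CommRing B] (π : A →+* B), Function.Surjective π → RingHom.ker π = Ideal.ofList l₁ →
    k.Seq A (l₁ ++ l₂) → k.Seq B (l₂.map π) := by
  suffices key : ∀ (n : ℕ) {A : Type u} [CommRing A] (l₁ l₂ : List A), l₁.length = n → ∀ {B : Type u}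
      [CommRing B] (π : A →+* B), Function.Surjective π → RingHom.ker π = Ideal.ofList l₁ →
      k.Seq A (l₁ ++ l₂) → k.Seq B (l₂.map π) from fun l₁ l₂ => key _ l₁ l₂ rfl
  intro n
  induction n with
  | zero =>
    intro A _ l₁ l₂ hlen B _ π hπ hker h
    obtain rfl := List.length_eq_zero_iff.mp hlen
    have hinj : Function.Injective π := (RingHom.injective_iff_ker_eq_bot π).mpr (by rw [hker, Ideal.ofList_nil])
    rcases hk with rfl | rfl
    · show CAlgX.IsH1Regular (l₂.map π).get
      rw [get_map]
      exact cast_transfer (fun c g => CAlgX.IsH1Regular (c := c) g) (List.length_map (as := l₂) π) (π ∘ l₂.get)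
        (isH1Regular_map π (RingHom.Flat.of_bijective ⟨hinj, hπ⟩) h)
    · show CAlgX.IsQuasiRegular (l₂.map π).get
      rw [get_map]
      exact cast_transfer (fun c g => CAlgX.IsQuasiRegular (c := c) g) (List.length_map (as := l₂) π) (π ∘ l₂.get)
        (isQuasiRegular_map π (RingHom.Flat.of_bijective ⟨hinj, hπ⟩) h)
  | succ n ih =>
    intro A _ l₁ l₂ hlen B _ π hπ hker h
    obtain ⟨a, l, rfl⟩ := List.exists_cons_of_length_eq_add_one hlen
    let π₀ := Ideal.Quotient.mk (Ideal.span {a})
    have hle : Ideal.span {a} ≤ RingHom.ker π := by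
      rw [hker, Ideal.ofList_cons]
      exact le_sup_left
    let π₁ : A ⧸ Ideal.span {a} →+* B := Ideal.Quotient.lift (Ideal.span {a}) π hle
    have hπ₁ : Function.Surjective π₁ := fun b => by
      obtain ⟨x, rfl⟩ := hπ b
      exact ⟨π₀ x, rfl⟩
    have hker₁ : RingHom.ker π₁ = Ideal.ofList (l.map π₀) := by
      rw [Ideal.ker_quotient_lift, hker, ← Ideal.map_ofList, Ideal.ofList_cons, Ideal.map_sup,
        Ideal.map_quotient_self, bot_sup_eq]
    have h' : k.Seq (A ⧸ Ideal.span {a}) ((l ++ l₂).map π₀) := by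
      rcases hk with rfl | rfl
      · show CAlgX.IsH1Regular ((l ++ l₂).map π₀).get
        rw [get_map]
        exact cast_transfer (fun c g => CAlgX.IsH1Regular (c := c) g) (List.length_map (as := l ++ l₂) π₀)
          (π₀ ∘ (l ++ l₂).get) (isH1Regular_quotient (a :: (l ++ l₂)).get h)
      · show CAlgX.IsQuasiRegular ((l ++ l₂).map π₀).get
        rw [get_map]
        exact cast_transfer (fun c g => CAlgX.IsQuasiRegular (c := c) g) (List.length_map (as := l ++ l₂) π₀)
          (π₀ ∘ (l ++ l₂).get) (Groth.EGA41Two.isQuasiRegular_quotient (a :: (l ++ l₂)).get h)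
    rw [List.map_append] at h'
    have := ih (l.map π₀) (l₂.map π₀) (by simpa using hlen) π₁ hπ₁ hker₁ h'
    rwa [List.map_map, ← RingHom.coe_comp, show π₁.comp π₀ = π from RingHom.ext fun x => rfl] at this

/-- An invertible linear change of a quasi-regular sequence is quasi-regular. -/
theorem isQuasiRegular_mulVec {t : ℕ} (f : Fin t → A) (hf : CAlgX.IsQuasiRegular f)
    (M N : Matrix (Fin t) (Fin t) A) (hNM : N * M = 1) (hMN : M * N = 1) : CAlgX.IsQuasiRegular (M *ᵥ f) := by
  classical
  let S (M : Matrix (Fin t) (Fin t) A) : MvPolynomial (Fin t) A →ₐ[A] MvPolynomial (Fin t) A :=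
    aeval fun i => ∑ l, C (M i l) * X l
  have hev : ∀ (M : Matrix (Fin t) (Fin t) A) (g : Fin t → A) (P), eval g (S M P) = eval (M *ᵥ g) P := by
    intro M g P
    induction P using MvPolynomial.induction_on with
    | C a => simp [S]
    | add p q hp hq => simp [map_add, hp, hq]
    | mul_X p i hp =>
      rw [map_mul, map_mul, map_mul, hp]
      congr 1
      simp [S, mulVec, dotProduct]
  have hspan : Ideal.span (Set.range (M *ᵥ f)) = Ideal.span (Set.range f) := by
    refine le_antisymm (Ideal.span_le.mpr ?_) (Ideal.span_le.mpr ?_)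
    · rintro _ ⟨i, rfl⟩
      show ∑ l, M i l * f l ∈ _
      exact sum_mem fun l _ => Ideal.mul_mem_left _ _ (Ideal.subset_span ⟨l, rfl⟩)
    · rintro _ ⟨i, rfl⟩
      rw [show f i = (N *ᵥ (M *ᵥ f)) i by rw [mulVec_mulVec, hNM, one_mulVec]]
      show ∑ l, N i l * (M *ᵥ f) l ∈ _
      exact sum_mem fun l _ => Ideal.mul_mem_left _ _ (Ideal.subset_span ⟨l, rfl⟩)
  intro n P hP hPJ d
  rw [hspan] at hPJ ⊢
  let q := Ideal.Quotient.mk (Ideal.span (Set.range f))
  have hhom : (S M P).IsHomogeneous n := by
    have := hP.aeval (fun i => ∑ l, C (M i l) * X l) (n := 1) (fun i =>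
      IsHomogeneous.sum _ _ _ fun l _ => by simpa using (isHomogeneous_C _ (M i l)).mul (isHomogeneous_X A l))
    rwa [one_mul] at this
  have h0 : MvPolynomial.map q (S M P) = 0 := by
    ext e
    rw [coeff_map, coeff_zero]
    exact Ideal.Quotient.eq_zero_iff_mem.mpr (hf n _ hhom (by rw [hev]; exact hPJ) e)
  have hinv : S N (S M P) = P := by
    have : (S N).comp (S M) = AlgHom.id A _ := by
      refine MvPolynomial.algHom_ext fun i => ?_
      simp only [AlgHom.comp_apply, S, aeval_X, map_sum, map_mul, aeval_C, AlgHom.id_apply,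
        MvPolynomial.algebraMap_eq, Finset.mul_sum]
      rw [Finset.sum_comm]
      have h1 : ∀ m, (∑ l, C (M i l) * (C (N l m) * X m) : MvPolynomial (Fin t) A) = C ((M * N) i m) * X m := by
        intro m
        simp [Matrix.mul_apply, map_sum, Finset.sum_mul, mul_assoc]
      simp only [h1, hMN, Matrix.one_apply]
      simp [apply_ite C, ite_mul]
    exact congr($this P)
  have h1 : MvPolynomial.map q (S N (S M P)) = 0 := by
    have : (MvPolynomial.map q).comp (S N).toRingHom =
        (aeval fun i => ∑ l, C (q (N i l)) * X l : MvPolynomial (Fin t) (A ⧸ Ideal.span (Set.range f)) →ₐ[A ⧸ Ideal.span (Set.range f)] _).toRingHom.comp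
          (MvPolynomial.map q) := by
      refine MvPolynomial.ringHom_ext (fun a => ?_) (fun i => ?_) <;> simp [S]
    have := congr($this (S M P))
    simp only [RingHom.comp_apply, AlgHom.toRingHom_eq_coe, RingHom.coe_coe] at this
    rw [this, h0, map_zero]
  rw [hinv] at h1
  rw [← Ideal.Quotient.eq_zero_iff_mem, ← coeff_map, h1, coeff_zero]

/-- Changing the generators by an invertible matrix preserves the kinds quasi and `H₁`. -/
theorem seq_mulVec (k : RegImm.Kind) (hk : k = .h1 ∨ k = .quasi) {t : ℕ} (f : Fin t → A)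
    (hf : k.Seq A (List.ofFn f)) (M N : Matrix (Fin t) (Fin t) A) (hNM : N * M = 1) (hMN : M * N = 1) :
    k.Seq A (List.ofFn (M *ᵥ f)) := by
  have hget : ∀ g : Fin t → A, (List.ofFn g).get = fun i => g (i.cast List.length_ofFn) :=
    fun g => funext fun i => List.get_ofFn g i
  have hq : CAlgX.IsQuasiRegular f := by
    have h := seq_quasi k hf
    have h' := cast_transfer (fun c g => CAlgX.IsQuasiRegular (c := c) g) (List.length_ofFn (f := f)).symm
      (List.ofFn f).get h
    convert h' using 1
    funext i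
    simp
  have hq' := isQuasiRegular_mulVec f hq M N hNM hMN
  rcases hk with rfl | rfl
  · have hh : CAlgX.IsH1Regular (M *ᵥ f) := by
      refine Groth.RegKinds.isH1Regular_of_span_eq hq' (g := (List.ofFn f).get) hf (le_antisymm ?_ ?_)
      · refine Ideal.span_le.mpr ?_
        rintro _ ⟨i, rfl⟩
        show ∑ l, M i l * f l ∈ _
        refine sum_mem fun l _ => Ideal.mul_mem_left _ _ (Ideal.subset_span ⟨l.cast List.length_ofFn.symm, ?_⟩)
        simp
      · refine Ideal.span_le.mpr ?_
        rintro _ ⟨i, rfl⟩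
        rw [List.get_ofFn]
        have hfi : ∀ l, f l = (N *ᵥ (M *ᵥ f)) l := fun l => by rw [mulVec_mulVec, hNM, one_mulVec]
        refine (hfi _).symm ▸ ?_
        show ∑ l, N _ l * (M *ᵥ f) l ∈ _
        exact sum_mem fun l _ => Ideal.mul_mem_left _ _ (Ideal.subset_span ⟨l, rfl⟩)
    show CAlgX.IsH1Regular (List.ofFn (M *ᵥ f)).get
    rw [hget]
    exact cast_transfer (fun c g => CAlgX.IsH1Regular (c := c) g) List.length_ofFn _ hh
  · show CAlgX.IsQuasiRegular (List.ofFn (M *ᵥ f)).get
    rw [hget]
    exact cast_transfer (fun c g => CAlgX.IsQuasiRegular (c := c) g) List.length_ofFn _ hq'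

/-- Generators of a sub-ideal independent modulo `pJ` extend, near `p`, to an invertible change of
generators of `J`. -/
theorem exists_complete (p : Ideal A) [p.IsPrime] {t s : ℕ} (f : Fin t → A) (g : Fin s → A)
    (hgJ : ∀ k, g k ∈ Ideal.span (Set.range f))
    (hind : ∀ v : Fin s → A, ∑ k, v k * g k ∈ p * Ideal.span (Set.range f) → ∀ k, v k ∈ p) :
    ∃ (r : ℕ) (hr : s + r = t) (h : Fin r → A) (M : Matrix (Fin t) (Fin t) A),
      M.det ∉ p ∧ M *ᵥ f = Fin.append g h ∘ Fin.cast hr.symm := by
  classical
  choose R hR using fun k => Ideal.mem_span_range_iff_exists_fun.mp (hgJ k)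
  let K := FractionRing (A ⧸ p)
  let φ : A →+* K := (algebraMap (A ⧸ p) K).comp (Ideal.Quotient.mk p)
  have hφ : ∀ a, φ a = 0 ↔ a ∈ p := fun a => by
    rw [RingHom.comp_apply, IsFractionRing.to_map_eq_zero_iff, Ideal.Quotient.eq_zero_iff_mem]
  let w : Fin s → (Fin t → K) := fun k => φ ∘ R k
  have hli : LinearIndependent K w := by
    refine Fintype.linearIndependent_iff.mpr fun c hc => ?_
    -- clear denominators
    obtain ⟨b, hb⟩ := IsLocalization.exist_integer_multiples_of_finite (nonZeroDivisors (A ⧸ p)) c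
    choose d hd using hb
    choose v hv using fun k => Ideal.Quotient.mk_surjective (d k)
    have hb0 : algebraMap (A ⧸ p) K b ≠ 0 := fun h => nonZeroDivisors.coe_ne_zero b (IsFractionRing.to_map_eq_zero_iff.mp h)
    have hvc : ∀ k, φ (v k) = algebraMap (A ⧸ p) K b * c k := fun k => by
      rw [RingHom.comp_apply, hv, hd, Algebra.smul_def]
    have hcoeff : ∀ l, ∑ k, v k * R k l ∈ p := fun l => by
      rw [← hφ, map_sum]
      have := congrFun hc l
      simp only [Finset.sum_apply, Pi.smul_apply, Pi.zero_apply, smul_eq_mul] at this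
      simp only [map_mul, hvc, mul_assoc, ← Finset.mul_sum]
      rw [show (∑ k, c k * φ (R k l)) = 0 from this, mul_zero]
    have hmem : ∑ k, v k * g k ∈ p * Ideal.span (Set.range f) := by
      have : ∑ k, v k * g k = ∑ l, (∑ k, v k * R k l) * f l := by
        simp only [← hR, Finset.mul_sum, Finset.sum_mul, mul_assoc]
        exact Finset.sum_comm
      rw [this]
      exact sum_mem fun l _ => Ideal.mul_mem_mul (hcoeff l) (Ideal.subset_span ⟨l, rfl⟩)
    intro k
    have := (hφ _).mpr (hind v hmem k)
    rw [hvc] at this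
    exact (mul_eq_zero.mp this).resolve_left hb0
  obtain ⟨W', hW'⟩ := (Submodule.span K (Set.range w)).exists_isCompl
  let B₀ := ((Module.Basis.span hli).prod (Module.finBasis K W')).map
    (Submodule.prodEquivOfIsCompl _ _ hW')
  let r := Module.finrank K W'
  let B : Module.Basis (Fin (s + r)) K (Fin t → K) := B₀.reindex finSumFinEquiv
  have hr : s + r = t := by
    have := Module.finrank_eq_card_basis B
    simp at this
    omega
  have hBl : ∀ k, B (Fin.castAdd r k) = w k := fun k => by
    have e : (finSumFinEquiv (m := s) (n := r)).symm (Fin.castAdd r k) = Sum.inl k := by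
      rw [Equiv.symm_apply_eq]; rfl
    simp only [B, B₀, Module.Basis.reindex_apply, e, Module.Basis.map_apply]
    simp [Module.Basis.span_apply]
  -- lift the complementary vectors
  have hlift : ∀ v : Fin t → K, ∃ (R' : Fin t → A) (c : K), c ≠ 0 ∧ φ ∘ R' = c • v := by
    intro v
    obtain ⟨b, hb⟩ := IsLocalization.exist_integer_multiples_of_finite (nonZeroDivisors (A ⧸ p)) v
    choose d hd using hb
    choose v' hv' using fun l => Ideal.Quotient.mk_surjective (d l)
    refine ⟨v', algebraMap (A ⧸ p) K b, fun h => nonZeroDivisors.coe_ne_zero b (IsFractionRing.to_map_eq_zero_iff.mp h), ?_⟩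
    funext l
    rw [Function.comp_apply, RingHom.comp_apply, hv', hd, Algebra.smul_def]
    rfl
  choose R' c hc hR' using fun m : Fin r => hlift (B (Fin.natAdd s m))
  let M : Matrix (Fin t) (Fin t) A := Matrix.of (Fin.append R R' ∘ Fin.cast hr.symm)
  refine ⟨r, hr, fun m => ∑ l, R' m l * f l, M, ?_, ?_⟩
  · rw [← hφ, RingHom.map_det]
    have hli' : LinearIndependent K (φ.mapMatrix M).row := by
      let u : Fin (s + r) → Kˣ := Fin.append (fun _ => 1) (fun m => Units.mk0 (c m) (hc m))
      have h2 : (φ.mapMatrix M).row = (u • ⇑B) ∘ Fin.cast hr.symm := by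
        funext a
        show φ ∘ Fin.append R R' (a.cast hr.symm) = _
        rw [Function.comp_apply]
        generalize a.cast hr.symm = b
        refine Fin.addCases (fun k => ?_) (fun m => ?_) b
        · simp [u, hBl, w]
        · simp [u, hR', Units.smul_def]
      rw [h2]
      exact (B.linearIndependent.units_smul u).comp _ (Fin.cast_injective _)
    exact (Matrix.isUnit_iff_isUnit_det _).mp (Matrix.linearIndependent_rows_iff_isUnit.mp hli') |>.ne_zero
  · funext a
    show ∑ l, Fin.append R R' (a.cast hr.symm) l * f l = _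
    rw [Function.comp_apply]
    generalize a.cast hr.symm = b
    refine Fin.addCases (fun k => ?_) (fun m => ?_) b
    · simp [hR]
    · simp

/-- A family of elements of `N` generating it near `p`, independent modulo `pN`. -/
theorem exists_local_generators (p : Ideal A) [p.IsPrime] {N : Ideal A} (hN : N.FG) :
    ∃ (s : ℕ) (g : Fin s → A), (∀ k, g k ∈ N) ∧ (∃ a ∉ p, ∀ c ∈ N, a * c ∈ Ideal.span (Set.range g)) ∧
      ∀ v : Fin s → A, ∑ k, v k * g k ∈ p * N → ∀ k, v k ∈ p := by
  classical
  let P : ℕ → Prop := fun s => ∃ g : Fin s → A, (∀ k, g k ∈ N) ∧ ∃ a ∉ p, ∀ c ∈ N, a * c ∈ Ideal.span (Set.range g)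
  have hex : ∃ s, P s := by
    obtain ⟨s, g, hg⟩ := Submodule.fg_iff_exists_fin_generating_family.mp hN
    exact ⟨s, g, fun k => hg ▸ Submodule.subset_span ⟨k, rfl⟩, 1,
      fun h => (inferInstance : p.IsPrime).ne_top ((Ideal.eq_top_iff_one _).mpr h),
      fun c hc => by rw [one_mul]; rw [← hg] at hc; exact hc⟩
  obtain ⟨g, hgN, a, ha, hac⟩ := Nat.find_spec hex
  refine ⟨_, g, hgN, ⟨a, ha, hac⟩, fun v hv k₀ => ?_⟩
  by_contra hk₀
  have hrep : ∀ x ∈ p * N, ∃ w : Fin (Nat.find hex) → A, (∀ k, w k ∈ p) ∧ ∑ k, w k * g k = a * x := by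
    intro x hx
    induction hx using Submodule.mul_induction_on' with
    | mem_mul_mem r hr n hn =>
      obtain ⟨w, hw⟩ := Ideal.mem_span_range_iff_exists_fun.mp (hac n hn)
      refine ⟨fun k => r * w k, fun k => Ideal.mul_mem_right _ _ hr, ?_⟩
      simp only [mul_assoc, ← Finset.mul_sum, hw]
      ring
    | add x _ y _ hx hy =>
      obtain ⟨w, h1, h2⟩ := hx
      obtain ⟨w', h1', h2'⟩ := hy
      exact ⟨w + w', fun k => add_mem (h1 k) (h1' k), by simp [add_mul, Finset.sum_add_distrib, h2, h2', mul_add]⟩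
  obtain ⟨w, hw, hws⟩ := hrep _ hv
  let d := a * v k₀ - w k₀
  have hd : d ∉ p := fun h => ((inferInstance : p.IsPrime).mem_or_mem (by simpa [d] using add_mem h (hw k₀))).elim ha hk₀
  have hrel : ∑ k, (a * v k - w k) * g k = 0 := by
    simp only [sub_mul, Finset.sum_sub_distrib, mul_assoc, ← Finset.mul_sum, hws, sub_self]
  obtain ⟨n, hn⟩ : ∃ n, Nat.find hex = n + 1 := Nat.exists_eq_succ_of_ne_zero (by have := k₀.2; omega)
  let g' := g ∘ Fin.cast hn.symm ∘ (k₀.cast hn).succAbove
  have hother : ∀ k, k ≠ k₀ → g k ∈ Ideal.span (Set.range g') := by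
    intro k hk
    obtain ⟨l, hl⟩ := Fin.exists_succAbove_eq (x := k.cast hn) (y := k₀.cast hn)
      (fun h => hk (Fin.cast_injective hn h))
    exact Ideal.subset_span ⟨l, by simp [g', Function.comp_apply, hl]⟩
  have hdk : d * g k₀ ∈ Ideal.span (Set.range g') := by
    rw [← Finset.add_sum_erase _ _ (Finset.mem_univ k₀), add_eq_zero_iff_eq_neg] at hrel
    rw [hrel]
    exact neg_mem (sum_mem fun l hl => Ideal.mul_mem_left _ _ (hother l (Finset.ne_of_mem_erase hl)))
  refine Nat.find_min hex (m := n) (by omega) ⟨g', fun l => hgN _, d * a,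
    fun h => ((inferInstance : p.IsPrime).mem_or_mem h).elim hd ha, fun c hc => ?_⟩
  obtain ⟨x, hx⟩ := Ideal.mem_span_range_iff_exists_fun.mp (hac c hc)
  rw [mul_assoc, ← hx, Finset.mul_sum]
  refine sum_mem fun k _ => ?_
  rw [mul_left_comm]
  refine Ideal.mul_mem_left _ _ ?_
  by_cases hk : k = k₀
  · exact hk ▸ hdk
  · exact Ideal.mul_mem_left _ _ (hother k hk)

end Groth.KoszulLCI
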