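import Groth.Agent.KoszulLCI.ConormalSplitMem
import Groth.Agent.KoszulLCI.KindQuotient

/-!
# Quasi- and `H₁`-regularity of the first immersion from split exactness of the conormal sequence
-/

set_option autoImplicit false
set_option linter.style.haveILetI false

universe u

open CategoryTheory Limits AlgebraicGeometry Opposite TopologicalSpace Matrix

namespace Groth.KoszulLCI

open Groth.OmegaSheaf

theorem fg_ker_of_finitePresentation {A B : Type u} [CommRing A] [CommRing B] (π : A →+* B)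
    (hπ : Function.Surjective π) (h : π.FinitePresentation) : (RingHom.ker π).FG := by
  let _ := π.toAlgebra
  have : Algebra.FinitePresentation A B := h
  exact Algebra.FinitePresentation.ker_fG_of_surjective (Algebra.ofId A B) hπ

theorem ofList_ofFn {A : Type u} [CommRing A] {n : ℕ} (f : Fin n → A) :
    Ideal.ofList (List.ofFn f) = Ideal.span (Set.range f) := by
  rw [Ideal.ofList]
  congr 1
  ext x
  simp

/-- The algebra of the descent of the kinds quasi and `H₁`, over a ring where the generators are split. -/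
theorem seq_of_split_generators (k : RegImm.Kind) (hk : k = .h1 ∨ k = .quasi) {A B : Type u} [CommRing A]
    [CommRing B] (π : A →+* B) (hπ : Function.Surjective π) {t s r : ℕ} (hr : s + r = t) (f : Fin t → A)
    (g : Fin s → A) (h : Fin r → A) (M : Matrix (Fin t) (Fin t) A) (hM : IsUnit M.det)
    (hMf : M *ᵥ f = Fin.append g h ∘ Fin.cast hr.symm) (hf : k.Seq A (List.ofFn f))
    (hker : RingHom.ker π = Ideal.span (Set.range g)) (K : Ideal B) (hK : K.comap π = Ideal.span (Set.range f)) :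
    k.Seq B ((List.ofFn h).map π) ∧ K = Ideal.ofList ((List.ofFn h).map π) := by
  subst hr
  have hseq := seq_mulVec k hk f hf M M⁻¹ (Matrix.nonsing_inv_mul M hM) (Matrix.mul_nonsing_inv M hM)
  rw [hMf, show Fin.append g h ∘ Fin.cast rfl = Fin.append g h from funext fun _ => rfl,
    List.ofFn_fin_append] at hseq
  refine ⟨seq_quotient_prefix k hk _ _ π hπ (by rw [hker, ofList_ofFn]) hseq, ?_⟩
  have hspan : Ideal.span (Set.range f) = Ideal.ofList (List.ofFn g ++ List.ofFn h) := by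
    rw [← List.ofFn_fin_append, ofList_ofFn, ← show Fin.append g h ∘ Fin.cast rfl = Fin.append g h from funext fun _ => rfl,
      ← hMf]
    refine le_antisymm (Ideal.span_le.mpr ?_) (Ideal.span_le.mpr ?_)
    · rintro _ ⟨i, rfl⟩
      rw [show f i = (M⁻¹ *ᵥ (M *ᵥ f)) i by rw [mulVec_mulVec, Matrix.nonsing_inv_mul M hM, one_mulVec]]
      show ∑ l, M⁻¹ i l * (M *ᵥ f) l ∈ _
      exact sum_mem fun l _ => Ideal.mul_mem_left _ _ (Ideal.subset_span ⟨l, rfl⟩)
    · rintro _ ⟨i, rfl⟩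
      show ∑ l, M i l * f l ∈ _
      exact sum_mem fun l _ => Ideal.mul_mem_left _ _ (Ideal.subset_span ⟨l, rfl⟩)
  rw [← Ideal.map_comap_of_surjective π hπ K, hK, hspan, Ideal.ofList_append, Ideal.map_sup,
    ofList_ofFn g, ← hker, (Ideal.map_eq_bot_iff_le_ker π).mpr le_rfl, bot_sup_eq, Ideal.map_ofList]

variable {Z Y X : Scheme.{u}} (i : Z ⟶ Y) (j : Y ⟶ X)

/-- Descent of the kinds quasi and `H₁` from `i ≫ j` to `i`. -/
theorem isRegularImmersion_of_retraction [IsImmersion i] [IsImmersion j] [QuasiCompact i] [QuasiCompact j]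
    [LocallyOfFinitePresentation j] (k : RegImm.Kind) (hk : k = .h1 ∨ k = .quasi)
    {ψ : (Scheme.Modules.pullback i).obj (Omega.conormal j) ⟶ Omega.conormal (i ≫ j)}
    (hψ : OmegaSh.IsConormalMap (i ≫ j) j (𝟙 X) i ψ)
    (hij : RegImm.IsRegularImmersion k (i ≫ j))
    (hret : ∀ z : Z, ∃ U : Z.Opens, z ∈ U ∧ ∀ V : Z.Opens, IsAffineOpen V → V ≤ U →
      ∃ r : Γ(Omega.conormal (i ≫ j), V) →+ Γ((Scheme.Modules.pullback i).obj (Omega.conormal j), V),
        (∀ (a : Γ(Z, V)) x, r (a • x) = a • r x) ∧ ∀ y, r (ψ.app V y) = y) :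
    RegImm.IsRegularImmersion k i := by
  refine ⟨inferInstance, fun z => ?_⟩
  obtain ⟨U, hzU, hrU⟩ := hret z
  obtain ⟨U₀, hzU₀, hci, rs, hrs, hker₀⟩ := hij.2 z
  have := hci
  obtain ⟨O, hO, hOU⟩ := (i ≫ j).isEmbedding.isOpen_iff.mp U.2
  obtain ⟨W, hkW, hzW, hWle⟩ := exists_conormalChart (i ≫ j) z (W₀ := U₀.1 ⊓ ⟨O, hO⟩ ⊓ j.coborderRange)
    ⟨⟨hzU₀, show (i ≫ j) z ∈ O from by rw [← Set.mem_preimage, hOU]; exact hzU⟩, subset_coborder ⟨i z, rfl⟩⟩
  have hjW : IsConormalChart j W := isConormalChart_of_le j hkW.affine fun p hp => (hWle hp).2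
  have hWU₀ : W ≤ U₀.1 := fun p hp => (hWle hp).1.1
  have hWU : (i ≫ j) ⁻¹ᵁ W ≤ U := fun p hp => by
    have : (i ≫ j) p ∈ O := (hWle hp).1.2
    rwa [← Set.mem_preimage, hOU] at this
  have hcij : IsClosedImmersion ((i ≫ j) ∣_ W) := Groth.KoszulReg.isClosedImmersion_restrict (i ≫ j) hWU₀
  have : IsClosedImmersion (j ∣_ j.coborderRange) := isClosedImmersion_restrict_coborder j
  have hcj : IsClosedImmersion (j ∣_ W) := Groth.KoszulReg.isClosedImmersion_restrict j fun p hp => (hWle hp).2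
  let θr := (X.presheaf.map (homOfLE hWU₀).op).hom
  have hflat : θr.Flat := by
    have := Flat.flat_appLE (𝟙 X) (U := U₀.1) U₀.2 (V := W) hkW.affine hWU₀
    exact this
  let f : Fin rs.length → Γ(X, W) := θr ∘ rs.get
  have hfl : List.ofFn f = rs.map θr := by rw [← List.map_ofFn, List.ofFn_get]
  have hJ : RingHom.ker ((i ≫ j).app W).hom = Ideal.ofList (rs.map θr) := by
    have hsq : IsPullback (𝟙 Z) (i ≫ j) (i ≫ j) (𝟙 X) := IsPullback.of_horiz_isIso ⟨by simp⟩
    rw [← Ideal.map_ofList, ← hker₀,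
      Groth.RegKinds.ker_app_baseChange (i ≫ j) (𝟙 X) (i ≫ j) (𝟙 Z) hsq U₀ hkW.affine hWU₀]
    congr 1
  have hJf : RingHom.ker ((i ≫ j).app W).hom = Ideal.span (Set.range f) := by
    rw [hJ, ← hfl, ofList_ofFn]
  let p := (hkW.affine.primeIdealOf ⟨(i ≫ j) z, hzW⟩).asIdeal
  have hJp : RingHom.ker ((i ≫ j).app W).hom ≤ p := ker_app_le_primeIdealOf (i ≫ j) hkW.affine z hzW
  have hfseq : k.Seq Γ(X, W) (List.ofFn f) := hfl ▸ seq_map k θr hflat hrs
    (hJ ▸ ne_top_of_le_ne_top (hkW.affine.primeIdealOf ⟨(i ≫ j) z, hzW⟩).isPrime.ne_top hJp)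
  let N := RingHom.ker (j.app W).hom
  have hNJ : N ≤ RingHom.ker ((i ≫ j).app W).hom := fun x hx => by
    show i.app (j ⁻¹ᵁ W) (j.app W x) = 0
    rw [show j.app W x = 0 from hx, map_zero]
  have hNfg : N.FG := by
    refine fg_ker_of_finitePresentation _ hjW.surjective ?_
    have := HasRingHomProperty.appLE (P := @LocallyOfFinitePresentation) j ‹_› ⟨W, hkW.affine⟩
      ⟨j ⁻¹ᵁ W, hjW.affine_preimage⟩ le_rfl
    rwa [← Scheme.Hom.app_eq_appLE] at this
  obtain ⟨r', hr', hrψ⟩ := hrU _ hkW.affine_preimage hWU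
  have H : N ⊓ p * RingHom.ker ((i ≫ j).app W).hom ≤ p * N :=
    inf_mul_le_of_retraction i j hψ hjW hkW r' hr' hrψ p hJp
  obtain ⟨s, g, hgN, ⟨a, ha, hac⟩, hind⟩ := exists_local_generators p hNfg
  obtain ⟨r, hr, h, M, hM, hMf⟩ := exists_complete p f g (fun k => hJf ▸ hNJ (hgN k)) (fun v hv => by
    rw [← hJf] at hv
    exact hind v (H ⟨sum_mem fun l _ => Ideal.mul_mem_left _ _ (hgN l), hv⟩))
  let d := a * M.det
  have hd : d ∉ p := fun h => ((inferInstance : p.IsPrime).mem_or_mem h).elim ha hM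
  have hzd : (i ≫ j) z ∈ X.basicOpen d := (mem_basicOpen_iff hkW.affine d hzW).mpr hd
  let θ := (X.presheaf.map (homOfLE (X.basicOpen_le d)).op).hom
  let _ := θ.toAlgebra
  have := hkW.affine.isLocalization_basicOpen d
  have hθflat : θ.Flat := IsLocalization.flat Γ(X, X.basicOpen d) (Submonoid.powers d)
  have hdu : IsUnit (θ d) := IsLocalization.map_units Γ(X, X.basicOpen d) (⟨d, Submonoid.mem_powers d⟩ : Submonoid.powers d)
  rw [map_mul] at hdu
  have hau : IsUnit (θ a) := isUnit_of_mul_isUnit_left hdu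
  have hMu : IsUnit (θ M.det) := isUnit_of_mul_isUnit_right hdu
  have hW₂ : IsAffineOpen (X.basicOpen d) := hkW.affine.basicOpen d
  have hcj₂ : IsClosedImmersion (j ∣_ X.basicOpen d) := Groth.KoszulReg.isClosedImmersion_restrict j (X.basicOpen_le d)
  have hcij₂ : IsClosedImmersion ((i ≫ j) ∣_ X.basicOpen d) :=
    Groth.KoszulReg.isClosedImmersion_restrict (i ≫ j) (X.basicOpen_le d)
  have hci₂ : IsClosedImmersion (i ∣_ j ⁻¹ᵁ X.basicOpen d) := by
    have : IsClosedImmersion ((i ∣_ j ⁻¹ᵁ X.basicOpen d) ≫ (j ∣_ X.basicOpen d)) := by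
      rw [← morphismRestrict_comp]; exact hcij₂
    exact IsClosedImmersion.of_comp_isClosedImmersion _ (j ∣_ X.basicOpen d)
  let π := (j.app (X.basicOpen d)).hom
  have hπ : Function.Surjective π := Groth.KoszulReg.surjective_app j (X.basicOpen d) hW₂
  have hkπ : RingHom.ker π = Ideal.span (Set.range (θ ∘ g)) := by
    rw [show RingHom.ker π = N.map θ from ker_app_basicOpen j hkW.affine d]
    refine le_antisymm (Ideal.map_le_iff_le_comap.mpr fun c hc => ?_) (Ideal.span_le.mpr ?_)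
    · have h1 : θ (a * c) ∈ Ideal.span (Set.range (θ ∘ g)) := by
        rw [Set.range_comp, ← Ideal.map_span]
        exact Ideal.mem_map_of_mem _ (hac c hc)
      rw [map_mul, Ideal.unit_mul_mem_iff_mem _ hau] at h1
      exact h1
    · rintro _ ⟨k, rfl⟩
      exact Ideal.mem_map_of_mem _ (hgN k)
  have hK : (RingHom.ker (i.app (j ⁻¹ᵁ X.basicOpen d)).hom).comap π = Ideal.span (Set.range (θ ∘ f)) := by
    rw [RingHom.comap_ker, Set.range_comp, ← Ideal.map_span, ← hJf]
    exact ker_app_basicOpen (i ≫ j) hkW.affine d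
  have hseq₂ : k.Seq Γ(X, X.basicOpen d) (List.ofFn (θ ∘ f)) := by
    rw [← List.map_ofFn]
    refine seq_map k θ hθflat hfseq ?_
    rw [List.map_ofFn, ofList_ofFn, ← hK]
    exact Ideal.comap_ne_top _ (ne_top_of_le_ne_top
      ((Groth.KoszulReg.isAffineOpen_preimage j (X.basicOpen d) hW₂).primeIdealOf ⟨i z, hzd⟩).isPrime.ne_top
      (ker_app_le_primeIdealOf i (Groth.KoszulReg.isAffineOpen_preimage j (X.basicOpen d) hW₂) z hzd))
  obtain ⟨h1, h2⟩ := seq_of_split_generators k hk π hπ hr (θ ∘ f) (θ ∘ g) (θ ∘ h) (θ.mapMatrix M)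
    (by rw [← RingHom.map_det]; exact hMu)
    (by
      funext b
      rw [show (θ.mapMatrix M *ᵥ (θ ∘ f)) b = θ ((M *ᵥ f) b) from (RingHom.map_mulVec θ M f b).symm, hMf]
      show θ (Fin.append g h (b.cast hr.symm)) = Fin.append (θ ∘ g) (θ ∘ h) (b.cast hr.symm)
      generalize b.cast hr.symm = c
      refine Fin.addCases (fun k => ?_) (fun m => ?_) c <;> simp)
    hseq₂ hkπ _ hK
  exact ⟨⟨j ⁻¹ᵁ X.basicOpen d, Groth.KoszulReg.isAffineOpen_preimage j _ hW₂⟩, hzd, hci₂, _, h1, h2⟩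

end Groth.KoszulLCI
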