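import Groth.Agent.KoszulLCI.KoszulDescentAlg
import Groth.Agent.KoszulLCI.Kinds
import Groth.Agent.EGA41Two.QuasiRegularConv
import Groth.Prelude.Def_CInt

/-!
# Regular ideals in a pair, over a Noetherian local ring
-/

set_option autoImplicit false
set_option linter.unusedSectionVars false

universe u

open IsLocalRing RingTheory.Sequence

namespace Groth.KoszulLCI

variable {A B : Type u} [CommRing A] [CommRing B] [IsLocalRing A] (θ : A →+* B) (hθ : Function.Surjective θ)

/-- `θ(f)` weakly regular on `B` means `f` weakly regular on `A ⧸ ker θ`. -/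
theorem isWeaklyRegular_map_iff_quotient (l ls : List A) (hker : RingHom.ker θ = Ideal.ofList ls) :
    Function.Surjective θ → (IsWeaklyRegular (A ⧸ (Ideal.ofList ls • (⊤ : Submodule A A))) l ↔
      IsWeaklyRegular B (l.map θ)) := by
  intro hθ
  let e : (A ⧸ (Ideal.ofList ls • (⊤ : Submodule A A))) ≃+ B :=
    (Submodule.quotEquivOfEq _ (RingHom.ker θ) (by rw [hker, smul_eq_mul, Ideal.mul_top])).toAddEquiv.trans
      (RingHom.quotientKerEquivOfSurjective hθ).toAddEquiv
  refine e.isWeaklyRegular_congr ?_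
  refine List.forall₂_map_right_iff.mpr (List.forall₂_same.mpr fun c _ x => ?_)
  obtain ⟨x, rfl⟩ := Submodule.Quotient.mk_surjective _ x
  exact map_mul θ c x

include hθ

theorem isRegularIdeal_comap_pair (hN : CInt.IsRegularIdeal (RingHom.ker θ)) {K : Ideal B}
    (hK : CInt.IsRegularIdeal K) : CInt.IsRegularIdeal (K.comap θ) := by
  obtain ⟨g, hg, hgI⟩ := hN
  obtain ⟨f, hf, hfI⟩ := hK
  obtain ⟨h, rfl⟩ : ∃ h : List A, h.map θ = f := (List.map_surjective_iff.mpr hθ) f
  have hne : K ≠ ⊤ := by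
    rw [← hfI]
    intro htop
    exact hf.top_ne_smul (by rw [htop, smul_eq_mul, Ideal.top_mul])
  refine ⟨g ++ h, ⟨(isWeaklyRegular_append_iff _ _ _).mpr ⟨hg.toIsWeaklyRegular,
    (isWeaklyRegular_map_iff_quotient θ h g hgI.symm hθ).mpr hf.toIsWeaklyRegular⟩, ?_⟩, ?_⟩
  all_goals
    have hJ : Ideal.ofList (g ++ h) = K.comap θ := by
      rw [← hfI, ← Ideal.map_ofList, Ideal.comap_map_of_surjective θ hθ, Ideal.ofList_append,
        ← RingHom.ker_eq_comap_bot, hgI, sup_comm]
  · rw [hJ, smul_eq_mul, Ideal.mul_top]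
    exact fun h => Ideal.comap_ne_top θ hne h.symm
  · exact hJ

/-- When `K` is `H₁`-regularly generated, `ker θ ⊓ q J ≤ q ker θ`. -/
theorem inf_mul_le_of_h1 {c : ℕ} (f : Fin c → B) (hf : CAlgX.IsH1Regular f) (q : Ideal A)
    (hq : (Ideal.span (Set.range f)).comap θ ≤ q) :
    RingHom.ker θ ⊓ q * (Ideal.span (Set.range f)).comap θ ≤ q * RingHom.ker θ := by
  classical
  choose g hg using fun i => hθ (f i)
  set N := RingHom.ker θ with hN
  set G := Ideal.span (Set.range g) with hG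
  set J := (Ideal.span (Set.range f)).comap θ with hJ
  have hJe : J = G ⊔ N := by
    have hfG : Ideal.span (Set.range f) = G.map θ := by
      rw [hG, Ideal.map_span, ← Set.range_comp]
      exact congrArg _ (congrArg _ (funext fun i => (hg i).symm))
    rw [hJ, hfG, Ideal.comap_map_of_surjective θ hθ, hN, RingHom.ker_eq_comap_bot]
  rintro u ⟨huN, huJ⟩
  have h2 : q * J = q * G ⊔ q * N := by rw [hJe, Ideal.mul_sup]
  obtain ⟨b, hb, b', hb', rfl⟩ := Submodule.mem_sup.mp (h2 ▸ huJ : u ∈ q * G ⊔ q * N)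
  refine add_mem ?_ hb'
  have hbN : θ b = 0 := RingHom.mem_ker.mp ((add_mem_cancel_right (Ideal.mul_le_right hb' : b' ∈ N)).mp huN)
  have hrep : ∀ x ∈ q * G, ∃ a : Fin c → A, ∑ k, a k * g k = x := by
    intro x hx
    exact Ideal.mem_span_range_iff_exists_fun.mp (Ideal.mul_le_right hx)
  obtain ⟨a, hab⟩ := hrep b hb
  have hrel : ∑ k, (θ ∘ a) k * f k = 0 := by
    rw [← hbN, ← hab, map_sum]
    simp [hg]
  have hlift : ∀ v ∈ Submodule.span B {v : Fin c → B | ∃ i j, v = Pi.single i (f j) - Pi.single j (f i)},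
      ∃ w : Fin c → A, θ ∘ w = v ∧ ∑ k, w k * g k = 0 := by
    intro v hv
    induction hv using Submodule.span_induction with
    | mem v hv =>
      obtain ⟨i, j, rfl⟩ := hv
      refine ⟨Pi.single i (g j) - Pi.single j (g i), ?_, ?_⟩
      · funext k
        simp [Pi.single_apply, apply_ite θ, hg]
      · simp only [Pi.sub_apply, sub_mul, Finset.sum_sub_distrib, Pi.single_apply, ite_mul, zero_mul,
          Finset.sum_ite_eq', Finset.mem_univ, if_true]
        ring
    | zero => exact ⟨0, by funext k; simp, by simp⟩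
    | add x y _ _ hx hy =>
      obtain ⟨w, h1, h3⟩ := hx
      obtain ⟨w', h1', h3'⟩ := hy
      exact ⟨w + w', by funext k; simp [← h1, ← h1'], by simp [add_mul, Finset.sum_add_distrib, h3, h3']⟩
    | smul r x _ hx =>
      obtain ⟨w, h1, h3⟩ := hx
      obtain ⟨r, rfl⟩ := hθ r
      exact ⟨r • w, by funext k; simp [← h1], by simp [mul_assoc, ← Finset.mul_sum, h3]⟩
  obtain ⟨w, hw, hw0⟩ := hlift _ (hf _ hrel)
  have : b = ∑ k, (a k - w k) * g k := by
    simp [sub_mul, Finset.sum_sub_distrib, hab, hw0]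
  rw [this]
  refine sum_mem fun k _ => ?_
  have hk : a k - w k ∈ N := RingHom.mem_ker.mpr (by
    rw [map_sub, sub_eq_zero]; exact (congrFun hw k).symm)
  rw [mul_comm (a k - w k)]
  exact Ideal.mul_mem_mul (hq (hJe ▸ Ideal.mem_sup_left (Ideal.subset_span ⟨k, rfl⟩))) hk

omit [CommRing B] hθ in
/-- A shortest list of generators is independent modulo `mN`. -/
theorem exists_minimal_generators {N : Ideal A} (hN : N.FG) :
    ∃ (s : ℕ) (g : Fin s → A), Ideal.span (Set.range g) = N ∧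
      ∀ v : Fin s → A, ∑ k, v k * g k ∈ maximalIdeal A * N → ∀ k, v k ∈ maximalIdeal A := by
  classical
  have hex : ∃ s, ∃ g : Fin s → A, Ideal.span (Set.range g) = N := Submodule.fg_iff_exists_fin_generating_family.mp hN
  obtain ⟨g, hg⟩ := Nat.find_spec hex
  refine ⟨_, g, hg, fun v hv k₀ => ?_⟩
  by_contra hk₀
  have hrep : ∀ x ∈ maximalIdeal A * N, ∃ a : Fin (Nat.find hex) → A,
      (∀ k, a k ∈ maximalIdeal A) ∧ ∑ k, a k * g k = x := by
    intro x hx
    induction hx using Submodule.mul_induction_on' with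
    | mem_mul_mem r hr s hs =>
      rw [← hg] at hs
      obtain ⟨t, ht⟩ := Ideal.mem_span_range_iff_exists_fun.mp hs
      exact ⟨fun k => r * t k, fun k => Ideal.mul_mem_right _ _ hr, by simp [mul_assoc, ← Finset.mul_sum, ht]⟩
    | add x _ y _ hx hy =>
      obtain ⟨a, ha, hax⟩ := hx
      obtain ⟨a', ha', hay⟩ := hy
      exact ⟨a + a', fun k => add_mem (ha k) (ha' k), by simp [add_mul, Finset.sum_add_distrib, hax, hay]⟩
  obtain ⟨a, ha, has⟩ := hrep _ hv
  have hu : IsUnit (v k₀ - a k₀) := by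
    rw [← IsLocalRing.notMem_maximalIdeal]
    exact fun h => hk₀ (by simpa using add_mem h (ha k₀))
  have hrel : ∑ k, (v k - a k) * g k = 0 := by simp [sub_mul, Finset.sum_sub_distrib, has]
  -- `g k₀` is redundant
  obtain ⟨n, hn⟩ : ∃ n, Nat.find hex = n + 1 := Nat.exists_eq_succ_of_ne_zero (by have := k₀.2; omega)
  refine Nat.find_min hex (m := n) (by omega) ⟨g ∘ Fin.cast hn.symm ∘ (k₀.cast hn).succAbove, ?_⟩
  refine le_antisymm (Ideal.span_le.mpr ?_) (hg.symm.le.trans (Ideal.span_le.mpr ?_))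
  · rintro _ ⟨k, rfl⟩
    exact hg.le (Ideal.subset_span ⟨_, rfl⟩)
  · rintro _ ⟨k, rfl⟩
    have hother : ∀ k, k ≠ k₀ → g k ∈ Ideal.span (Set.range (g ∘ Fin.cast hn.symm ∘ (k₀.cast hn).succAbove)) := by
      intro k hk
      obtain ⟨l, hl⟩ := Fin.exists_succAbove_eq (x := k.cast hn) (y := k₀.cast hn)
        (fun h => hk (Fin.cast_injective hn h))
      exact Ideal.subset_span ⟨l, by simp [Function.comp_apply, hl]⟩
    by_cases hk : k = k₀
    · subst hk
      rw [← Finset.add_sum_erase _ _ (Finset.mem_univ k), add_eq_zero_iff_eq_neg] at hrel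
      refine SetLike.mem_coe.mpr ((Ideal.unit_mul_mem_iff_mem _ hu).mp ?_)
      rw [hrel]
      exact neg_mem (sum_mem fun l hl => Ideal.mul_mem_left _ _ (hother l (Finset.ne_of_mem_erase hl)))
    · exact hother k hk

/-- If `J = θ⁻¹ K` is regular and `ker θ ⊓ mJ ≤ m ker θ`, both `ker θ` and `K` are regular. -/
theorem isRegularIdeal_pair_of_inf_le [IsNoetherianRing A] {K : Ideal B} (hJ : CInt.IsRegularIdeal (K.comap θ))
    (h : RingHom.ker θ ⊓ maximalIdeal A * K.comap θ ≤ maximalIdeal A * RingHom.ker θ) :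
    CInt.IsRegularIdeal (RingHom.ker θ) ∧ CInt.IsRegularIdeal K := by
  classical
  obtain ⟨f, hf, hfI⟩ := hJ
  have hne : K.comap θ ≠ ⊤ := by
    rw [← hfI]
    intro htop
    exact hf.top_ne_smul (by rw [htop, smul_eq_mul, Ideal.top_mul])
  have hKne : K ≠ ⊤ := fun hK => hne (by rw [hK, Ideal.comap_top])
  have hNJ : RingHom.ker θ ≤ K.comap θ := fun x hx =>
    Ideal.mem_comap.mpr ((RingHom.mem_ker.mp hx).symm ▸ K.zero_mem)
  obtain ⟨s, g, hg, hind⟩ := exists_minimal_generators (IsNoetherian.noetherian (RingHom.ker θ))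
  have hgN : ∀ k, g k ∈ RingHom.ker θ := fun k => hg ▸ Ideal.subset_span ⟨k, rfl⟩
  have hfk : LCI.IsKoszulRegularSeq A f := seq_koszul_of_regular hf
  obtain ⟨f', h2, -, h4⟩ := exists_extend (List.ofFn g) [] f (by simpa using hfk)
    (fun x hx => by
      obtain ⟨k, rfl⟩ := List.mem_ofFn.mp hx
      rw [List.nil_append, hfI]
      exact hNJ (hgN k))
    (fun l₁ a l₂ he => notMem_of_indep g _ (fun v hv k => by
      rw [List.nil_append, hfI, smul_eq_mul] at hv
      exact hind v (h ⟨sum_mem fun l _ => Ideal.mul_mem_left _ _ (hgN l), hv⟩) k) l₁ a l₂ he)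
  rw [List.nil_append] at h2 h4
  rw [List.nil_append, hfI] at h4
  have hproper : Ideal.ofList (List.ofFn g ++ f') ≠ ⊤ := h4 ▸ hne
  have hq : CAlgX.IsQuasiRegular (List.ofFn g ++ f').get := seq_quasi .koszul h2
  have hw : IsWeaklyRegular A (List.ofFn g ++ f') := by
    have := Groth.EGA41Two.isWeaklyRegular_of_isQuasiRegular _ A (List.ofFn g ++ f').get (fun j => by
      rw [IsLocalRing.ringJacobson_eq_maximalIdeal]
      exact IsLocalRing.le_maximalIdeal hproper (Ideal.subset_span (List.get_mem _ j))) hq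
    rwa [List.ofFn_get] at this
  obtain ⟨hw₁, hw₂⟩ := (isWeaklyRegular_append_iff _ _ _).mp hw
  have hgl : Ideal.ofList (List.ofFn g) = RingHom.ker θ := by
    rw [← hg, Ideal.ofList]
    congr 1
    ext x
    simp
  refine ⟨⟨_, ⟨hw₁, ?_⟩, hgl⟩, f'.map θ, ⟨(isWeaklyRegular_map_iff_quotient θ f' _ hgl.symm hθ).mp hw₂, ?_⟩, ?_⟩
  · rw [hgl, smul_eq_mul, Ideal.mul_top]
    exact fun htop => hne (top_le_iff.mp (htop.le.trans hNJ))
  all_goals
    have hKI : Ideal.ofList (f'.map θ) = K := by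
      rw [← Ideal.map_comap_of_surjective θ hθ K, ← h4, Ideal.ofList_append, Ideal.map_sup, hgl,
        (Ideal.map_eq_bot_iff_le_ker θ).mpr le_rfl, bot_sup_eq, Ideal.map_ofList]
  · rw [hKI, smul_eq_mul, Ideal.mul_top]
    exact hKne.symm
  · exact hKI

end Groth.KoszulLCI
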