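import Groth.Agent.KoszulLCI.LocallyRegular
import Groth.Agent.KoszulLCI.FlatQuasi
import Groth.Agent.OmegaSheaf.ConormalSections
import Groth.Prelude.Def_CInt

/-!
# Regular immersions at a point, on the stalk
-/

set_option autoImplicit false
set_option linter.style.haveILetI false

universe u

open RingTheory.Sequence CategoryTheory CategoryTheory.Limits AlgebraicGeometry

namespace Groth.KoszulLCI

/-- Spreading out a regular generating sequence from the local ring. -/
theorem lRegAt_of_atPrime {C : Type u} [CommRing C] [IsNoetherianRing C] (S : Type u) [CommRing S]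
    [Algebra C S] (I p : Ideal C) [p.IsPrime] [IsLocalization.AtPrime S p] (ss : List S)
    (hss : IsWeaklyRegular S ss) (hI : Ideal.ofList ss = I.map (algebraMap C S)) : LRegAt I p := by
  classical
  have hlift : ∀ s ∈ ss, ∃ r ∈ I, Associated s (algebraMap C S r) := by
    intro s hs
    have h1 : s ∈ I.map (algebraMap C S) := hI ▸ Ideal.subset_span hs
    obtain ⟨a, d, rfl⟩ := IsLocalization.exists_mk'_eq p.primeCompl s
    rw [IsLocalization.mk'_mem_map_algebraMap_iff] at h1
    obtain ⟨t, ht, hta⟩ := h1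
    refine ⟨t * a, hta, ?_⟩
    obtain ⟨u, hu⟩ := (IsLocalization.map_units S (⟨t, ht⟩ : p.primeCompl)).mul (IsLocalization.map_units S d)
    refine ⟨u, ?_⟩
    rw [hu, map_mul, ← IsLocalization.mk'_spec S a d]
    ring
  choose r hrI hr using hlift
  let rs : List C := ss.attach.map fun s => r s.1 s.2
  have hassoc : List.Forall₂ Associated ss (rs.map (algebraMap C S)) := by
    rw [List.forall₂_iff_get]
    refine ⟨by simp [rs], fun n h1 h2 => ?_⟩
    simp only [rs, List.get_eq_getElem, List.getElem_map, List.getElem_attach]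
    exact hr _ _
  let e := IsLocalization.algEquiv p.primeCompl S (Localization.AtPrime p)
  have hregp : IsWeaklyRegular (Localization.AtPrime p) (rs.map (algebraMap C (Localization.AtPrime p))) := by
    have h1 := Groth.FrobLCI.RegularSpread.isWeaklyRegular_of_forall₂ hassoc hss
    rw [isWeaklyRegular_map_algebraMap_iff] at h1 ⊢
    exact (e.toLinearEquiv.isWeaklyRegular_congr rs).mp h1
  obtain ⟨t₁, ht₁, ht₁reg⟩ := Groth.FrobLCI.RegularSpread.exists_away p rs hregp
  obtain ⟨t₂, ht₂, ht₂mem⟩ := Groth.FrobLCI.RegularSpread.exists_notMem_mul_mem p (Ideal.ofList rs)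
    (IsNoetherian.noetherian I) fun c hc => by
      have h1 : algebraMap C S c ∈ (Ideal.ofList rs).map (algebraMap C S) := by
        rw [Ideal.map_ofList, ← Groth.FrobLCI.RegularSpread.ofList_eq_of_forall₂ hassoc, hI]
        exact Ideal.mem_map_of_mem _ hc
      rw [IsLocalization.algebraMap_mem_map_algebraMap_iff p.primeCompl] at h1
      obtain ⟨m, hm, hmc⟩ := h1
      exact ⟨m, hm, hmc⟩
  refine ⟨t₁ * t₂, fun h => ((inferInstance : p.IsPrime).mem_or_mem h).elim ht₁ ht₂, rs,
    ht₁reg _ (dvd_mul_right _ _), le_antisymm ?_ ?_⟩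
  · rw [← Ideal.map_ofList]
    refine Ideal.map_mono (Ideal.span_le.mpr ?_)
    intro r' hr'
    obtain ⟨s, -, rfl⟩ := List.mem_map.mp hr'
    exact hrI _ _
  · rw [← Ideal.map_ofList]
    refine Ideal.map_le_iff_le_comap.mpr fun c hc => ?_
    rw [Ideal.mem_comap, IsLocalization.algebraMap_mem_map_algebraMap_iff (Submonoid.powers (t₁ * t₂))]
    refine ⟨t₁ * t₂, Submonoid.mem_powers _, ?_⟩
    rw [mul_assoc]
    exact Ideal.mul_mem_left _ _ (ht₂mem c hc)

variable {Z X : Scheme.{u}} (i : Z ⟶ X)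

theorem isRegularIdeal_ker_stalkMap (z : Z) (h : RegImm.IsRegularImmersionAt .regular i z) :
    CInt.IsRegularIdeal (RingHom.ker (i.stalkMap z).hom) := by
  obtain ⟨U, hzU, hci, rs, hrs, hker⟩ := h
  have := hci
  let _ := TopCat.Presheaf.algebra_section_stalk X.presheaf (⟨i z, hzU⟩ : U.1)
  have hloc : IsLocalization.AtPrime (X.presheaf.stalk (i z)) (U.2.primeIdealOf ⟨i z, hzU⟩).asIdeal :=
    U.2.isLocalization_stalk ⟨i z, hzU⟩
  refine ⟨rs.map (algebraMap _ (X.presheaf.stalk (i z))),
    IsWeaklyRegular.isRegular_of_isLocalization_of_mem (X.presheaf.stalk (i z))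
      (U.2.primeIdealOf ⟨i z, hzU⟩).asIdeal hrs.toIsWeaklyRegular
      (fun r hr => (hker ▸ ker_app_le_primeIdealOf i U.2 z hzU) (Ideal.subset_span hr)), ?_⟩
  rw [← Ideal.map_ofList, ← hker]
  exact (ker_stalkMap_eq_map_of_restrict i U z hzU).symm

/-- On a locally Noetherian scheme, an immersion is regular at a point iff its ideal at that point is
generated by a regular sequence. -/
theorem isRegularImmersionAt_regular_iff [IsImmersion i] [IsLocallyNoetherian X] (z : Z) :
    RegImm.IsRegularImmersionAt .regular i z ↔ CInt.IsRegularIdeal (RingHom.ker (i.stalkMap z).hom) := by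
  refine ⟨isRegularIdeal_ker_stalkMap i z, fun ⟨ss, hss, hI⟩ => ?_⟩
  obtain ⟨W, hW, hzW, hle⟩ := Groth.OmegaSheaf.exists_conormalChart i z (W₀ := i.coborderRange)
    (subset_coborder ⟨z, rfl⟩)
  have : IsClosedImmersion (i ∣_ i.coborderRange) := isClosedImmersion_restrict_coborder i
  have hci : IsClosedImmersion (i ∣_ W) := Groth.KoszulReg.isClosedImmersion_restrict i hle
  have : IsNoetherianRing Γ(X, W) := IsLocallyNoetherian.component_noetherian ⟨W, hW.affine⟩
  let _ := TopCat.Presheaf.algebra_section_stalk X.presheaf (⟨i z, hzW⟩ : W)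
  have hloc : IsLocalization.AtPrime (X.presheaf.stalk (i z)) (hW.affine.primeIdealOf ⟨i z, hzW⟩).asIdeal :=
    hW.affine.isLocalization_stalk ⟨i z, hzW⟩
  refine isRegularImmersionAt_regular_of_lRegAt i z ⟨W, hW.affine⟩ hzW hci
    (lRegAt_of_atPrime (X.presheaf.stalk (i z)) _ _ ss hss.toIsWeaklyRegular ?_)
  rw [hI, ker_stalkMap_eq_map_of_restrict i ⟨W, hW.affine⟩ z hzW]
  rfl

/-- The ideal at `z` of a composite of morphisms. -/
theorem ker_stalkMap_comp {Y : Scheme.{u}} (j : Z ⟶ Y) (k : Y ⟶ X) (z : Z) :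
    RingHom.ker ((j ≫ k).stalkMap z).hom = (RingHom.ker (j.stalkMap z).hom).comap (k.stalkMap (j z)).hom := by
  rw [RingHom.comap_ker, ← CommRingCat.hom_comp, ← Scheme.Hom.stalkMap_comp]
  rfl

end Groth.KoszulLCI
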