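import Groth.Agent.Ega4Algebra1.GlobalDim
import Groth.Agent.Ega4Algebra1.PdBasic
import Groth.Agent.DAlg.TorDim
import Groth.Agent.S7067
import Mathlib.RingTheory.LocalProperties.Projective
import Mathlib.RingTheory.RegularLocalRing.Defs
import Mathlib.RingTheory.Ideal.Height

/-!
# Finite global dimension of regular rings of finite Krull dimension
-/

set_option autoImplicit false

universe u

open CategoryTheory IsLocalRing TensorProduct

attribute [local instance] HasDerivedCategory.standard

namespace Groth.KoszulLCI

open Groth.Ega4Algebra1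

theorem pdLT_of_localization_maximal {A : Type u} [CommRing A] [IsNoetherianRing A] :
    ∀ (n : ℕ) (M : Type u) [AddCommGroup M] [Module A M] [Module.Finite A M],
      (∀ (m : Ideal A) [m.IsMaximal], PdLT (Localization.AtPrime m) (Localization.AtPrime m ⊗[A] M) (n + 1)) →
      PdLT A M (n + 1) := by
  intro n
  induction n with
  | zero =>
    intro M _ _ _ h
    have : Module.FinitePresentation A M := Module.finitePresentation_of_finite A M
    rw [PdLT.one_iff]
    refine Module.projective_of_localization_maximal' (fun I _ => Localization.AtPrime I)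
      (fun I _ => Localization.AtPrime I ⊗[A] M) (fun I _ => TensorProduct.mk A (Localization.AtPrime I) M 1)
      fun I hI => ?_
    have := h I
    exact PdLT.one_iff.mp this
  | succ n ih =>
    intro M _ _ _ h
    obtain ⟨k, f, hf⟩ := exists_surjective_fin A M
    refine (PdLT.ker_iff f hf n).mpr (ih _ fun m _ => ?_)
    obtain ⟨e⟩ := exists_equiv_ker_baseChange (Localization.AtPrime m) f
    exact PdLT.of_equiv e.symm
      ((PdLT.ker_iff (f.baseChange (Localization.AtPrime m)) (LinearMap.lTensor_surjective _ hf) n).mp (h m))

/-- A regular ring of Krull dimension `≤ d` has global dimension `≤ d`. -/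
theorem pdLT_of_isRegularRing {A : Type u} [CommRing A] [IsRegularRing A] {d : ℕ}
    (hd : ringKrullDim A ≤ d) (M : ModuleCat.{u} A) : HasProjectiveDimensionLT M (d + 1) := by
  refine pdLT_of_forall_finite d (fun M _ _ _ => pdLT_of_localization_maximal d M fun m hm => ?_) M
  have : IsRegularLocalRing (Localization.AtPrime m) := inferInstance
  obtain ⟨k, hk⟩ : ∃ k, k = (maximalIdeal (Localization.AtPrime m)).spanFinrank := ⟨_, rfl⟩
  refine PdLT.mono ?_ (pdLT_of_isRegularLocalRing (Localization.AtPrime m) k hk.symm _)
  have h1 := IsRegularLocalRing.spanFinrank_maximalIdeal (R := Localization.AtPrime m)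
  rw [← hk] at h1
  have h2 : ringKrullDim (Localization.AtPrime m) ≤ ringKrullDim A := by
    rw [IsLocalization.AtPrime.ringKrullDim_eq_height m]
    exact Ideal.height_le_ringKrullDim_of_ne_top hm.ne_top
  have h3 : (k : WithBot ℕ∞) ≤ (d : WithBot ℕ∞) := h1 ▸ h2.trans hd
  have : k ≤ d := by exact_mod_cast h3
  omega

/-- Every module over a regular ring of finite dimension has finite tor dimension. -/
theorem hasFiniteTorDim_of_isRegularRing (A : Type u) [CommRing A] [IsRegularRing A]
    (hdim : ringKrullDim A < ⊤) (M : Type u) [AddCommGroup M] [Module A M] : DRing.HasFiniteTorDim A M := by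
  obtain ⟨d, hd⟩ : ∃ d : ℕ, ringKrullDim A ≤ d := by
    induction h : ringKrullDim A with
    | bot => exact ⟨0, bot_le⟩
    | coe x =>
      induction x with
      | top => rw [h] at hdim; exact absurd hdim (lt_irrefl _)
      | coe k => exact ⟨k, le_rfl⟩
  exact ⟨d, (DAlg.hasTorDimLE_iff M d).2 (DAlg.torAmp_of_projectiveDimension d _ (pdLT_of_isRegularRing hd _))⟩

end Groth.KoszulLCI
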