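import Mathlib.RingTheory.Flat.Basic
import Mathlib.RingTheory.IsTensorProduct
import Mathlib.RingTheory.Ideal.Quotient.Operations
import Mathlib.LinearAlgebra.TensorProduct.RightExactness
import Mathlib.LinearAlgebra.TensorProduct.Pi
import Mathlib.RingTheory.Flat.Equalizer

/-!
# Relations among elements with flat quotient commute with base change
-/

set_option autoImplicit false

universe u

open TensorProduct

namespace Groth.KoszulLCI

/-- With flat quotient, the relations after base change are generated by the relations before it. -/
theorem relations_baseChange {A A' B B' : Type u} [CommRing A] [CommRing A'] [CommRing B] [CommRing B']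
    [Algebra A A'] [Algebra A B] [Algebra A' B'] [Algebra B B'] [Algebra A B'] [IsScalarTower A A' B']
    [IsScalarTower A B B'] [Algebra.IsPushout A A' B B'] {r : ℕ} (f : Fin r → B)
    [Module.Flat A (B ⧸ Ideal.span (Set.range f))] (v : Fin r → B')
    (hv : ∑ i, v i * algebraMap B B' (f i) = 0) :
    v ∈ Submodule.span B' ((fun z : Fin r → B => algebraMap B B' ∘ z) '' {z | ∑ i, z i * f i = 0}) := by
  classical
  let J : Ideal B := Ideal.span (Set.range f)
  let φ₀ : (Fin r → B) →ₗ[B] B := Fintype.linearCombination B f
  have hrange : LinearMap.range φ₀ = J := Fintype.range_linearCombination B f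
  let φ : (Fin r → B) →ₗ[A] J := (φ₀.codRestrict J fun x => hrange ▸ LinearMap.mem_range_self φ₀ x).restrictScalars A
  have hφ : Function.Surjective φ := fun x => by
    obtain ⟨y, hy⟩ : (x : B) ∈ LinearMap.range φ₀ := hrange.symm ▸ x.2
    exact ⟨y, Subtype.ext hy⟩
  let ι : J →ₗ[A] B := (Submodule.subtype J).restrictScalars A
  have hinj : Function.Injective (ι.lTensor A') := LinearMap.lTensor_injective_of_exact_of_flat
    ((Ideal.Quotient.mkₐ A J).toLinearMap) Ideal.Quotient.mk_surjective ι Subtype.val_injective
    (fun y => by simp [ι, Ideal.Quotient.eq_zero_iff_mem]) A'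
  let E := Algebra.IsPushout.equiv A A' B B'
  have hE : ∀ a b, E (a ⊗ₜ[A] b) = algebraMap A' B' a * algebraMap B B' b := fun a b =>
    Algebra.IsPushout.equiv_tmul ..
  let e := TensorProduct.piRight A A A' (fun _ : Fin r => B)
  have hval : ∀ w, E (ι.lTensor A' (φ.lTensor A' w)) = ∑ i, E (e w i) * algebraMap B B' (f i) := by
    intro w
    induction w using TensorProduct.induction_on with
    | zero => simp
    | add x y hx hy => simp [map_add, hx, hy, add_mul, Finset.sum_add_distrib]
    | tmul a x =>
      simp [e, φ, ι, φ₀, Fintype.linearCombination_apply, hE, Finset.mul_sum, mul_assoc]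
  obtain ⟨w, hw⟩ := e.surjective (fun i => E.symm (v i))
  have hv' : ∀ i, v i = E (e w i) := fun i => by rw [hw]; exact (E.apply_symm_apply _).symm
  have h0 : φ.lTensor A' w = 0 := hinj (E.injective (by
    rw [hval, map_zero, map_zero]
    simpa only [← hv'] using hv))
  obtain ⟨w', rfl⟩ := (lTensor_exact A' (LinearMap.exact_subtype_ker_map φ) hφ w).mp h0
  rw [show v = fun i => E (e ((LinearMap.ker φ).subtype.lTensor A' w') i) from funext hv']
  clear hv hv' hw h0
  induction w' using TensorProduct.induction_on with
  | zero =>
    simp only [map_zero, Pi.zero_apply]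
    exact zero_mem _
  | add x y hx hy =>
    simp only [map_add, Pi.add_apply]
    exact add_mem hx hy
  | tmul a x =>
    have hx : φ₀ x.1 = 0 := congrArg Subtype.val x.2
    have : (fun i => E (e ((LinearMap.ker φ).subtype.lTensor A' (a ⊗ₜ x)) i)) =
        algebraMap A' B' a • (algebraMap B B' ∘ x.1) := funext fun i => by simp [e, hE]
    rw [this]
    exact Submodule.smul_mem _ _ (Submodule.subset_span ⟨x.1,
      by simpa [φ₀, Fintype.linearCombination_apply] using hx, rfl⟩)

end Groth.KoszulLCI
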