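import Groth.Agent.KoszulLCI.Pres
import Mathlib.AlgebraicGeometry.AffineScheme

/-!
# Composition of local complete intersection morphisms
-/

set_option autoImplicit false

universe u

open CategoryTheory AlgebraicGeometry

namespace Groth.KoszulLCI

theorem isLCI_appLE_comp {X Y Z : Scheme.{u}} (f : X ⟶ Y) (g : Y ⟶ Z)
    (hf : ∀ (U : X.Opens) (V : Y.Opens) (hU : IsAffineOpen U) (hV : IsAffineOpen V) (hUV : U ≤ f ⁻¹ᵁ V),
        letI := (f.appLE V U hUV).hom.toAlgebra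
        LCI.IsLCI Γ(Y, V) Γ(X, U))
    (hg : ∀ (U : Y.Opens) (V : Z.Opens) (hU : IsAffineOpen U) (hV : IsAffineOpen V) (hUV : U ≤ g ⁻¹ᵁ V),
        letI := (g.appLE V U hUV).hom.toAlgebra
        LCI.IsLCI Γ(Z, V) Γ(Y, U))
    (U : X.Opens) (V : Z.Opens) (hU : IsAffineOpen U) (hV : IsAffineOpen V) (hUV : U ≤ (f ≫ g) ⁻¹ᵁ V) :
    letI := ((f ≫ g).appLE V U hUV).hom.toAlgebra
    LCI.IsLCI Γ(Z, V) Γ(X, U) := by
  let _ := ((f ≫ g).appLE V U hUV).hom.toAlgebra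
  refine isLCI_of_cover fun q hq => ?_
  let x : X := hU.fromSpec ⟨q, hq⟩
  have hxU : x ∈ U := hU.range_fromSpec.le ⟨_, rfl⟩
  have hxV : f x ∈ g ⁻¹ᵁ V := hUV hxU
  obtain ⟨W, hW, hxW, hWV'⟩ := exists_isAffineOpen_mem_and_subset hxV
  have hWV : W ≤ g ⁻¹ᵁ V := hWV'
  obtain ⟨s, hsW, hxs⟩ := hU.exists_basicOpen_le ⟨x, show x ∈ f ⁻¹ᵁ W from hxW⟩ hxU
  have hs : s ∉ q := by
    have h1 : (⟨q, hq⟩ : PrimeSpectrum Γ(X, U)) ∈ hU.fromSpec ⁻¹ᵁ X.basicOpen s := hxs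
    rwa [hU.fromSpec_preimage_basicOpen] at h1
  let T := Γ(X, X.basicOpen s)
  let _ : Algebra Γ(X, U) T := (X.presheaf.map (homOfLE (X.basicOpen_le s)).op).hom.toAlgebra
  have : IsLocalization.Away s T := hU.isLocalization_basicOpen s
  let _ : Algebra Γ(Z, V) T := ((f ≫ g).appLE V (X.basicOpen s) ((X.basicOpen_le s).trans hUV)).hom.toAlgebra
  have hST : IsScalarTower Γ(Z, V) Γ(X, U) T := IsScalarTower.of_algebraMap_eq' (by
    change ((f ≫ g).appLE _ _ _).hom = (X.presheaf.map _).hom.comp ((f ≫ g).appLE _ _ _).hom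
    rw [← CommRingCat.hom_comp, Scheme.Hom.appLE_map])
  refine ⟨s, hs, T, inferInstance, inferInstance, inferInstance, inferInstance, hST, ?_⟩
  let _ := (g.appLE V W hWV).hom.toAlgebra
  let _ : Algebra Γ(Y, W) T := (f.appLE W (X.basicOpen s) hsW).hom.toAlgebra
  have : IsScalarTower Γ(Z, V) Γ(Y, W) T := IsScalarTower.of_algebraMap_eq' (by
    change ((f ≫ g).appLE _ _ _).hom = (f.appLE _ _ _).hom.comp (g.appLE _ _ _).hom
    rw [← CommRingCat.hom_comp, Scheme.Hom.appLE_comp_appLE])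
  exact isLCI_trans (B := Γ(Y, W)) (hg W V hW hV hWV) (hf (X.basicOpen s) W (hU.basicOpen s) hW hsW)

end Groth.KoszulLCI
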