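import Groth.Agent.KoszulLCI.KindSplitDescent
import Groth.Agent.KoszulLCI.SmoothCancel
import Groth.Agent.AlgSpCartier.RegKindsLocal
import Groth.Agent.SmoothSlice.Coords
import Mathlib.Algebra.DualNumber
import Mathlib.RingTheory.Spectrum.Prime.Chevalley

/-!
# Descent of Koszul-, `H₁`- and quasi-regularity along a smooth algebra

`R → A` smooth, `A → C` surjective with `R → C` surjective: if the kernel of `A → C` is generated by a sequence
of one of these kinds, so is, locally, the kernel of `R → C`.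
-/

set_option autoImplicit false
universe u

open TensorProduct Matrix

namespace Groth.KoszulLCI

variable {R A : Type u} [CommRing R] [CommRing A] [Algebra R A]

/-- Etale coordinates lying in an ideal are independent in its conormal module. -/
theorem coords_indep {s : ℕ} (c : Fin s → A)
    (hc : (MvPolynomial.aeval (R := R) c).toRingHom.Etale) {I : Ideal A} (hcI : ∀ k, c k ∈ I)
    {q : Ideal A} (hq : I ≤ q) (v : Fin s → A) (hv : ∑ k, v k * c k ∈ q * I) (k : Fin s) : v k ∈ q := by
  classical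
  let P := MvPolynomial (Fin s) R
  let _ : Algebra P A := (MvPolynomial.aeval (R := R) c).toRingHom.toAlgebra
  have : Algebra.Etale P A := hc
  let T := A ⧸ q
  let val : Fin s → TrivSqZeroExt T T := fun l => TrivSqZeroExt.inr (if l = k then (1 : T) else 0)
  let θ : P →+* TrivSqZeroExt T T := (MvPolynomial.aeval (R := R) val).toRingHom
  let _ : Algebra P (TrivSqZeroExt T T) := θ.toAlgebra
  let fstR : TrivSqZeroExt T T →+* T := (TrivSqZeroExt.fstHom T T T).toRingHom
  let J : Ideal (TrivSqZeroExt T T) := RingHom.ker fstR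
  have hJ : J ^ 2 = ⊥ := by
    rw [eq_bot_iff, pow_two, Ideal.mul_le]
    intro x hx y hy
    have hx' : x.fst = 0 := hx
    have hy' : y.fst = 0 := hy
    refine TrivSqZeroExt.ext ?_ ?_ <;> simp [hx', hy']
  let g₀ : A →+* TrivSqZeroExt T T ⧸ J :=
    (Ideal.Quotient.mk J).comp ((TrivSqZeroExt.inlHom T T).comp (Ideal.Quotient.mk q))
  let g : A →ₐ[P] TrivSqZeroExt T T ⧸ J :=
    { g₀ with
      commutes' := fun p => by
        show Ideal.Quotient.mk J (TrivSqZeroExt.inl (Ideal.Quotient.mk q (MvPolynomial.aeval c p))) =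
          Ideal.Quotient.mk J (MvPolynomial.aeval val p)
        rw [Ideal.Quotient.eq]
        show (TrivSqZeroExt.inl (Ideal.Quotient.mk q (MvPolynomial.aeval c p)) - MvPolynomial.aeval val p).fst = 0
        rw [TrivSqZeroExt.fst_sub, TrivSqZeroExt.fst_inl, sub_eq_zero]
        induction p using MvPolynomial.induction_on with
        | C r =>
          simp [MvPolynomial.aeval_C, TrivSqZeroExt.algebraMap_eq_inl']
          rfl
        | add p₁ p₂ h₁ h₂ => simp [h₁, h₂]
        | mul_X p l h =>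
          simp only [map_mul, MvPolynomial.aeval_X, TrivSqZeroExt.fst_mul, ← h]
          rw [Ideal.Quotient.eq_zero_iff_mem.mpr (hq (hcI l))]
          simp [val] }
  obtain ⟨φ, hφ⟩ := Algebra.FormallySmooth.exists_lift J ⟨2, hJ⟩ g
  have hfst : ∀ a, (φ a).fst = Ideal.Quotient.mk q a := fun a => by
    have h := DFunLike.congr_fun hφ a
    have h' : (φ a - TrivSqZeroExt.inl (Ideal.Quotient.mk q a)).fst = 0 := Ideal.Quotient.eq.mp h
    simpa [sub_eq_zero] using h'
  have hφc : ∀ l, φ (c l) = val l := fun l => by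
    have h := φ.commutes (MvPolynomial.X l : P)
    rw [show algebraMap P A (MvPolynomial.X l) = c l from MvPolynomial.aeval_X c l] at h
    rw [h]
    exact MvPolynomial.aeval_X val l
  have hzero : φ (∑ l, v l * c l) = 0 := by
    refine Submodule.mul_induction_on hv (fun a ha b hb => ?_) (fun x y hx hy => by rw [map_add, hx, hy, add_zero])
    have h1 : (φ a).fst = 0 := by rw [hfst, Ideal.Quotient.eq_zero_iff_mem]; exact ha
    have h2 : (φ b).fst = 0 := by rw [hfst, Ideal.Quotient.eq_zero_iff_mem]; exact hq hb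
    rw [map_mul]
    refine TrivSqZeroExt.ext ?_ ?_ <;> simp [h1, h2]
  have := congrArg TrivSqZeroExt.snd hzero
  simp only [map_sum, map_mul, hφc, TrivSqZeroExt.snd_sum, TrivSqZeroExt.snd_zero] at this
  exact Ideal.Quotient.eq_zero_iff_mem.mp (by simpa [val, hfst] using this)

set_option backward.isDefEq.respectTransparency false in
set_option backward.isDefEq.respectTransparency.types false in
/-- The zero locus of etale coordinates is etale over the base. -/
theorem etale_quotient_coords {s : ℕ} (c : Fin s → A)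
    (hc : (MvPolynomial.aeval (R := R) c).toRingHom.Etale) :
    Algebra.Etale R (A ⧸ Ideal.span (Set.range c)) := by
  let P := MvPolynomial (Fin s) R
  let _ : Algebra P A := (MvPolynomial.aeval (R := R) c).toRingHom.toAlgebra
  have : Algebra.Etale P A := hc
  have : IsScalarTower R P A := .of_algebraMap_eq fun r => ((MvPolynomial.aeval (R := R) c).commutes r).symm
  let K : Ideal P := Ideal.span (Set.range MvPolynomial.X)
  have hK : K.map (algebraMap P A) = Ideal.span (Set.range c) := by
    rw [Ideal.map_span, ← Set.range_comp]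
    congr 1
    exact congrArg Set.range (funext fun l => MvPolynomial.aeval_X c l)
  have hb : Function.Bijective (algebraMap R (P ⧸ K)) := by
    refine ⟨fun a b hab => ?_, fun x => ?_⟩
    · have hle : K ≤ RingHom.ker (MvPolynomial.constantCoeff (R := R) (σ := Fin s)) :=
        Ideal.span_le.mpr (by rintro _ ⟨l, rfl⟩; exact MvPolynomial.constantCoeff_X (R := R) l)
      have := hle (Ideal.Quotient.eq.mp (hab : Ideal.Quotient.mk K (MvPolynomial.C a) = Ideal.Quotient.mk K (MvPolynomial.C b)))
      rw [RingHom.mem_ker, map_sub, MvPolynomial.algebraMap_eq, MvPolynomial.constantCoeff_C, MvPolynomial.constantCoeff_C, sub_eq_zero] at this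
      exact this
    · obtain ⟨p, rfl⟩ := Ideal.Quotient.mk_surjective x
      refine ⟨MvPolynomial.constantCoeff p, ?_⟩
      show Ideal.Quotient.mk K (MvPolynomial.C _) = Ideal.Quotient.mk K p
      induction p using MvPolynomial.induction_on with
      | C r => simp
      | add p₁ p₂ h₁ h₂ => simp [map_add, h₁, h₂]
      | mul_X p l h =>
        have hX : Ideal.Quotient.mk K (MvPolynomial.X l : P) = 0 :=
          Ideal.Quotient.eq_zero_iff_mem.mpr (Ideal.subset_span ⟨l, rfl⟩)
        rw [map_mul (Ideal.Quotient.mk K), hX, mul_zero]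
        simp
  have h0 : (algebraMap R (P ⧸ K)).Etale := RingHom.Etale.of_bijective hb
  have := RingHom.etale_algebraMap.mp h0
  have : Algebra.Etale (P ⧸ K) (A ⧸ K.map (algebraMap P A)) :=
    Algebra.Etale.of_equiv (A := (P ⧸ K) ⊗[P] A) (Algebra.TensorProduct.quotIdealMapEquivQuotTensor (A := P) A K).symm
  have : IsScalarTower R (P ⧸ K) (A ⧸ K.map (algebraMap P A)) := .of_algebraMap_smul (A := P ⧸ K) (M := A ⧸ K.map (algebraMap P A)) fun r x => by
    obtain ⟨a, rfl⟩ := Ideal.Quotient.mk_surjective x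
    show Ideal.Quotient.mk (K.map (algebraMap P A)) (algebraMap P A (algebraMap R P r)) *
      Ideal.Quotient.mk (K.map (algebraMap P A)) a = Ideal.Quotient.mk (K.map (algebraMap P A)) (r • a)
    rw [← map_mul, ← IsScalarTower.algebraMap_apply R P A, ← Algebra.smul_def]
  rw [← hK]
  exact Algebra.Etale.comp R (P ⧸ K) (A ⧸ K.map (algebraMap P A))

/-- An etale algebra with a surjection onto `R/J` localised: its kernel is `J` on a neighbourhood. -/
theorem exists_mul_mem {E C C₂ : Type u} [CommRing E] [CommRing C] [CommRing C₂] [Algebra R E]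
    [Algebra.FormallyUnramified R E] [Algebra R C] [Algebra R C₂] [Algebra C C₂] [IsScalarTower R C C₂]
    (hC : Function.Surjective (algebraMap R C)) (r : R) [IsLocalization.Away (algebraMap R C r) C₂]
    (ψ : E →ₐ[R] C₂) (hψ : Function.Surjective ψ) (hfg : (RingHom.ker ψ.toRingHom).FG) :
    ∃ e, ψ e = 1 ∧ ∀ x ∈ RingHom.ker ψ.toRingHom, e * x ∈ (RingHom.ker (algebraMap R C)).map (algebraMap R E) := by
  let K := RingHom.ker ψ.toRingHom
  let JE := (RingHom.ker (algebraMap R C)).map (algebraMap R E)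
  let L : Ideal E := K * K ⊔ JE
  let mk : E →ₐ[R] E ⧸ L := Ideal.Quotient.mkₐ R L
  have hJK : JE ≤ K := Ideal.map_le_iff_le_comap.mpr fun j hj => by
    show ψ (algebraMap R E j) = 0
    rw [ψ.commutes, IsScalarTower.algebraMap_apply R C C₂, RingHom.mem_ker.mp hj, map_zero]
  let K'' : Ideal (E ⧸ L) := K.map (Ideal.Quotient.mk L)
  have hnil : IsNilpotent K'' := by
    refine ⟨2, ?_⟩
    rw [pow_two, ← Ideal.map_mul, Ideal.zero_eq_bot, Ideal.map_eq_bot_iff_le_ker, Ideal.mk_ker]
    exact le_sup_left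
  -- the section `C₂ → E/L`
  let σ₀ : C →+* E ⧸ L := RingHom.liftOfSurjective (algebraMap R C) hC ⟨algebraMap R (E ⧸ L), fun j hj => by
    show algebraMap R (E ⧸ L) j = 0
    rw [IsScalarTower.algebraMap_apply R E (E ⧸ L)]
    exact Ideal.Quotient.eq_zero_iff_mem.mpr ((le_sup_right : JE ≤ L) (Ideal.mem_map_of_mem _ hj))⟩
  have hσ₀ : ∀ x, σ₀ (algebraMap R C x) = algebraMap R (E ⧸ L) x := fun x =>
    RingHom.liftOfSurjective_comp_apply _ _ _ _
  have hu : IsUnit (σ₀ (algebraMap R C r)) := by
    rw [hσ₀, ← IsNilpotent.isUnit_quotient_mk_iff hnil]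
    have hu2 : IsUnit (ψ (algebraMap R E r)) := by
      rw [ψ.commutes, IsScalarTower.algebraMap_apply R C C₂]
      exact IsLocalization.Away.algebraMap_isUnit _
    obtain ⟨w, hw⟩ := hψ ↑hu2.unit⁻¹
    refine isUnit_iff_exists_inv.mpr ⟨Ideal.Quotient.mk K'' (mk w), ?_⟩
    rw [← map_mul, ← map_one (Ideal.Quotient.mk K''), Ideal.Quotient.eq]
    have hmem : algebraMap R E r * w - 1 ∈ K := by
      show ψ _ = 0
      rw [map_sub, map_mul, map_one, hw, IsUnit.mul_val_inv, sub_self]
    have := Ideal.mem_map_of_mem (Ideal.Quotient.mk L) hmem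
    rw [map_sub, map_mul, map_one] at this
    exact this
  let σ : C₂ →+* E ⧸ L := IsLocalization.Away.lift (algebraMap R C r) hu
  let g₂ : E →ₐ[R] E ⧸ L :=
    { σ.comp ψ.toRingHom with
      commutes' := fun x => by
        show σ (ψ (algebraMap R E x)) = _
        rw [ψ.commutes, IsScalarTower.algebraMap_apply R C C₂, IsLocalization.Away.lift_eq, hσ₀] }
  have hagree : ∀ x, Ideal.Quotient.mk K'' (mk x) = Ideal.Quotient.mk K'' (g₂ x) := fun x => by
    -- both factor through `ψ`
    let q₁ : E →+* (E ⧸ L) ⧸ K'' := (Ideal.Quotient.mk K'').comp mk.toRingHom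
    have hker : RingHom.ker ψ.toRingHom ≤ RingHom.ker q₁ := fun y hy =>
      Ideal.Quotient.eq_zero_iff_mem.mpr (Ideal.mem_map_of_mem _ hy)
    let τ : C₂ →+* (E ⧸ L) ⧸ K'' := RingHom.liftOfSurjective ψ.toRingHom hψ ⟨q₁, hker⟩
    have hτ : ∀ y, τ (ψ y) = q₁ y := RingHom.liftOfSurjective_comp_apply _ _ _
    have heq : τ = (Ideal.Quotient.mk K'').comp σ := by
      refine IsLocalization.ringHom_ext (Submonoid.powers (algebraMap R C r)) (RingHom.ext fun z => ?_)
      obtain ⟨z, rfl⟩ := hC z
      simp only [RingHom.comp_apply, σ, IsLocalization.Away.lift_eq, hσ₀]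
      rw [← IsScalarTower.algebraMap_apply R C C₂, ← ψ.commutes, hτ]
      exact congrArg (Ideal.Quotient.mk K'') (mk.commutes z)
    exact (hτ x).symm.trans (RingHom.congr_fun heq (ψ x))
  have heqg : mk = g₂ := Algebra.FormallyUnramified.ext K'' hnil hagree
  have hKL : K ≤ L := fun x hx => Ideal.Quotient.eq_zero_iff_mem.mp (by
    show mk x = 0
    rw [heqg]
    show σ (ψ x) = 0
    rw [show ψ x = 0 from hx, map_zero])
  let π' := Ideal.Quotient.mk JE
  have hle : K.map π' ≤ K.map π' • K.map π' := by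
    rw [smul_eq_mul, ← Ideal.map_mul]
    refine (Ideal.map_mono hKL).trans ?_
    rw [Ideal.map_sup, Ideal.map_quotient_self, sup_bot_eq]
  obtain ⟨e', he', hz⟩ := Submodule.exists_sub_one_mem_and_smul_eq_zero_of_fg_of_le_smul _ _ (hfg.map π') hle
  obtain ⟨k, hk, hke⟩ := (Ideal.mem_map_iff_of_surjective π' Ideal.Quotient.mk_surjective).mp he'
  refine ⟨k + 1, by rw [map_add, map_one, show ψ k = 0 from hk, zero_add], fun x hx => Ideal.Quotient.eq_zero_iff_mem.mp ?_⟩
  show π' ((k + 1) * x) = 0
  rw [map_mul, map_add, map_one, hke, sub_add_cancel]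
  exact hz _ (Ideal.mem_map_of_mem _ hx)

/-- Splitting off a Koszul-regular sub-sequence independent modulo `pI`. -/
theorem exists_quotient_seq (k : RegImm.Kind) (hk : k ≠ .regular) {t s : ℕ} (f : Fin t → A) (g : Fin s → A)
    (hf : k.Seq A (List.ofFn f)) (hg : LCI.IsKoszulRegularSeq A (List.ofFn g))
    (p : Ideal A) [p.IsPrime] (hgI : ∀ l, g l ∈ Ideal.span (Set.range f))
    (hind : ∀ v : Fin s → A, ∑ l, v l * g l ∈ p * Ideal.span (Set.range f) → ∀ l, v l ∈ p) :
    ∃ d ∉ p, ∃ ls : List (Localization.Away d ⧸ (Ideal.span (Set.range g)).map (algebraMap A (Localization.Away d))),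
      k.Seq _ ls ∧ (Ideal.span (Set.range f)).map
        ((Ideal.Quotient.mk _).comp (algebraMap A (Localization.Away d))) = Ideal.ofList ls := by
  obtain ⟨r, hr, h, M, hM, hMf⟩ := exists_complete p f g hgI hind
  refine ⟨M.det, hM, ?_⟩
  let A₂ := Localization.Away M.det
  let θ := algebraMap A A₂
  have hθ : θ.Flat := RingHom.flat_algebraMap_iff.mpr inferInstance
  let π := Ideal.Quotient.mk ((Ideal.span (Set.range g)).map θ)
  have hker : RingHom.ker π = Ideal.span (Set.range (θ ∘ g)) := by
    rw [Ideal.mk_ker, Ideal.map_span, Set.range_comp]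
  have hMu : IsUnit (θ.mapMatrix M).det := by
    rw [← RingHom.map_det]; exact IsLocalization.Away.algebraMap_isUnit _
  have hMf₂ : θ.mapMatrix M *ᵥ (θ ∘ f) = Fin.append (θ ∘ g) (θ ∘ h) ∘ Fin.cast hr.symm := by
    funext b
    rw [show (θ.mapMatrix M *ᵥ (θ ∘ f)) b = θ ((M *ᵥ f) b) from (RingHom.map_mulVec θ M f b).symm, hMf]
    show θ (Fin.append g h (b.cast hr.symm)) = Fin.append (θ ∘ g) (θ ∘ h) (b.cast hr.symm)
    generalize b.cast hr.symm = c
    refine Fin.addCases (fun l => ?_) (fun m => ?_) c <;> simp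
  have hseq : k.Seq A₂ (List.ofFn (θ ∘ f)) := by
    rw [← List.map_ofFn]; exact Groth.RegKinds.seq_map_kind k hk θ hθ hf
  let K := (Ideal.span (Set.range f)).map (π.comp θ)
  have hK : K.comap π = Ideal.span (Set.range (θ ∘ f)) := by
    show ((Ideal.span (Set.range f)).map (π.comp θ)).comap π = _
    have hle : RingHom.ker π ≤ (Ideal.span (Set.range f)).map θ := by
      refine hker.le.trans (Ideal.span_le.mpr ?_)
      rintro _ ⟨l, rfl⟩
      exact Ideal.mem_map_of_mem θ (hgI l)
    rw [← Ideal.map_map]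
    refine (Ideal.comap_map_of_surjective' π Ideal.Quotient.mk_surjective _).trans ?_
    rw [sup_eq_left.mpr hle, Set.range_comp, ← Ideal.map_span]
  by_cases hkos : k = .koszul
  · subst hkos
    refine ⟨(List.ofFn (θ ∘ h)).map π, ?_⟩
    have hspan : Ideal.ofList (List.ofFn (θ ∘ g) ++ List.ofFn (θ ∘ h)) = Ideal.ofList (List.ofFn (θ ∘ f)) := by
      rw [← List.ofFn_fin_append, ofList_ofFn, ofList_ofFn]
      have e : Set.range (Fin.append (θ ∘ g) (θ ∘ h)) = Set.range (θ.mapMatrix M *ᵥ (θ ∘ f)) := by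
        rw [hMf₂]
        exact ((Fin.rightInverse_cast hr.symm).surjective.range_comp _).symm
      rw [e]
      refine le_antisymm (Ideal.span_le.mpr ?_) (Ideal.span_le.mpr ?_)
      · rintro _ ⟨i, rfl⟩
        show ∑ l, θ.mapMatrix M i l * (θ ∘ f) l ∈ _
        exact sum_mem fun l _ => Ideal.mul_mem_left _ _ (Ideal.subset_span ⟨l, rfl⟩)
      · rintro _ ⟨i, rfl⟩
        rw [show (θ ∘ f) i = ((θ.mapMatrix M)⁻¹ *ᵥ (θ.mapMatrix M *ᵥ (θ ∘ f))) i by
          rw [mulVec_mulVec, Matrix.nonsing_inv_mul _ hMu, one_mulVec]]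
        show ∑ l, (θ.mapMatrix M)⁻¹ i l * (θ.mapMatrix M *ᵥ (θ ∘ f)) l ∈ _
        exact sum_mem fun l _ => Ideal.mul_mem_left _ _ (Ideal.subset_span ⟨l, rfl⟩)
    have hg₂ : LCI.IsKoszulRegularSeq A₂ (List.ofFn (θ ∘ g)) := by
      rw [← List.map_ofFn]; exact Groth.KoszulReg.isKoszulRegularSeq_map θ hθ _ hg
    refine ⟨(isKoszulRegularSeq_append_iff (List.ofFn (θ ∘ g)) (List.ofFn (θ ∘ h)) hg₂ π
      Ideal.Quotient.mk_surjective (by rw [hker, ofList_ofFn])).mp ?_, ?_⟩
    · exact isKoszulRegularSeq_of_perm List.perm_append_comm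
        (isKoszulRegularSeq_of_ofList_eq hseq hspan (by simp [hr]))
    · show K = _
      rw [← Ideal.map_comap_of_surjective π Ideal.Quotient.mk_surjective K, hK, ← ofList_ofFn (θ ∘ f), ← hspan,
        Ideal.ofList_append, Ideal.map_sup, ofList_ofFn (θ ∘ g), ← hker,
        (Ideal.map_eq_bot_iff_le_ker π).mpr le_rfl, bot_sup_eq, Ideal.map_ofList]
  · obtain ⟨h1, h2⟩ := seq_of_split_generators k (by cases k <;> simp_all) π Ideal.Quotient.mk_surjective hr
      (θ ∘ f) (θ ∘ g) (θ ∘ h) (θ.mapMatrix M) hMu hMf₂ hseq hker K hK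
    exact ⟨_, h1, h2⟩

/-- Inverting a multiple of an element of the base. -/
theorem seq_away_of_away (k : RegImm.Kind) (hk : k ≠ .regular) (u : R) (P : Ideal R) [P.IsPrime] (hu : u ∉ P)
    (J : Ideal R) (s : Localization.Away u) (hs : s ∉ P.map (algebraMap R (Localization.Away u)))
    {ts : List (Localization.Away s)} (hts : k.Seq _ ts)
    (heq : (J.map (algebraMap R (Localization.Away u))).map (algebraMap _ (Localization.Away s)) = Ideal.ofList ts) :
    ∃ v ∉ P, ∃ ls : List (Localization.Away v), k.Seq _ ls ∧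
      J.map (algebraMap R (Localization.Away v)) = Ideal.ofList ls := by
  obtain ⟨m, s₀, hs₀⟩ := IsLocalization.Away.surj u s
  let Ru := Localization.Away u
  have hs₀P : s₀ ∉ P := fun h => by
    have h1 : s * algebraMap R Ru u ^ m ∈ P.map (algebraMap R Ru) := hs₀ ▸ Ideal.mem_map_of_mem _ h
    exact hs ((Ideal.mul_unit_mem_iff_mem _ ((IsLocalization.Away.algebraMap_isUnit u).pow m)).mp h1)
  refine ⟨u * s₀, fun h => ((inferInstance : P.IsPrime).mem_or_mem h).elim hu hs₀P, ?_⟩
  let Lv := Localization.Away (u * s₀)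
  have hv : IsUnit (algebraMap R Lv u * algebraMap R Lv s₀) := by
    rw [← map_mul]; exact IsLocalization.Away.algebraMap_isUnit _
  let θu : Ru →+* Lv := IsLocalization.Away.lift u (isUnit_of_mul_isUnit_left hv)
  have hθu : θu.Flat := flat_of_isLocalization (A := R) (Submonoid.powers u) θu (IsLocalization.Away.lift_comp u _)
  have hsu : IsUnit (θu s) := by
    refine isUnit_of_mul_isUnit_left (y := θu (algebraMap R Ru u ^ m)) ?_
    rw [← map_mul, hs₀, IsLocalization.Away.lift_eq]
    exact isUnit_of_mul_isUnit_right hv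
  let θ : Localization.Away s →+* Lv := IsLocalization.Away.lift s hsu
  have hθ : θ.Flat := by
    let _ := θu.toAlgebra
    have : Module.Flat Ru Lv := hθu
    exact flat_of_isLocalization (A := Ru) (Submonoid.powers s) θ (IsLocalization.Away.lift_comp s _)
  refine ⟨ts.map θ, Groth.RegKinds.seq_map_kind k hk θ hθ hts, ?_⟩
  rw [← Ideal.map_ofList, ← heq, Ideal.map_map, Ideal.map_map]
  congr 1
  refine RingHom.ext fun x => ?_
  simp [θ, θu, Lv]

/-- Descent along an etale algebra with a prime over the given one. -/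
theorem exists_seq_of_etale {E : Type u} [CommRing E] [Algebra R E] [Algebra.Etale R E]
    (k : RegImm.Kind) (hk : k ≠ .regular) (J : Ideal R) {ls : List E} (hls : k.Seq E ls)
    (hJ : J.map (algebraMap R E) = Ideal.ofList ls) (Q : Ideal E) [Q.IsPrime] (P : Ideal R) [P.IsPrime]
    (hQ : Q.comap (algebraMap R E) = P) (hJP : J ≤ P) :
    ∃ v ∉ P, ∃ ls : List (Localization.Away v), k.Seq _ ls ∧
      J.map (algebraMap R (Localization.Away v)) = Ideal.ofList ls := by
  have hopen := PrimeSpectrum.isOpenMap_comap_of_hasGoingDown_of_finitePresentation (R := R) (S := E)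
  have hmem : (⟨P, inferInstance⟩ : PrimeSpectrum R) ∈ Set.range (PrimeSpectrum.comap (algebraMap R E)) :=
    ⟨⟨Q, inferInstance⟩, PrimeSpectrum.ext hQ⟩
  obtain ⟨_, ⟨_, ⟨u, rfl⟩, rfl⟩, hPu, hle⟩ :=
    PrimeSpectrum.isBasis_basic_opens.exists_subset_of_mem_open hmem hopen.isOpen_range
  let Ru := Localization.Away u
  let Eu := Localization.Away (algebraMap R E u)
  let φ : Ru →+* Eu := Localization.awayMap (algebraMap R E) u
  have hφflat : φ.Flat :=
    RingHom.Flat.propertyIsLocal.localizationAwayPreserves (algebraMap R E) u _ _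
      (RingHom.flat_algebraMap_iff.mpr inferInstance)
  have hφc : φ.comp (algebraMap R Ru) = (algebraMap E Eu).comp (algebraMap R E) := IsLocalization.map_comp _
  let _ : Algebra Ru Eu := φ.toAlgebra
  have : Module.Flat Ru Eu := hφflat
  have : Module.FaithfullyFlat Ru Eu := by
    refine Module.FaithfullyFlat.of_comap_surjective fun p => ?_
    have hpu : u ∉ (p.comap (algebraMap R Ru)).asIdeal := fun h =>
      p.isPrime.ne_top (Ideal.eq_top_of_isUnit_mem _ h (IsLocalization.Away.algebraMap_isUnit u))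
    obtain ⟨q, hq⟩ := hle hpu
    have hqu : algebraMap R E u ∉ q.asIdeal := fun h => hpu (hq ▸ h)
    have hdis : Disjoint (Submonoid.powers (algebraMap R E u) : Set E) (q.asIdeal : Set E) :=
      Set.disjoint_left.mpr fun x hx hxq => by
        obtain ⟨n, rfl⟩ := hx
        exact hqu (q.isPrime.mem_of_pow_mem n hxq)
    refine ⟨⟨q.asIdeal.map (algebraMap E Eu), IsLocalization.isPrime_of_isPrime_disjoint _ _ _ q.isPrime hdis⟩, ?_⟩
    apply PrimeSpectrum.localization_comap_injective Ru (Submonoid.powers u)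
    refine PrimeSpectrum.ext ?_
    show ((q.asIdeal.map (algebraMap E Eu)).comap φ).comap (algebraMap R Ru) = p.asIdeal.comap (algebraMap R Ru)
    rw [Ideal.comap_comap, hφc, ← Ideal.comap_comap]
    refine (congrArg (Ideal.comap (algebraMap R E))
      (IsLocalization.comap_map_of_isPrime_disjoint _ Eu q.isPrime hdis)).trans ?_
    exact congrArg PrimeSpectrum.asIdeal hq
  obtain ⟨s, hs, ts, hts, heq⟩ := Groth.RegKinds.seq_descent_local (A := Ru) (B := Eu) k hk (J.map (algebraMap R Ru))
    (fun Q' hQ' _ => ⟨1, hQ'.one_notMem, ls.map ((algebraMap Eu (Localization.Away (1 : Eu))).comp (algebraMap E Eu)),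
      Groth.RegKinds.seq_map_kind k hk _ (RingHom.Flat.comp (RingHom.flat_algebraMap_iff.mpr inferInstance)
        (RingHom.flat_algebraMap_iff.mpr inferInstance)) hls, by
      rw [← Ideal.map_ofList, ← hJ, Ideal.map_map, Ideal.map_map, Ideal.map_map]
      congr 1
      rw [RingHom.comp_assoc]
      exact congrArg _ hφc⟩)
    (hP := IsLocalization.isPrime_of_isPrime_disjoint (Submonoid.powers u) Ru P inferInstance
      (Set.disjoint_left.mpr fun x hx hxP => by
        obtain ⟨n, rfl⟩ := hx
        exact hPu ((inferInstance : P.IsPrime).mem_of_pow_mem n hxP)))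
    (P.map (algebraMap R Ru)) (Ideal.map_mono hJP)
  exact seq_away_of_away k hk u P hPu J s hs hts heq

/-- An etale algebra retracting onto a localisation of `R/J`, with a sequence generating the retraction's kernel. -/
theorem exists_seq_of_retraction {E C C₂ : Type u} [CommRing E] [CommRing C] [CommRing C₂] [Algebra R E]
    [Algebra.Etale R E] [Algebra R C] [Algebra R C₂] [Algebra C C₂] [IsScalarTower R C C₂]
    (k : RegImm.Kind) (hk : k ≠ .regular)
    (hC : Function.Surjective (algebraMap R C)) (r : R) [IsLocalization.Away (algebraMap R C r) C₂]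
    (ψ : E →ₐ[R] C₂) (hψ : Function.Surjective ψ) {ls : List E} (hls : k.Seq E ls)
    (hker : Ideal.ofList ls = RingHom.ker ψ.toRingHom) (q : Ideal C₂) [hq : q.IsPrime] (P : Ideal R) [P.IsPrime]
    (hqP : q.comap (algebraMap R C₂) = P) (hP : RingHom.ker (algebraMap R C) ≤ P) :
    ∃ v ∉ P, ∃ ls : List (Localization.Away v), k.Seq _ ls ∧
      (RingHom.ker (algebraMap R C)).map (algebraMap R (Localization.Away v)) = Ideal.ofList ls := by
  obtain ⟨e, he, heJ⟩ := exists_mul_mem hC r ψ hψ (hker ▸ fg_ofList ls)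
  let φ := algebraMap E (Localization.Away e)
  have hJE : (RingHom.ker (algebraMap R C)).map (algebraMap R (Localization.Away e)) =
      Ideal.ofList (ls.map φ) := by
    rw [← Ideal.map_ofList, hker, IsScalarTower.algebraMap_eq R E (Localization.Away e), ← Ideal.map_map]
    refine le_antisymm (Ideal.map_mono ?_) (Ideal.map_le_iff_le_comap.mpr fun x hx => ?_)
    · refine Ideal.map_le_iff_le_comap.mpr fun j hj => ?_
      show ψ (algebraMap R E j) = 0
      rw [ψ.commutes, IsScalarTower.algebraMap_apply R C C₂, RingHom.mem_ker.mp hj, map_zero]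
    · have h1 := Ideal.mem_map_of_mem φ (heJ x hx)
      rw [map_mul] at h1
      rw [Ideal.mem_comap]
      exact (Ideal.unit_mul_mem_iff_mem _ (IsLocalization.Away.algebraMap_isUnit (S := Localization.Away e) e)).mp h1
  let Q := q.comap ψ.toRingHom
  have heQ : Disjoint (Submonoid.powers e : Set E) (Q : Set E) :=
    Set.disjoint_left.mpr fun x hx hxq => by
      obtain ⟨N, rfl⟩ := hx
      apply hq.ne_top
      rw [Ideal.eq_top_iff_one]
      simpa [Q, map_pow, he] using hxq
  have : (Q.map φ).IsPrime := IsLocalization.isPrime_of_isPrime_disjoint _ _ _ inferInstance heQ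
  refine exists_seq_of_etale k hk _ (Groth.RegKinds.seq_map_kind k hk φ
    (RingHom.flat_algebraMap_iff.mpr inferInstance) hls) hJE (Q.map φ) P ?_ hP
  rw [IsScalarTower.algebraMap_eq R E (Localization.Away e), ← Ideal.comap_comap]
  refine (congrArg (Ideal.comap (algebraMap R E))
    (IsLocalization.comap_map_of_isPrime_disjoint _ (Localization.Away e) inferInstance heQ)).trans ?_
  rw [Ideal.comap_comap,
    show ψ.toRingHom.comp (algebraMap R E) = algebraMap R C₂ from RingHom.ext ψ.commutes, hqP]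

set_option maxHeartbeats 1600000 in
set_option backward.isDefEq.respectTransparency false in
set_option backward.isDefEq.respectTransparency.types false in
/-- **Descent along a smooth algebra.** -/
theorem exists_seq_descend_smooth {C : Type u} [CommRing C] [Algebra R C] [Algebra.Smooth R A]
    (π : A →ₐ[R] C) (hC : Function.Surjective (algebraMap R C)) (k : RegImm.Kind) (hk : k ≠ .regular)
    {rs : List A} (hrs : k.Seq A rs) (hker : RingHom.ker π.toRingHom = Ideal.ofList rs)
    (P : Ideal R) [P.IsPrime] (hP : RingHom.ker (algebraMap R C) ≤ P) :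
    ∃ v ∉ P, ∃ ls : List (Localization.Away v), k.Seq _ ls ∧
      (RingHom.ker (algebraMap R C)).map (algebraMap R (Localization.Away v)) = Ideal.ofList ls := by
  classical
  let q₀ := P.map (algebraMap R C)
  have hq₀ : q₀.IsPrime := Ideal.map_isPrime_of_surjective hC hP
  have hq₀c : q₀.comap (algebraMap R C) = P := by
    rw [Ideal.comap_map_of_surjective' _ hC, sup_eq_left]; exact hP
  let q := q₀.comap π.toRingHom
  have hπalg : ∀ x, π (algebraMap R A x) = algebraMap R C x := π.commutes
  obtain ⟨n, _, c, b, hcI, hb, hcet⟩ := Groth.SmoothSlice.exists_etale_coords (A := R) q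
    (RingHom.ker π.toRingHom : Set A) (fun D hD => by
      refine Derivation.ext fun a => ?_
      obtain ⟨r, hr⟩ := hC (π a)
      have h0 := hD (a - algebraMap R A r) (show π (a - algebraMap R A r) = 0 by
        rw [map_sub, hπalg, hr, sub_self])
      simpa [map_sub] using h0)
  obtain ⟨s, ⟨en⟩⟩ := Finite.exists_equiv_fin n
  -- the first localisation
  let A₁ := Localization.Away b
  let θ₁ := algebraMap A A₁
  let c₁ : Fin s → A₁ := θ₁ ∘ c ∘ en.symm
  have hc₁ : (MvPolynomial.aeval (R := R) c₁).toRingHom.Etale := by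
    convert RingHom.Etale.stableUnderComposition _ _
      (RingHom.Etale.of_bijective (f := (MvPolynomial.renameEquiv R en.symm).toRingEquiv.toRingHom)
        (MvPolynomial.renameEquiv R en.symm).bijective) hcet using 1
    refine MvPolynomial.ringHom_ext (fun r => ?_) fun l => ?_
    · simp [IsScalarTower.algebraMap_apply R A A₁, A₁]
    · simp [c₁, θ₁, A₁]
  let f₁ : Fin rs.length → A₁ := θ₁ ∘ rs.get
  have hθ₁ : θ₁.Flat := RingHom.flat_algebraMap_iff.mpr inferInstance
  have hf₁l : List.ofFn f₁ = rs.map θ₁ := by rw [← List.map_ofFn, List.ofFn_get]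
  have hf₁ : k.Seq A₁ (List.ofFn f₁) := hf₁l ▸ Groth.RegKinds.seq_map_kind k hk θ₁ hθ₁ hrs
  have hI₁ : Ideal.span (Set.range f₁) = (RingHom.ker π.toRingHom).map θ₁ := by
    rw [← ofList_ofFn, hf₁l, hker, Ideal.map_ofList]
  have hcI₁ : ∀ l, c₁ l ∈ Ideal.span (Set.range f₁) := fun l => hI₁ ▸ Ideal.mem_map_of_mem _ (hcI _)
  have hdis : Disjoint (Submonoid.powers b : Set A) (q : Set A) := Set.disjoint_left.mpr fun x hx hxq => by
    obtain ⟨m, rfl⟩ := hx
    exact hb ((inferInstance : q.IsPrime).mem_of_pow_mem m hxq)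
  let q₁ := q.map θ₁
  have : q₁.IsPrime := IsLocalization.isPrime_of_isPrime_disjoint _ _ _ inferInstance hdis
  have hI₁q : Ideal.span (Set.range f₁) ≤ q₁ := hI₁ ▸ Ideal.map_mono fun x hx => by
    show π x ∈ q₀
    rw [show π x = 0 from hx]; exact q₀.zero_mem
  have hflat : (MvPolynomial.aeval (R := R) c₁).toRingHom.Flat := by
    let _ := (MvPolynomial.aeval (R := R) c₁).toRingHom.toAlgebra
    have : Algebra.Etale (MvPolynomial (Fin s) R) A₁ := hc₁
    exact (inferInstance : Module.Flat (MvPolynomial (Fin s) R) A₁)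
  have hg₁ : LCI.IsKoszulRegularSeq A₁ (List.ofFn c₁) := by
    have := Groth.KoszulReg.isKoszulRegularSeq_map _ hflat _ (isKoszulRegularSeq_vars s R)
    rwa [List.map_ofFn, show (⇑(MvPolynomial.aeval (R := R) c₁).toRingHom ∘ MvPolynomial.X) = c₁ from
      funext fun l => MvPolynomial.aeval_X c₁ l] at this
  obtain ⟨d, hd, ls, hls, hlsI⟩ := exists_quotient_seq k hk f₁ c₁ hf₁ hg₁ q₁ hcI₁
    (fun v hv l => coords_indep c₁ hc₁ hcI₁ hI₁q v hv l)
  obtain ⟨m, a, ha⟩ := IsLocalization.Away.surj b d
  have haq : a ∉ q := fun h => by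
    have h1 : d * θ₁ b ^ m ∈ q₁ := ha ▸ Ideal.mem_map_of_mem _ h
    exact hd ((Ideal.mul_unit_mem_iff_mem _ ((IsLocalization.Away.algebraMap_isUnit b).pow m)).mp h1)
  -- the second localisation
  let A₂ := Localization.Away d
  have hassoc : Associated d (θ₁ a) := ⟨((IsLocalization.Away.algebraMap_isUnit b).pow m).unit, ha⟩
  have : IsLocalization.Away (θ₁ a) A₂ := IsLocalization.Away.of_associated hassoc
  have : IsLocalization.Away (b * a) A₂ := IsLocalization.Away.mul' A₁ A₂ b a
  let S := (Ideal.span (Set.range c₁)).map (algebraMap A₁ A₂)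
  let c₂ : Fin s → A₂ := algebraMap A₁ A₂ ∘ c₁
  have hc₂ : (MvPolynomial.aeval (R := R) c₂).toRingHom.Etale := by
    convert RingHom.Etale.stableUnderComposition _ _ hc₁
      (RingHom.etale_algebraMap.mpr (Algebra.Etale.of_isLocalizationAway (A := A₂) d)) using 1
    refine MvPolynomial.ringHom_ext (fun r => ?_) fun l => ?_
    · simp [IsScalarTower.algebraMap_apply R A₁ A₂]
    · simp [c₂]
  have : Algebra.Etale R (A₂ ⧸ S) := by
    show Algebra.Etale R (A₂ ⧸ (Ideal.span (Set.range c₁)).map (algebraMap A₁ A₂))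
    rw [Ideal.map_span, ← Set.range_comp]
    exact etale_quotient_coords c₂ hc₂
  -- the map to a localisation of `C`
  obtain ⟨r, hr⟩ := hC (π (b * a))
  let C₂ := Localization.Away (algebraMap R C r)
  have hu : IsUnit (((algebraMap C C₂).comp π.toRingHom) (b * a)) := by
    show IsUnit (algebraMap C C₂ (π (b * a)))
    rw [← hr]; exact IsLocalization.Away.algebraMap_isUnit _
  let π₂ : A₂ →+* C₂ := IsLocalization.Away.lift (b * a) hu
  have hπ₂ : ∀ x, π₂ (algebraMap A A₂ x) = algebraMap C C₂ (π x) := fun x => IsLocalization.Away.lift_eq _ hu x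
  have hS : S ≤ RingHom.ker π₂ := Ideal.map_le_iff_le_comap.mpr (Ideal.span_le.mpr (by
    rintro _ ⟨l, rfl⟩
    show π₂ (algebraMap A₁ A₂ (θ₁ (c (en.symm l)))) = 0
    rw [← IsScalarTower.algebraMap_apply A A₁ A₂, hπ₂, show π (c (en.symm l)) = 0 from hcI _, map_zero]))
  let ψ : A₂ ⧸ S →ₐ[R] C₂ :=
    { Ideal.Quotient.lift S π₂ hS with
      commutes' := fun x => by
        show π₂ (algebraMap R A₂ x) = _
        rw [IsScalarTower.algebraMap_apply R A A₂, hπ₂, hπalg, ← IsScalarTower.algebraMap_apply R C C₂] }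
  have hpow : ∀ N : ℕ, π₂ (algebraMap A A₂ (b * a)) ^ N = algebraMap C C₂ (algebraMap R C r) ^ N := fun N => by
    rw [hπ₂, ← hr]
  have hψ : Function.Surjective ψ := fun z => by
    obtain ⟨N, z₀, hz⟩ := IsLocalization.Away.surj (algebraMap R C r) z
    obtain ⟨z₁, rfl⟩ := hC z₀
    obtain ⟨w, hw⟩ := isUnit_iff_exists_inv.mp
      ((IsLocalization.Away.algebraMap_isUnit (b * a) (S := A₂)).pow N)
    refine ⟨Ideal.Quotient.mk S (algebraMap R A₂ z₁ * w), ?_⟩
    show π₂ (algebraMap R A₂ z₁ * w) = z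
    rw [← ((IsLocalization.Away.algebraMap_isUnit (algebraMap R C r) (S := C₂)).pow N).mul_left_inj, hz,
      ← hpow, ← map_pow π₂, ← map_mul, mul_assoc, mul_comm w, hw, mul_one,
      IsScalarTower.algebraMap_apply R A A₂, hπ₂, hπalg]
  let K := (Ideal.span (Set.range f₁)).map ((Ideal.Quotient.mk S).comp (algebraMap A₁ A₂))
  have hK : RingHom.ker ψ.toRingHom = K := by
    refine le_antisymm (fun x hx => ?_) (Ideal.map_le_iff_le_comap.mpr ?_)
    · obtain ⟨x, rfl⟩ := Ideal.Quotient.mk_surjective x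
      have hx0 : π₂ x = 0 := hx
      obtain ⟨N, y, hy⟩ := IsLocalization.Away.surj (b * a) x
      have h1 : algebraMap C C₂ (π y) = 0 := by rw [← hπ₂, ← hy, map_mul, hx0, zero_mul]
      obtain ⟨⟨_, M, rfl⟩, hM⟩ := (IsLocalization.map_eq_zero_iff (Submonoid.powers (algebraMap R C r)) C₂ _).mp h1
      have h2 : (b * a) ^ M * y ∈ RingHom.ker π.toRingHom := by
        show π _ = 0
        rw [map_mul, map_pow, ← hr]
        exact hM
      have h3 : algebraMap A₁ A₂ (θ₁ ((b * a) ^ M * y)) ∈ (Ideal.span (Set.range f₁)).map (algebraMap A₁ A₂) :=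
        Ideal.mem_map_of_mem _ (hI₁ ▸ Ideal.mem_map_of_mem _ h2)
      rw [← IsScalarTower.algebraMap_apply A A₁ A₂, map_mul, map_pow, ← hy, ← mul_assoc, mul_comm _ x,
        mul_assoc, ← pow_add] at h3
      show Ideal.Quotient.mk S x ∈ (Ideal.span (Set.range f₁)).map _
      rw [← Ideal.map_map]
      exact Ideal.mem_map_of_mem _ ((Ideal.mul_unit_mem_iff_mem _ ((IsLocalization.Away.algebraMap_isUnit (b * a)).pow _)).mp h3)
    · rw [hI₁]
      refine Ideal.map_le_iff_le_comap.mpr fun y hy => ?_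
      show π₂ (algebraMap A₁ A₂ (θ₁ y)) = 0
      rw [← IsScalarTower.algebraMap_apply A A₁ A₂, hπ₂, show π y = 0 from hy, map_zero]
  have hfgI : (Ideal.span (Set.range f₁)).FG := Submodule.fg_span (Set.finite_range f₁)
  have hfg : (RingHom.ker ψ.toRingHom).FG := by
    rw [hK]; exact Ideal.FG.map hfgI _
  -- a prime over `P`
  have hrq : algebraMap R C r ∉ q₀ := by
    rw [hr]; exact fun h => ((inferInstance : q.IsPrime).mem_or_mem (show b * a ∈ q from h)).elim hb haq
  have hdisC : Disjoint (Submonoid.powers (algebraMap R C r) : Set C) (q₀ : Set C) :=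
    Set.disjoint_left.mpr fun x hx hxq => by
      obtain ⟨N, rfl⟩ := hx
      exact hrq (hq₀.mem_of_pow_mem N hxq)
  have hq₂ : (q₀.map (algebraMap C C₂)).IsPrime := IsLocalization.isPrime_of_isPrime_disjoint _ _ _ hq₀ hdisC
  refine exists_seq_of_retraction k hk hC r ψ hψ hls (hlsI.symm.trans hK.symm) (q₀.map (algebraMap C C₂)) P ?_ hP
  rw [IsScalarTower.algebraMap_eq R C C₂, ← Ideal.comap_comap]
  exact (congrArg (Ideal.comap (algebraMap R C))
    (IsLocalization.comap_map_of_isPrime_disjoint _ C₂ hq₀ hdisC)).trans hq₀c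

end Groth.KoszulLCI
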