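import Groth.Agent.KoszulLCI.SmoothDescentAlg
import Groth.Agent.AlgSpCartier.RegKinds

/-!
# Regular immersions descend along smooth morphisms
-/

set_option autoImplicit false
universe u

open CategoryTheory CategoryTheory.Limits AlgebraicGeometry TopologicalSpace
open Groth.KoszulReg (surjective_app isAffineOpen_preimage isClosedImmersion_restrict)

namespace Groth.KoszulLCI

variable {Y X S : Scheme.{u}}

set_option backward.isDefEq.respectTransparency false in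
set_option backward.isDefEq.respectTransparency.types false in
/-- If `i ≫ p` is an immersion with `p` smooth and `i` is Koszul-, `H₁`- or quasi-regular, so is `i ≫ p`. -/
theorem isRegularImmersion_of_comp_smooth (p : X ⟶ S) [Smooth p] (i : Y ⟶ X) [IsImmersion i]
    [IsImmersion (i ≫ p)] (k : RegImm.Kind) (hk : k ≠ .regular) (hi : RegImm.IsRegularImmersion k i) :
    RegImm.IsRegularImmersion k (i ≫ p) := by
  refine ⟨inferInstance, fun y => ?_⟩
  let j := i ≫ p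
  have := Groth.KoszulLCI.isClosedImmersion_restrict_coborder j
  obtain ⟨S₀, hS₀, hyS₀, hS₀le⟩ := exists_isAffineOpen_mem_and_subset
    (show j y ∈ j.coborderRange from subset_coborder ⟨_, rfl⟩)
  obtain ⟨U₀, hyU₀, hcU₀, rs₀, hrs₀, hker₀⟩ := hi.2 y
  obtain ⟨b, hb, hyb⟩ := U₀.2.exists_basicOpen_le (V := p ⁻¹ᵁ S₀)
    ⟨i y, show p (i y) ∈ S₀ from hyS₀⟩ hyU₀
  haveI := hcU₀
  obtain ⟨hcU₁, rs₁, hrs₁, -, hker₁⟩ := Groth.RegKinds.chart_basicOpen k i U₀ rs₀ hrs₀ hker₀ b hyb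
  haveI := hcU₁
  let U₁ : X.affineOpens := ⟨X.basicOpen b, U₀.2.basicOpen b⟩
  obtain ⟨O, hO, hOU⟩ := j.isEmbedding.isOpen_iff.mp (i ⁻¹ᵁ U₁.1).2
  have hyO : j y ∈ O := by
    rw [← Set.mem_preimage, hOU]; exact hyb
  obtain ⟨r, hr, hyr⟩ := hS₀.exists_basicOpen_le (V := (⟨O, hO⟩ : S.Opens)) ⟨j y, hyO⟩ hyS₀
  let r' : Γ(X, U₁.1) := (p.appLE S₀ U₁.1 hb).hom r
  have hr' : X.basicOpen r' = U₁.1 ⊓ p ⁻¹ᵁ S.basicOpen r := Scheme.basicOpen_appLE ..
  have hyU₂ : i y ∈ X.basicOpen r' := by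
    rw [hr']; exact ⟨hyb, show p (i y) ∈ S.basicOpen r from hyr⟩
  obtain ⟨hcU₂, rs, hrs, -, hker⟩ := Groth.RegKinds.chart_basicOpen k i U₁ rs₁ hrs₁ hker₁ r' hyU₂
  haveI := hcU₂
  let U₂ := X.basicOpen r'
  let S₁ := S.basicOpen r
  have hU₂ : IsAffineOpen U₂ := U₁.2.basicOpen r'
  have hS₁ : IsAffineOpen S₁ := hS₀.basicOpen r
  have hle : U₂ ≤ p ⁻¹ᵁ S₁ := hr'.trans_le inf_le_right
  have hV : j ⁻¹ᵁ S₁ = i ⁻¹ᵁ U₂ := by
    refine le_antisymm (fun z hz => ?_) (fun z hz => hle hz)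
    show i z ∈ X.basicOpen r'
    rw [hr']
    refine ⟨?_, hz⟩
    have : j z ∈ O := hr hz
    rwa [← Set.mem_preimage, hOU] at this
  haveI : IsClosedImmersion (j ∣_ S₁) :=
    isClosedImmersion_restrict j ((S.basicOpen_le r).trans hS₀le)
  let πhom := i.appLE U₂ (j ⁻¹ᵁ S₁) hV.le
  have hcomp : p.appLE S₁ U₂ hle ≫ πhom = j.app S₁ := by
    rw [Scheme.Hom.app_eq_appLE]
    exact Scheme.Hom.appLE_comp_appLE _ _ _ _ _ _ _
  algebraize [(p.appLE S₁ U₂ hle).hom, (j.app S₁).hom]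
  have : Algebra.Smooth Γ(S, S₁) Γ(X, U₂) :=
    HasRingHomProperty.appLE (P := @Smooth) p ‹_› ⟨S₁, hS₁⟩ ⟨U₂, hU₂⟩ hle
  let π : Γ(X, U₂) →ₐ[Γ(S, S₁)] Γ(Y, j ⁻¹ᵁ S₁) :=
    { πhom.hom with commutes' := fun x => RingHom.congr_fun (congrArg CommRingCat.Hom.hom hcomp) x }
  have hπker : RingHom.ker π.toRingHom = Ideal.ofList rs := by
    rw [← hker]
    show RingHom.ker (i.appLE U₂ (j ⁻¹ᵁ S₁) hV.le).hom = RingHom.ker (i.app U₂).hom
    have key : ∀ (V : Y.Opens) (h : V = i ⁻¹ᵁ U₂),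
        RingHom.ker (i.appLE U₂ V h.le).hom = RingHom.ker (i.app U₂).hom := fun V h => by
      subst h
      rw [← Scheme.Hom.app_eq_appLE]
    exact key _ hV
  obtain ⟨v, hv, ls, hls, hlsI⟩ := exists_seq_descend_smooth π (surjective_app j S₁ hS₁) k hk hrs hπker
    (hS₁.primeIdealOf ⟨j y, hyr⟩).asIdeal (ker_app_le_primeIdealOf j hS₁ y hyr)
  have hyv : j y ∈ S.basicOpen v := (mem_basicOpen_iff hS₁ v hyr).mpr hv
  haveI hcv : IsClosedImmersion (j ∣_ S.basicOpen v) :=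
    isClosedImmersion_restrict j (S.basicOpen_le v)
  let W : S.affineOpens := ⟨S.basicOpen v, hS₁.basicOpen v⟩
  let ρ := (S.presheaf.map (homOfLE (S.basicOpen_le v)).op).hom
  let _ := ρ.toAlgebra
  have := hS₁.isLocalization_basicOpen v
  let θ : Localization.Away v →+* Γ(S, S.basicOpen v) :=
    IsLocalization.Away.lift v (IsLocalization.Away.algebraMap_isUnit (S := Γ(S, S.basicOpen v)) v)
  have hθ : θ.Flat := by
    have : Module.Flat Γ(S, S₁) Γ(S, S.basicOpen v) :=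
      IsLocalization.flat Γ(S, S.basicOpen v) (Submonoid.powers v)
    exact flat_of_isLocalization (A := Γ(S, S₁)) (Submonoid.powers v) θ (IsLocalization.Away.lift_comp v _)
  refine exists_seq_of_ker k j y W hyv hcv θ hθ ls hls ?_
  rw [ker_app_basicOpen j hS₁ v, ← Ideal.map_ofList, ← hlsI, Ideal.map_map, IsLocalization.Away.lift_comp]
  rfl

end Groth.KoszulLCI
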