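import Groth.Agent.KoszulLCI.Local
import Groth.Agent.KoszulReg.Weakly
import Mathlib.RingTheory.Polynomial.Basic
import Mathlib.RingTheory.Smooth.Basic
import Mathlib.RingTheory.RingHom.Smooth

/-!
# A Koszul-regular sequence becomes regular after a smooth faithfully flat extension
-/

set_option autoImplicit false
set_option linter.style.haveILetI false

universe u

open CategoryTheory CategoryTheory.Limits CochainComplex RingTheory.Sequence Polynomial

namespace Groth.KoszulLCI

variable {A : Type u} [CommRing A]

/-- In the lowest degree the Koszul complex has a copy of the annihilator of the sequence as cycles. -/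
theorem exists_annihilator_cycles : ∀ l : List A,
    (∀ i : ℤ, i < -(l.length : ℤ) → IsZero ((Koszul.koszul A l).X i)) ∧
    ∃ ι : A →ₗ[A] (Koszul.koszul A l).X (-(l.length : ℤ)), Function.Injective ι ∧
      ∀ a, (∀ f ∈ l, a * f = 0) → ∀ k, (Koszul.koszul A l).d (-(l.length : ℤ)) k (ι a) = 0
  | [] => by
    refine ⟨fun i hi => HomologicalComplex.isZero_single_obj_X _ _ _ _ (by simp at hi; omega),
      ((HomologicalComplex.singleObjXSelf (ComplexShape.up ℤ) 0 (ModuleCat.of A A)).inv).hom,
      (ConcreteCategory.bijective_of_isIso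
        (HomologicalComplex.singleObjXSelf (ComplexShape.up ℤ) 0 (ModuleCat.of A A)).inv).1, fun a _ k => ?_⟩
    have : (Koszul.koszul A ([] : List A)).d (-((([] : List A).length : ℤ))) k = 0 :=
      HomologicalComplex.single_obj_d _ _ _ _ _
    rw [this]
    rfl
  | f :: l => by
    obtain ⟨hz, ι, hι, hd⟩ := exists_annihilator_cycles l
    let K := Koszul.koszul A l
    let φ := f • 𝟙 K
    let n : ℤ := -(l.length : ℤ)
    have hn : -((f :: l).length : ℤ) = n - 1 := by simp [n]; ring
    have hz' : ∀ i : ℤ, i < n - 1 → IsZero ((mappingCone φ).X i) := fun i hi => by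
      rw [mappingCone.isZero_X_iff]
      exact ⟨hz _ (by omega), hz _ (by omega)⟩
    let ι' : A →ₗ[A] (mappingCone φ).X (n - 1) := ((mappingCone.inl φ).v n (n - 1) (by omega)).hom.comp ι
    have hι' : Function.Injective ι' := by
      refine Function.Injective.comp (g := ((mappingCone.inl φ).v n (n - 1) (by omega)).hom) ?_ hι
      intro x y hxy
      have h := mappingCone.inl_v_fst_v φ n (n - 1) (by omega)
      have h2 := congrArg (fun z => ((mappingCone.fst φ).1.v (n - 1) n (by omega)) z) hxy
      simp only [← ModuleCat.comp_apply] at h2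
      have hh : ∀ z, ((mappingCone.inl φ).v n (n - 1) (by omega) ≫ (mappingCone.fst φ).1.v (n - 1) n (by omega)) z = z :=
        fun z => by rw [h]; rfl
      exact (hh x).symm.trans (h2.trans (hh y))
    have hd' : ∀ a, (∀ g ∈ f :: l, a * g = 0) → ∀ k, (mappingCone φ).d (n - 1) k (ι' a) = 0 := by
      intro a ha k
      by_cases hk : k = n
      · subst hk
        show ((mappingCone.inl φ).v n (n - 1) (by omega) ≫ (mappingCone φ).d (n - 1) n) (ι a) = 0
        rw [mappingCone.inl_v_d φ n (n - 1) (n + 1) (by omega) (by omega)]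
        simp only [ModuleCat.hom_sub, ModuleCat.hom_comp, LinearMap.sub_apply, LinearMap.comp_apply]
        have h1 : φ.f n (ι a) = 0 := by
          show f • ι a = 0
          rw [← map_smul, smul_eq_mul, mul_comm, ha f List.mem_cons_self, map_zero]
        have h2 : K.d n (n + 1) (ι a) = 0 := hd a (fun g hg => ha g (List.mem_cons_of_mem _ hg)) _
        rw [show (ModuleCat.Hom.hom (φ.f n)) (ι a) = 0 from h1,
          show (ModuleCat.Hom.hom (K.d n (n + 1))) (ι a) = 0 from h2, map_zero, map_zero, sub_zero]
      · rw [(mappingCone φ).shape (n - 1) k (by simp; omega)]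
        rfl
    rw [hn]
    exact ⟨hz', ι', hι', hd'⟩

/-- A nonempty Koszul-regular sequence has trivial annihilator. -/
theorem eq_zero_of_forall_mul_eq_zero {l : List A} (hl : l ≠ []) (h : LCI.IsKoszulRegularSeq A l) {a : A}
    (ha : ∀ f ∈ l, a * f = 0) : a = 0 := by
  obtain ⟨hz, ι, hι, hd⟩ := exists_annihilator_cycles l
  have hpos : 0 < l.length := List.length_pos_iff.mpr hl
  have hex := (HomologicalComplex.exactAt_iff_isZero_homology _ _).mpr (h (-(l.length : ℤ)) (by omega))
  rw [HomologicalComplex.exactAt_iff' _ (-(l.length : ℤ) - 1) (-(l.length : ℤ)) (-(l.length : ℤ) + 1)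
    (by simp) (by simp), ShortComplex.moduleCat_exact_iff] at hex
  obtain ⟨x, hx⟩ := hex (ι a) (hd a ha _)
  have hsub := ModuleCat.subsingleton_of_isZero (hz (-(l.length : ℤ) - 1) (by omega))
  refine hι ?_
  rw [map_zero, ← hx]
  exact (congrArg _ (Subsingleton.elim (α := (Koszul.koszul A l).X (-(l.length : ℤ) - 1)) x 0)).trans (map_zero _)

/-- The polynomial with coefficients a list. -/
noncomputable def listPoly : List A → A[X]
  | [] => 0
  | a :: l => C a + X * listPoly l

theorem mem_coeff_listPoly : ∀ (l : List A) (f : A), f ∈ l → ∃ n, (listPoly l).coeff n = f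
  | a :: l, f, hf => by
    rcases List.mem_cons.mp hf with rfl | hf
    · exact ⟨0, by simp [listPoly]⟩
    · obtain ⟨n, hn⟩ := mem_coeff_listPoly l f hf
      exact ⟨n + 1, by simp [listPoly, hn]⟩

theorem listPoly_mem : ∀ l : List A, listPoly l ∈ Ideal.ofList (l.map C)
  | [] => zero_mem _
  | a :: l => by
    rw [List.map_cons, Ideal.ofList_cons]
    exact add_mem (Ideal.mem_sup_left (Ideal.mem_span_singleton_self _))
      (Ideal.mem_sup_right (Ideal.mul_mem_left _ _ (listPoly_mem l)))

theorem map_listPoly {B : Type u} [CommRing B] (π : A →+* B) : ∀ l : List A,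
    (listPoly l).map π = listPoly (l.map π)
  | [] => Polynomial.map_zero π
  | a :: l => by simp [listPoly, map_listPoly π l]

/-- The induction: a partly regular Koszul-regular sequence becomes regular after adding variables. -/
theorem exists_smooth_regular_aux : ∀ (n : ℕ) (A : Type u) [CommRing A] (p l : List A), l.length = n →
    IsWeaklyRegular A p → LCI.IsKoszulRegularSeq A (l ++ p) →
    ∃ (A' : Type u) (_ : CommRing A') (_ : Algebra A A'), Algebra.Smooth A A' ∧ Module.FaithfullyFlat A A' ∧
      ∃ ls : List A', IsWeaklyRegular A' ls ∧ Ideal.ofList ls = (Ideal.ofList (l ++ p)).map (algebraMap A A') := by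
  intro n
  induction n with
  | zero =>
    intro A _ p l hl hp _
    obtain rfl := List.length_eq_zero_iff.mp hl
    exact ⟨A, inferInstance, Algebra.id A, inferInstance, inferInstance, p, hp, by simp⟩
  | succ n ih =>
    intro A _ p l hl hp hk
    obtain ⟨a, l, rfl⟩ := List.exists_cons_of_length_eq_add_one hl
    let g : A[X] := listPoly (a :: l)
    have hflat : (C : A →+* A[X]).Flat := RingHom.flat_algebraMap_iff.mpr inferInstance
    have hkp : LCI.IsKoszulRegularSeq A p → ∀ h : A[X], g * h ∈ (Ideal.ofList p).map C → h ∈ (Ideal.ofList p).map C := by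
      intro hkoszul h hgh
      let π := Ideal.Quotient.mk (Ideal.ofList p)
      have hker : RingHom.ker (Polynomial.mapRingHom π) = (Ideal.ofList p).map C := by
        rw [Polynomial.ker_mapRingHom, Ideal.mk_ker]
      rw [← hker, RingHom.mem_ker] at hgh ⊢
      have hq := (isKoszulRegularSeq_append_iff p (a :: l) hkoszul π Ideal.Quotient.mk_surjective Ideal.mk_ker).mp hk
      have hnzd : (g.map π) ∈ nonZeroDivisors (A ⧸ Ideal.ofList p)[X] := by
        by_contra hc0
        obtain ⟨c, hc0, hc⟩ := Polynomial.notMem_nonZeroDivisors_iff.mp hc0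
        refine hc0 (eq_zero_of_forall_mul_eq_zero (by simp) hq fun f hf => ?_)
        rw [map_listPoly] at hc
        obtain ⟨m, hm⟩ := mem_coeff_listPoly _ f hf
        rw [← hm, ← Polynomial.coeff_C_mul]
        rw [Polynomial.smul_eq_C_mul] at hc
        rw [hc, Polynomial.coeff_zero]
      rw [map_mul] at hgh
      exact (mem_nonZeroDivisors_iff_right.mp hnzd) _ (by rw [mul_comm]; exact hgh)
    have hkp' : LCI.IsKoszulRegularSeq A p := Groth.KoszulReg.isKoszulRegularSeq_of_isWeaklyRegular hp
    have hreg : IsWeaklyRegular A[X] (p.map C ++ [g]) := by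
      rw [isWeaklyRegular_append_iff]
      refine ⟨hp.of_flat (S := A[X]), ?_⟩
      rw [isWeaklyRegular_singleton_iff]
      intro x y hxy
      obtain ⟨x, rfl⟩ := Submodule.Quotient.mk_surjective _ x
      obtain ⟨y, rfl⟩ := Submodule.Quotient.mk_surjective _ y
      dsimp only at hxy
      rw [← Submodule.Quotient.mk_smul, ← Submodule.Quotient.mk_smul, Submodule.Quotient.eq, ← smul_sub] at hxy
      rw [Submodule.Quotient.eq]
      simp only [smul_eq_mul, Ideal.mul_top, ← Ideal.map_ofList] at hxy ⊢
      exact hkp hkp' _ hxy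
    have hmem : g - C a ∈ Ideal.ofList (l.map C ++ p.map C) := by
      have : g - C a = X * listPoly l := by simp [g, listPoly]
      rw [this, Ideal.ofList_append]
      exact Ideal.mem_sup_left (Ideal.mul_mem_left _ _ (listPoly_mem l))
    have hk₁ : LCI.IsKoszulRegularSeq A[X] (C a :: (l.map C ++ p.map C)) := by
      have := Groth.KoszulReg.isKoszulRegularSeq_map C hflat _ hk
      rwa [List.cons_append, List.map_cons, List.map_append] at this
    have hk₂ : LCI.IsKoszulRegularSeq A[X] (g :: (l.map C ++ p.map C)) :=
      (isKoszulRegularSeq_cons_congr _ hmem).mpr hk₁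
    have hperm : (g :: (l.map C ++ p.map C)).Perm (l.map C ++ (p.map C ++ [g])) := by
      rw [← List.append_assoc]
      exact (List.perm_append_singleton g _).symm
    obtain ⟨A', _, _, hsm, hff, ls, hls, hlsI⟩ := ih A[X] (p.map C ++ [g]) (l.map C) (by simpa using hl) hreg
      ((isKoszulRegularSeq_perm hperm).mp hk₂)
    let _ : Algebra A A' := ((algebraMap A[X] A').comp C).toAlgebra
    have : IsScalarTower A A[X] A' := .of_algebraMap_eq fun _ => rfl
    have : Algebra.FormallySmooth A A[X] := Algebra.FormallySmooth.of_equiv (MvPolynomial.pUnitAlgEquiv.{u, u} A)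
    have : Algebra.Smooth A A[X] := ⟨this, inferInstance⟩
    have : Module.FaithfullyFlat A A[X] := by
      rcases subsingleton_or_nontrivial A with hA | hA
      · exact { submodule_ne_top := fun m hm => absurd (Subsingleton.elim m ⊤) hm.ne_top }
      · infer_instance
    refine ⟨A', inferInstance, inferInstance, Algebra.Smooth.comp A A[X] A', Module.FaithfullyFlat.trans A A[X] A',
      ls, hls, ?_⟩
    rw [hlsI, show algebraMap A A' = (algebraMap A[X] A').comp C from rfl, ← Ideal.map_map]
    congr 1
    rw [← Groth.KoszulLCI.ofList_eq_of_perm hperm, Ideal.map_ofList, List.cons_append, List.map_cons,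
      List.map_append, Ideal.ofList_cons, Ideal.ofList_cons]
    refine le_antisymm (sup_le ?_ le_sup_right) (sup_le ?_ le_sup_right) <;>
      rw [Ideal.span_le, Set.singleton_subset_iff, SetLike.mem_coe]
    · rw [show g = C a + (g - C a) by ring]
      exact add_mem (Ideal.mem_sup_left (Ideal.mem_span_singleton_self _)) (Ideal.mem_sup_right hmem)
    · rw [show C a = g - (g - C a) by ring]
      exact sub_mem (Ideal.mem_sup_left (Ideal.mem_span_singleton_self _)) (Ideal.mem_sup_right hmem)

theorem exists_smooth_regular (l : List A) (h : LCI.IsKoszulRegularSeq A l) :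
    ∃ (A' : Type u) (_ : CommRing A') (_ : Algebra A A'), Algebra.Smooth A A' ∧ Module.FaithfullyFlat A A' ∧
      ∃ ls : List A', IsWeaklyRegular A' ls ∧ Ideal.ofList ls = (Ideal.ofList l).map (algebraMap A A') := by
  simpa using exists_smooth_regular_aux l.length A [] l rfl (IsWeaklyRegular.nil A A) (by simpa using h)

end Groth.KoszulLCI
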