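import Groth.Agent.KoszulLCI.SmoothRegular
import Groth.Agent.AlgSpCartier.RegKinds

/-!
# A Koszul-regular immersion becomes regular after a smooth surjective base change
-/

set_option autoImplicit false
set_option linter.style.haveILetI false
set_option backward.isDefEq.respectTransparency false
set_option backward.isDefEq.respectTransparency.types false

universe u

open CategoryTheory CategoryTheory.Limits AlgebraicGeometry

namespace Groth.KoszulLCI

variable {Z X : Scheme.{u}} (i : Z ⟶ X) [IsClosedImmersion i]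

theorem exists_local_smooth_regular (hi : RegImm.IsRegularImmersion .koszul i) (x : X) :
    ∃ (U : X.affineOpens) (A' : CommRingCat.{u}) (φ : Γ(X, U.1) ⟶ A'), x ∈ U.1 ∧ φ.hom.Smooth ∧
      Function.Surjective (PrimeSpectrum.comap φ.hom) ∧
      ∃ ls : List A', RingTheory.Sequence.IsWeaklyRegular A' ls ∧
        Ideal.ofList ls = (RingHom.ker (i.app U.1).hom).map φ.hom := by
  by_cases hx : x ∈ Set.range i
  · obtain ⟨z, rfl⟩ := hx
    obtain ⟨U, hz, hci, rs, hrs, hker⟩ := hi.2 z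
    obtain ⟨A', _, _, hsm, hff, ls, hls, hlsI⟩ := exists_smooth_regular rs hrs
    refine ⟨U, CommRingCat.of A', CommRingCat.ofHom (algebraMap Γ(X, U.1) A'), hz, ?_, ?_, ls, hls, by rw [hlsI, hker]; rfl⟩
    · exact RingHom.smooth_algebraMap.mpr hsm
    · exact PrimeSpectrum.comap_surjective_of_faithfullyFlat
  · obtain ⟨U, hU, hxU, hle⟩ := exists_isAffineOpen_mem_and_subset
      (show x ∈ (⟨_, i.isClosedEmbedding.isClosed_range.isOpen_compl⟩ : X.Opens) from hx)
    refine ⟨⟨U, hU⟩, Γ(X, U), 𝟙 _, hxU, ?_, ?_, [1], ?_, ?_⟩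
    · exact RingHom.smooth_algebraMap.mpr (inferInstance : Algebra.Smooth Γ(X, U) Γ(X, U))
    · exact fun p => ⟨p, rfl⟩
    · rw [RingTheory.Sequence.isWeaklyRegular_singleton_iff]
      exact fun a b h => by simpa using h
    · have hempty : i ⁻¹ᵁ U = ⊥ := eq_bot_iff.mpr fun y hy => (hle hy ⟨y, rfl⟩).elim
      have : Subsingleton Γ(Z, i ⁻¹ᵁ U) := by
        rw [hempty]
        exact CommRingCat.subsingleton_of_isTerminal Z.sheaf.isTerminalOfEmpty
      rw [Ideal.ofList_singleton, Ideal.span_singleton_one]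
      refine ((Ideal.eq_top_iff_one _).mpr ?_).symm
      rw [show (1 : Γ(X, U)) = (𝟙 Γ(X, U) : Γ(X, U) ⟶ Γ(X, U)).hom 1 from rfl]
      exact Ideal.mem_map_of_mem _ (Subsingleton.elim _ _)

theorem exists_smooth_cover_regular (hi : RegImm.IsRegularImmersion .koszul i) :
    ∃ (X' : Scheme.{u}) (g : X' ⟶ X), Smooth g ∧ Surjective g ∧
      RegImm.IsRegularImmersion RegImm.Kind.regular (pullback.snd i g) := by
  choose U A φ hxU hsm hsurj ls hls hlsI using fun x : X => exists_local_smooth_regular i hi x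
  let gc : ∀ x : X, Spec (A x) ⟶ X := fun x => Spec.map (φ x) ≫ (U x).2.fromSpec
  let X' : Scheme.{u} := ∐ fun x => Spec (A x)
  let g : X' ⟶ X := Sigma.desc gc
  have hgsm : Smooth g := IsZariskiLocalAtSource.sigmaDesc (P := @Smooth) fun x => by
    have : Smooth (Spec.map (φ x)) := (HasRingHomProperty.Spec_iff (P := @Smooth)).mpr (hsm x)
    exact inferInstanceAs (Smooth (Spec.map (φ x) ≫ (U x).2.fromSpec))
  have hgs : Surjective g := ⟨fun x => by
    obtain ⟨q, hq⟩ : x ∈ Set.range (U x).2.fromSpec := by rw [(U x).2.range_fromSpec]; exact hxU x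
    obtain ⟨r, hr⟩ := hsurj x q
    refine ⟨Sigma.ι (fun x => Spec (A x)) x r, ?_⟩
    rw [← Scheme.Hom.comp_apply, Sigma.ι_desc, Scheme.Hom.comp_apply]
    refine Eq.trans ?_ hq
    exact congrArg _ hr⟩
  refine ⟨X', g, hgsm, hgs, inferInstance, fun z => ?_⟩
  let i' := pullback.snd i g
  obtain ⟨⟨c, w⟩, hw⟩ := (sigmaMk (fun x => Spec (A x))).surjective (i' z)
  rw [sigmaMk_mk] at hw
  let ι := Sigma.ι (fun x => Spec (A x)) c
  let U' : X'.Opens := ι ''ᵁ ⊤
  have hU' : IsAffineOpen U' := (isAffineOpen_top (Spec (A c))).image_of_isOpenImmersion ι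
  have hιg : ι ≫ g = gc c := Sigma.ι_desc _ _
  have hle : U' ≤ g ⁻¹ᵁ (U c).1 := by
    rintro _ ⟨v, -, rfl⟩
    show g (ι v) ∈ (U c).1
    rw [← Scheme.Hom.comp_apply, hιg, Scheme.Hom.comp_apply]
    exact (U c).2.range_fromSpec.le ⟨_, rfl⟩
  have hzU' : i' z ∈ U' := ⟨w, trivial, hw⟩
  have hcU : IsClosedImmersion (i ∣_ (U c).1) := IsZariskiLocalAtTarget.restrict ‹IsClosedImmersion i› _
  have hsq : IsPullback (pullback.fst i g) i' i g := IsPullback.of_hasPullback i g
  let θ : (A c) ⟶ Γ(X', U') := (Scheme.ΓSpecIso (A c)).inv ≫ (ι.appIso ⊤).inv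
  have hθ : g.appLE (U c).1 U' hle = φ c ≫ θ := by
    have h1 : g.appLE (U c).1 U' hle ≫ (ι.appIso ⊤).hom = (gc c).appLE (U c).1 ⊤ (by
        rw [← hιg, Scheme.Hom.comp_preimage]
        exact (ι.preimage_image_eq ⊤).ge.trans (ι.preimage_mono hle)) := by
      rw [Scheme.Hom.appIso_hom', Scheme.Hom.appLE_comp_appLE]
      simp only [hιg]
    have h2 : (gc c).appLE (U c).1 ⊤ (by
        rw [Scheme.Hom.comp_preimage, (U c).2.fromSpec_preimage_self]; exact le_top) =
        φ c ≫ (Scheme.ΓSpecIso (A c)).inv := by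
      simp only [gc, Scheme.Hom.comp_appLE]
      rw [(U c).2.fromSpec_app_self, Category.assoc, Scheme.Hom.map_appLE, Scheme.ΓSpecIso_inv_naturality]
      congr 1
    rw [← Category.assoc, ← h2, ← h1, Category.assoc, Iso.hom_inv_id, Category.comp_id]
  refine exists_seq_of_ker .regular i' z ⟨U', hU'⟩ hzU'
    (IsZariskiLocalAtTarget.restrict (inferInstance : IsClosedImmersion i') _) θ.hom
    (RingHom.Flat.of_bijective (ConcreteCategory.bijective_of_isIso θ)) (ls c) ⟨hls c, ?_⟩ ?_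
  all_goals
    have hk : RingHom.ker (i'.app U').hom = Ideal.ofList ((ls c).map θ.hom) := by
      rw [Groth.RegKinds.ker_app_baseChange i g i' (pullback.fst i g) hsq (U c) hU' hle, hθ, CommRingCat.hom_comp,
        ← Ideal.map_map, ← hlsI c, Ideal.map_ofList]
  · intro htop
    apply ne_top_of_le_ne_top (hU'.primeIdealOf ⟨i' z, hzU'⟩).isPrime.ne_top (ker_app_le_primeIdealOf i' hU' z hzU')
    rw [hk, ← Ideal.map_ofList]
    rw [smul_eq_mul, Ideal.mul_top] at htop
    rw [← htop, Ideal.map_top]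
  · exact hk

end Groth.KoszulLCI
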