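import Groth.Agent.KoszulLCI.RegularFactor
import Groth.Agent.KoszulLCI.TorPolynomial
import Groth.Agent.S6532

/-!
# Quotients of finite tor dimension between a ring and a regular-sequence quotient
-/

set_option autoImplicit false

universe u

open CategoryTheory TensorProduct

attribute [local instance] HasDerivedCategory.standard

namespace Groth.KoszulLCI

open IsLocalRing RingTheory.Sequence

theorem hasFiniteTorDim_congr {R : Type u} [CommRing R] {M N : Type u} [AddCommGroup M] [Module R M]
    [AddCommGroup N] [Module R N] (e : M ≃ₗ[R] N) (h : DRing.HasFiniteTorDim R M) :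
    DRing.HasFiniteTorDim R N := by
  obtain ⟨d, hd⟩ := (hasFiniteTorDim_iff M).1 h
  exact (hasFiniteTorDim_iff N).2 ⟨d, hasTorAmp_congr e hd⟩

/-- If `R/K` has finite tor dimension over `R = L/I` and `I ⊆ 𝔪K`, then `I = 0`. -/
theorem ker_eq_bot_of_hasFiniteTorDim {L R : Type u} [CommRing L] [IsNoetherianRing L] [IsLocalRing L]
    [CommRing R] [IsNoetherianRing R] [IsLocalRing R] (π : L →+* R) (hπ : Function.Surjective π) (rs : List L)
    (hrs : ∀ x ∈ rs, x ∈ maximalIdeal L) (hI : RingHom.ker π ≤ maximalIdeal L • Ideal.ofList rs)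
    (htor : DRing.HasFiniteTorDim R (R ⧸ (Ideal.ofList rs).map π)) : RingHom.ker π = ⊥ := by
  classical
  by_contra hne
  let I := RingHom.ker π
  have hIfg : I.FG := IsNoetherian.noetherian _
  have hgfin := Submodule.FG.finite_generators hIfg
  obtain ⟨f, hf⟩ : I.generators.Nonempty := by
    rw [Set.nonempty_iff_ne_empty]
    intro h0
    refine hne ?_
    show I = ⊥
    rw [← Submodule.span_generators I, h0, Submodule.span_empty]
  let J : Ideal L := maximalIdeal L • I ⊔ Ideal.span (I.generators \ {f})
  have hfI : f ∈ I := by rw [← Submodule.span_generators I]; exact Submodule.subset_span hf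
  have hJI : J ≤ I := sup_le Submodule.smul_le_right (Ideal.span_le.mpr fun x hx => by
    rw [SetLike.mem_coe, ← Submodule.span_generators I]; exact Submodule.subset_span hx.1)
  have hfJ : f ∉ J := by
    intro hm
    have h1 : I ≤ Ideal.span (I.generators \ {f}) ⊔ maximalIdeal L • I := by
      conv_lhs => rw [← Submodule.span_generators I]
      rw [sup_comm]
      refine Submodule.span_le.mpr fun x hx => ?_
      by_cases hxf : x = f
      · subst hxf; exact hm
      · exact Ideal.mem_sup_right (Ideal.subset_span ⟨hx, hxf⟩)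
    have h2 := Submodule.le_of_le_smul_of_le_jacobson_bot hIfg (maximalIdeal_le_jacobson _) h1
    have h3 : I = Submodule.span L (I.generators \ {f}) := le_antisymm h2
      (le_trans le_sup_right hJI)
    have h4 := Submodule.spanFinrank_span_le_ncard_of_finite (R := L) (hgfin.subset (Set.sdiff_subset (t := {f})))
    rw [← h3, ← Submodule.FG.generators_ncard hIfg] at h4
    have := Set.ncard_sdiff_singleton_lt_of_mem hf hgfin
    omega
  have hJ1 : J ≠ ⊤ := fun h => hfJ (h ▸ Submodule.mem_top)
  let π' : L ⧸ J →+* R := Ideal.Quotient.lift J π fun x hx => RingHom.mem_ker.mp (hJI hx)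
  have hπ' : Function.Surjective π' := Ideal.Quotient.lift_surjective_of_surjective J _ hπ
  let f₁ : L ⧸ J := Ideal.Quotient.mk J f
  have hker : RingHom.ker π' = Ideal.span {f₁} := by
    rw [Ideal.ker_quotient_lift π hJI, ← Set.image_singleton, ← Ideal.map_span]
    refine le_antisymm ?_ (Ideal.map_mono ((Ideal.span_singleton_le_iff_mem _).mpr hfI))
    have : I ≤ J ⊔ Ideal.span {f} := by
      conv_lhs => rw [← Submodule.span_generators I]
      refine Submodule.span_le.mpr fun x hx => ?_
      by_cases hxf : x = f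
      · exact Ideal.mem_sup_right (hxf ▸ Ideal.mem_span_singleton_self f)
      · exact Ideal.mem_sup_left (Ideal.mem_sup_right (Ideal.subset_span ⟨hx, hxf⟩))
    refine (Ideal.map_mono this).trans ?_
    rw [Ideal.map_sup, Ideal.map_quotient_self, bot_sup_eq]
  have hfm : f ∈ maximalIdeal L := by
    have := hI hfI
    exact (Submodule.smul_le.mpr fun r hr s _ => Ideal.mul_mem_right s _ hr) this
  have hsq : f₁ * f₁ = 0 := by
    rw [← map_mul, Ideal.Quotient.eq_zero_iff_mem]
    exact Ideal.mem_sup_left (Submodule.smul_mem_smul hfm hfI)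
  have hspan : Ideal.ofList rs = Submodule.span L (Set.range rs.get) := by
    rw [Set.range_list_get]
  obtain ⟨a, ha, hsum⟩ : ∃ a : Fin rs.length →₀ L, (∀ j, a j ∈ maximalIdeal L) ∧ a.sum (fun j c => c • rs.get j) = f := by
    have := hI hfI
    rw [hspan, Submodule.mem_ideal_smul_span_iff_exists_sum] at this
    obtain ⟨a, h1, h2⟩ := this
    exact ⟨a, h1, h2⟩
  have hann : ∀ j, π (a j) ∈ ((Ideal.span {f₁}).annihilator).map π' := fun j => by
    show π' (Ideal.Quotient.mk J (a j)) ∈ _
    refine Ideal.mem_map_of_mem π' ?_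
    rw [Submodule.mem_annihilator_span_singleton, smul_eq_mul, ← map_mul, Ideal.Quotient.eq_zero_iff_mem]
    exact Ideal.mem_sup_left (Submodule.smul_mem_smul (ha j) hfI)
  have hsum' : ∑ j, a j * rs.get j = f := by
    refine Eq.trans ?_ hsum
    exact (Finsupp.sum_fintype a (fun j c => c • rs.get j) (fun i => zero_smul L _)).symm
  let e := MvPolynomial.isEmptyAlgEquiv R (Fin 0)
  refine Groth.Agent.S6532.result π' hπ' f₁ hker hsq (n := 0) (fun j => MvPolynomial.C (π (rs.get j)))
    (fun j => MvPolynomial.C (π (a j))) ?_ ?_ (fun j => MvPolynomial.C (Ideal.Quotient.mk J (a j)))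
    (fun j => MvPolynomial.C (Ideal.Quotient.mk J (rs.get j))) 1 (fun j => MvPolynomial.map_C _ _)
    (fun j => MvPolynomial.map_C _ _) ?_ ?_ ?_
  · simp only [← map_mul, ← map_sum, hsum']
    rw [RingHom.mem_ker.mp hfI, map_zero]
  · intro j d
    rw [MvPolynomial.coeff_C, if_pos (Subsingleton.elim _ _)]
    exact hann j
  · simp only [← map_mul, ← map_sum, hsum', mul_one]
    rfl
  · rw [map_one, map_one]
    have hle : Ideal.span (Set.range fun j => (MvPolynomial.C (π (rs.get j)) : MvPolynomial (Fin 0) R)) ⊔
        (((Ideal.span {f₁}).annihilator).map π').map MvPolynomial.C ≤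
        Ideal.comap MvPolynomial.constantCoeff (maximalIdeal R) := by
      refine sup_le (Ideal.span_le.mpr ?_) (Ideal.map_le_iff_le_comap.mpr ?_)
      · rintro _ ⟨j, rfl⟩
        rw [SetLike.mem_coe, Ideal.mem_comap, MvPolynomial.constantCoeff_C]
        rw [← IsLocalRing.map_maximalIdeal_of_surjective π hπ]
        exact Ideal.mem_map_of_mem π (hrs _ (List.get_mem rs j))
      · intro x hx
        rw [Ideal.mem_comap, Ideal.mem_comap, MvPolynomial.constantCoeff_C]
        have : Nontrivial (L ⧸ J) := Ideal.Quotient.nontrivial_iff.mpr hJ1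
        have : IsLocalRing (L ⧸ J) := IsLocalRing.of_surjective' (Ideal.Quotient.mk J) Ideal.Quotient.mk_surjective
        rw [← IsLocalRing.map_maximalIdeal_of_surjective π' hπ']
        refine Ideal.map_mono (le_maximalIdeal fun h => hfJ ?_) hx
        have h1 : (1 : L ⧸ J) * f₁ = 0 := by
          rw [← smul_eq_mul, ← Submodule.mem_annihilator_span_singleton, Ideal.span] at *
          rw [h]; exact Submodule.mem_top
        rw [one_mul] at h1
        exact Ideal.Quotient.eq_zero_iff_mem.mp h1
    rintro ⟨k, hk⟩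
    rw [one_pow, ← map_one (Ideal.Quotient.mk _), Ideal.Quotient.eq_zero_iff_mem] at hk
    have := hle hk
    rw [Ideal.mem_comap, map_one] at this
    exact (maximalIdeal.isMaximal R).ne_top ((Ideal.eq_top_iff_one _).mpr this)
  · have hmap : Ideal.span (Set.range fun j => (MvPolynomial.C (π (rs.get j)) : MvPolynomial (Fin 0) R)) =
        ((Ideal.ofList rs).map π).map (e.symm : R →+* MvPolynomial (Fin 0) R) := by
      rw [hspan, Ideal.map_map]
      erw [Ideal.map_span]
      rw [← Set.range_comp]
      congr 1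
    exact hasFiniteTorDim_congr (Ideal.quotientEquivAlg _ _ e.symm hmap).toLinearEquiv htor

/-- If `L/K` is cut out by a regular sequence, `I ⊆ K` and `L/K` has finite tor dimension over `L/I`,
then both `I` and `K/I` are generated by regular sequences. -/
theorem tor_factor : ∀ (n : ℕ) (L : Type u) [CommRing L] [IsNoetherianRing L] [IsLocalRing L]
    (R : Type u) [CommRing R] [IsNoetherianRing R] [IsLocalRing R] (π : L →+* R), Function.Surjective π →
    ∀ rs : List L, rs.length = n → IsWeaklyRegular L rs → Ideal.ofList rs ≠ ⊤ →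
    RingHom.ker π ≤ Ideal.ofList rs → DRing.HasFiniteTorDim R (R ⧸ (Ideal.ofList rs).map π) →
    (∃ gs : List L, IsWeaklyRegular L gs ∧ Ideal.ofList gs = RingHom.ker π) ∧
      ∃ ts : List R, IsWeaklyRegular R ts ∧ Ideal.ofList ts = (Ideal.ofList rs).map π := by
  intro n
  induction n using Nat.strong_induction_on with
  | _ n ih =>
    intro L _ _ _ R _ _ _ π hπ rs hn hrs hne hI htor
    by_cases hcase : RingHom.ker π ≤ maximalIdeal L • Ideal.ofList rs
    · have hπs : Function.Surjective π := hπ
      have hbot := ker_eq_bot_of_hasFiniteTorDim π hπ rs (mem_maximalIdeal_of_ne_top hne) hcase htor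
      refine ⟨⟨[], .nil L L, by rw [Ideal.ofList_nil, hbot]⟩, rs.map π, ?_, (Ideal.map_ofList π rs).symm⟩
      let e : L ≃+* R := RingEquiv.ofBijective π ⟨(RingHom.injective_iff_ker_eq_bot π).mpr hbot, hπs⟩
      have hcongr : List.Forall₂ (fun (a : L) (b : R) => ∀ x : L, e.toAddEquiv (a • x) = b • e.toAddEquiv x)
          rs (rs.map π) :=
        List.forall₂_map_right_iff.mpr (List.forall₂_same.mpr fun r _ x => map_mul π r x)
      exact (e.toAddEquiv.isWeaklyRegular_congr hcongr).mp hrs
    · obtain ⟨g, hgI, hg⟩ := SetLike.not_le_iff_exists.mp hcase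
      obtain ⟨b, c, y, f', hp, hc, hy, hgy⟩ := exists_unit_coeff ⊥ rs g (by rw [sup_bot_eq]; exact hI hgI)
        (by rw [sup_bot_eq]; exact hg)
      rw [sup_bot_eq] at hy
      have heq : Ideal.ofList (g :: f') = Ideal.ofList rs := by
        rw [ofList_eq_of_perm hp, Ideal.ofList_cons, Ideal.ofList_cons]
        refine le_antisymm (sup_le ?_ le_sup_right) (sup_le ?_ le_sup_right) <;>
          rw [Ideal.span_le, Set.singleton_subset_iff, SetLike.mem_coe]
        · rw [hgy]
          exact add_mem (Ideal.mem_sup_left (Ideal.mem_span_singleton'.mpr ⟨c, rfl⟩)) (Ideal.mem_sup_right hy)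
        · obtain ⟨c, rfl⟩ := hc
          rw [show b = (↑c⁻¹ : L) * g - (↑c⁻¹ : L) * y by rw [hgy, mul_add, ← mul_assoc, Units.inv_mul]; ring]
          exact sub_mem (Ideal.mem_sup_left (Ideal.mem_span_singleton'.mpr ⟨_, rfl⟩))
            (Ideal.mem_sup_right (Ideal.mul_mem_left _ _ hy))
      have hne' : Ideal.ofList (g :: f') ≠ ⊤ := heq ▸ hne
      have hlen : (g :: f').length = rs.length := by simp [hp.length_eq]
      have hK : LCI.IsKoszulRegularSeq L (g :: f') :=
        isKoszulRegularSeq_of_local (isKoszulRegularSeq_of_isWeaklyRegular hrs) heq hlen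
      have hW := (isWeaklyRegular_cons_iff L g f').mp
        (isWeaklyRegular_of_isKoszulRegularSeq (mem_maximalIdeal_of_ne_top hne') hK)
      have hgm : g ∈ maximalIdeal L := mem_maximalIdeal_of_ne_top hne' g List.mem_cons_self
      let J := Ideal.span {g}
      have : Nontrivial (L ⧸ J) := Ideal.Quotient.nontrivial_iff.mpr fun hJ =>
        (maximalIdeal.isMaximal L).ne_top (top_unique (hJ ▸ (Ideal.span_singleton_le_iff_mem _).mpr hgm))
      have : IsLocalRing (L ⧸ J) :=
        IsLocalRing.of_surjective' (Ideal.Quotient.mk J) Ideal.Quotient.mk_surjective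
      have hJI : J ≤ RingHom.ker π := (Ideal.span_singleton_le_iff_mem _).mpr hgI
      let π' : L ⧸ J →+* R := Ideal.Quotient.lift J π fun x hx => RingHom.mem_ker.mp (hJI hx)
      have hπ' : Function.Surjective π' := Ideal.Quotient.lift_surjective_of_surjective J _ hπ
      have hker' : RingHom.ker π' = (RingHom.ker π).map (Ideal.Quotient.mk J) :=
        Ideal.ker_quotient_lift π hJI
      have hmapK : (Ideal.ofList rs).map (Ideal.Quotient.mk J) = Ideal.ofList (f'.map (Ideal.Quotient.mk J)) := by
        rw [← heq, Ideal.ofList_cons, Ideal.map_sup, Ideal.map_span, Set.image_singleton,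
          Ideal.Quotient.eq_zero_iff_mem.mpr (Ideal.mem_span_singleton_self g), Ideal.map_ofList]
        simp
      have hW' : IsWeaklyRegular (L ⧸ J) (f'.map (Ideal.Quotient.mk J)) :=
        (isWeaklyRegular_map_algebraMap_iff (L ⧸ J) _ f').mpr
          (((Submodule.quotEquivOfEq _ J (by
            rw [← Submodule.ideal_span_singleton_smul, smul_eq_mul, Ideal.mul_top])).isWeaklyRegular_congr f').mp hW.2)
      have hne'' : Ideal.ofList (f'.map (Ideal.Quotient.mk J)) ≠ ⊤ := by
        rw [← hmapK]
        exact ne_top_of_le_ne_top (maximalIdeal.isMaximal _).ne_top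
          ((Ideal.map_mono (le_maximalIdeal hne)).trans
            (IsLocalRing.map_maximalIdeal_of_surjective _ Ideal.Quotient.mk_surjective).le)
      obtain ⟨⟨gs', hgs', hgsI⟩, ts, hts, htsK⟩ := ih f'.length (by simp at hlen; omega) (L ⧸ J) R π' hπ'
        (f'.map (Ideal.Quotient.mk J)) (by simp) hW' hne'' (by
          rw [hker', ← hmapK]; exact Ideal.map_mono hI) (by
          rw [← hmapK, Ideal.map_map, Ideal.Quotient.lift_comp_mk]; exact htor)
      refine ⟨?_, ts, hts, ?_⟩
      · obtain ⟨gs, rfl⟩ := List.map_surjective_iff.mpr Ideal.Quotient.mk_surjective gs'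
        refine ⟨g :: gs, (isWeaklyRegular_cons_iff L g gs).mpr ⟨hW.1, ?_⟩, ?_⟩
        · exact ((Submodule.quotEquivOfEq _ J (by
            rw [← Submodule.ideal_span_singleton_smul, smul_eq_mul, Ideal.mul_top])).isWeaklyRegular_congr gs).mpr
            ((isWeaklyRegular_map_algebraMap_iff (L ⧸ J) _ gs).mp hgs')
        · rw [← Ideal.map_ofList, hker'] at hgsI
          have h2 := congrArg (Ideal.comap (Ideal.Quotient.mk J)) hgsI
          rw [Ideal.comap_map_quotientMk, Ideal.comap_map_quotientMk, sup_eq_right.mpr hJI] at h2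
          rw [Ideal.ofList_cons]
          exact h2
      · rw [htsK, ← hmapK, Ideal.map_map]
        rfl

/-- Finite tor dimension of a quotient of a polynomial ring passes to its localizations. -/
theorem hasFiniteTorDim_quotient_atPrime {B C : Type u} [CommRing B] [CommRing C] [Algebra B C] {m : ℕ}
    (β : MvPolynomial (Fin m) B →ₐ[B] C) (hβ : Function.Surjective β) (h : DRing.HasFiniteTorDim B C)
    (q : Ideal (MvPolynomial (Fin m) B)) [q.IsPrime] :
    DRing.HasFiniteTorDim (Localization.AtPrime q)
      (Localization.AtPrime q ⧸ (RingHom.ker β.toRingHom).map (algebraMap _ (Localization.AtPrime q))) := by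
  let _ := β.toRingHom.toAlgebra
  have : IsScalarTower B (MvPolynomial (Fin m) B) C := IsScalarTower.of_algebraMap_eq fun b => (β.commutes b).symm
  let e : (MvPolynomial (Fin m) B ⧸ RingHom.ker β.toRingHom) ≃ₗ[MvPolynomial (Fin m) B] C :=
    (Submodule.quotEquivOfEq _ _ rfl).trans
      ((Algebra.linearMap (MvPolynomial (Fin m) B) C).quotKerEquivOfSurjective hβ)
  have h1 : DRing.HasFiniteTorDim (MvPolynomial (Fin m) B) (MvPolynomial (Fin m) B ⧸ RingHom.ker β.toRingHom) :=
    hasFiniteTorDim_congr e.symm (hasFiniteTorDim_mvPolynomial C h)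
  obtain ⟨d, hd⟩ := (hasFiniteTorDim_iff _).1 h1
  exact (hasFiniteTorDim_iff _).2 ⟨d, hasTorAmp_congr
    (Algebra.TensorProduct.quotIdealMapEquivTensorQuot (Localization.AtPrime q) (RingHom.ker β.toRingHom)).toLinearEquiv.symm
    (hasTorAmp_baseChange _ _ hd)⟩

section Algebra

variable {A B C : Type u} [CommRing A] [CommRing B] [CommRing C] [Algebra A B] [Algebra B C] [Algebra A C]
  [IsScalarTower A B C]

attribute [local instance] MvPolynomial.algebraMvPolynomial

/-- Factoring a local complete intersection through a map of finite tor dimension. -/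
theorem isLCI_factor_tor [IsNoetherianRing A] [Algebra.FiniteType A B]
    [Algebra.FiniteType B C] (h : LCI.IsLCI A C) (htor : DRing.HasFiniteTorDim B C) :
    LCI.IsLCI B C ∧ ∀ (p : Ideal C) [p.IsPrime], ∃ g : B, g ∉ p.comap (algebraMap B C) ∧
      LCI.IsLCI A (Localization.Away g) := by
  obtain ⟨-, k, δ, hδ, hδI⟩ := h
  obtain ⟨n, α, hα⟩ := Algebra.FiniteType.iff_quotient_mvPolynomial''.mp ‹Algebra.FiniteType A B›
  obtain ⟨m, β, hβ⟩ := Algebra.FiniteType.iff_quotient_mvPolynomial''.mp ‹Algebra.FiniteType B C›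
  let P := MvPolynomial (Fin n) A
  have : IsNoetherianRing B := Algebra.FiniteType.isNoetherianRing A B
  have htor' := hasFiniteTorDim_quotient_atPrime β hβ htor
  let π : MvPolynomial (Fin m) P →+* MvPolynomial (Fin m) B := MvPolynomial.map α.toRingHom
  have hπ : Function.Surjective π := MvPolynomial.map_surjective _ hα
  let γ : MvPolynomial (Fin m) P →ₐ[A] C := (β.restrictScalars A).comp (MvPolynomial.mapAlgHom α)
  have hγ : γ.toRingHom = β.toRingHom.comp π := rfl
  have hK : LCI.IsKoszulRegularIdeal (RingHom.ker γ.toRingHom) :=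
    isKoszulRegularIdeal_ker_twoStep γ (hβ.comp hπ) δ hδ hδI
  have key : ∀ (q : Ideal (MvPolynomial (Fin m) B)) [q.IsPrime], RingHom.ker β.toRingHom ≤ q →
      (∃ gs : List (Localization.AtPrime (q.comap π)), IsWeaklyRegular (Localization.AtPrime (q.comap π)) gs ∧
        Ideal.ofList gs = (RingHom.ker π).map (algebraMap _ (Localization.AtPrime (q.comap π)))) ∧
      ∃ ts : List (Localization.AtPrime q), IsWeaklyRegular (Localization.AtPrime q) ts ∧
        Ideal.ofList ts = (RingHom.ker β.toRingHom).map (algebraMap _ (Localization.AtPrime q)) := by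
    intro q _ hq
    let Q := q.comap π
    let L := Localization.AtPrime Q
    have hKQ : RingHom.ker γ.toRingHom ≤ Q := by
      rw [hγ, ← RingHom.comap_ker]; exact Ideal.comap_mono hq
    obtain ⟨g, hg, r, hr⟩ := locReg_of_isKoszulRegularIdeal hK Q hKQ
    obtain ⟨rs, -, hrs, hrsI⟩ := hr Q hg
    have hne : Ideal.ofList rs ≠ ⊤ := hrsI ▸ map_atPrime_ne_top hKQ
    have hker : RingHom.ker (Localization.localRingHom Q q π rfl) =
        (RingHom.ker π).map (algebraMap _ L) := ker_localRingHom_eq_map π hπ q
    have hπK : RingHom.ker π ≤ RingHom.ker γ.toRingHom := by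
      rw [hγ, ← RingHom.comap_ker]
      exact Ideal.ker_le_comap π
    have hKmap : (Ideal.ofList rs).map (Localization.localRingHom Q q π rfl) =
        (RingHom.ker β.toRingHom).map (algebraMap _ (Localization.AtPrime q)) := by
      rw [hrsI, Ideal.map_map, show (Localization.localRingHom Q q π rfl).comp (algebraMap _ L) =
        (algebraMap _ (Localization.AtPrime q)).comp π from
        RingHom.ext fun a => Localization.localRingHom_to_map _ q π rfl a, ← Ideal.map_map, hγ,
        ← RingHom.comap_ker, Ideal.map_comap_of_surjective π hπ]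
    obtain ⟨⟨gs, hgs, hgsI⟩, ts, hts, htsI⟩ := tor_factor rs.length L (Localization.AtPrime q)
      (Localization.localRingHom Q q π rfl) (surjective_localRingHom π hπ q) rs rfl
      (isWeaklyRegular_of_isKoszulRegularSeq (mem_maximalIdeal_of_ne_top hne) hrs) hne
      (by rw [hker, hrsI]; exact Ideal.map_mono hπK) (by rw [hKmap]; exact htor' q)
    exact ⟨⟨gs, hgs, hgsI.trans hker⟩, ts, hts, htsI.trans hKmap⟩
  refine ⟨⟨inferInstance, m, β, hβ, isKoszulRegularIdeal_of_isWeaklyRegular_atPrime fun q _ hq => ?_⟩,
    fun p _ => ?_⟩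
  · obtain ⟨-, ts, hts, htsI⟩ := key q hq
    exact ⟨ts, hts, htsI⟩
  -- the smooth direction
  let q := p.comap β.toRingHom
  obtain ⟨⟨gs, hgs, hgsI⟩, -⟩ := key q (Ideal.ker_le_comap β.toRingHom)
  let Q := q.comap π
  let cP : P →+* MvPolynomial (Fin m) P := MvPolynomial.C
  let q0 : Ideal P := Q.comap cP
  let P0 := Localization.AtPrime q0
  let ι := Localization.localRingHom q0 Q cP rfl
  let _ := ι.toAlgebra
  have hι : RingHom.Flat (R := P0) (S := Localization.AtPrime Q) ι := by
    have : Module.Flat P (Localization.AtPrime Q) :=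
      Module.Flat.trans P (MvPolynomial (Fin m) P) (Localization.AtPrime Q)
    refine flat_of_isLocalization (A := P) (R := P0) (S := Localization.AtPrime Q) q0.primeCompl ι ?_
    refine RingHom.ext fun a => ?_
    rw [RingHom.comp_apply, Localization.localRingHom_to_map,
      IsScalarTower.algebraMap_apply P (MvPolynomial (Fin m) P) (Localization.AtPrime Q)]
    rfl
  have : Module.Flat P0 (Localization.AtPrime Q) := hι
  have : IsLocalHom (algebraMap P0 (Localization.AtPrime Q)) := Localization.isLocalHom_localRingHom q0 Q cP rfl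
  have : Module.FaithfullyFlat P0 (Localization.AtPrime Q) := by
    exact Module.FaithfullyFlat.of_flat_of_isLocalHom (A := P0) (B := Localization.AtPrime Q)
  let I := RingHom.ker α.toRingHom
  have hIπ : RingHom.ker π = I.map cP := MvPolynomial.ker_map _
  have hIq0 : I ≤ q0 := by
    intro x hx
    show cP x ∈ Q
    exact (Ideal.ker_le_comap π) (hIπ ▸ Ideal.mem_map_of_mem cP hx)
  have hmap : (I.map (algebraMap P P0)).map (algebraMap P0 (Localization.AtPrime Q)) =
      (RingHom.ker π).map (algebraMap _ (Localization.AtPrime Q)) := by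
    rw [hIπ, Ideal.map_map, Ideal.map_map]
    congr 1
    exact RingHom.ext fun a => Localization.localRingHom_to_map q0 Q cP rfl a
  obtain ⟨l, -, hl, hlI⟩ := GenReg.descend (S := Localization.AtPrime Q) (J := I.map (algebraMap P P0))
    (IsNoetherian.noetherian _) (r := gs.length)
    ⟨gs, rfl, isKoszulRegularSeq_of_isWeaklyRegular hgs, hgsI.trans hmap.symm⟩
    (hmap ▸ map_atPrime_ne_top (Ideal.ker_le_comap π))
  have hlw := isWeaklyRegular_of_isKoszulRegularSeq
    (mem_maximalIdeal_of_ne_top (hlI ▸ map_atPrime_ne_top hIq0)) hl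
  -- spreading out
  have hy : ∀ x ∈ l, ∃ y ∈ I, Associated x (algebraMap P P0 y) := fun x hx => by
    obtain ⟨⟨⟨y, hy⟩, s⟩, he⟩ := (IsLocalization.mem_map_algebraMap_iff q0.primeCompl _).mp
      (hlI.le (mem_ofList hx))
    exact ⟨y, hy, (IsLocalization.map_units P0 s).unit, he⟩
  choose! y hyI hy using hy
  let f : List P := l.map y
  have hass : List.Forall₂ Associated l (f.map (algebraMap P P0)) := by
    simp only [f, List.map_map]
    exact List.forall₂_map_right_iff.mpr (List.forall₂_same.mpr fun x hx => hy x hx)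
  obtain ⟨t, ht, hreg⟩ := Groth.FrobLCI.RegularSpread.exists_away q0 f
    (Groth.FrobLCI.RegularSpread.isWeaklyRegular_of_forall₂ hass hlw)
  obtain ⟨h₁, hh₁, h₁I⟩ := exists_away_generators (IsNoetherian.noetherian I) q0 f (by
    rw [Ideal.map_ofList, ← Groth.FrobLCI.RegularSpread.ofList_eq_of_forall₂ hass, hlI])
  let g := t * h₁
  have hgq : g ∉ q0 := fun hm => (Ideal.IsPrime.mem_or_mem (inferInstance : q0.IsPrime) hm).elim ht hh₁
  refine ⟨α g, fun hm => hgq ?_, ?_⟩
  · show β (π (cP g)) ∈ p
    rw [show π (cP g) = MvPolynomial.C (α g) from MvPolynomial.map_C _ g,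
      show β (MvPolynomial.C (α g)) = algebraMap B C (α g) from β.commutes _]
    exact hm
  · have hA : LCI.IsLCI A (Localization.Away g) := by
      have : Algebra.Smooth A P := ⟨inferInstance, inferInstance⟩
      exact isLCI_trans (B := P) (isLCI_of_smooth P) (isLCI_away g)
    let θ : Localization.Away g →+* Localization.Away (α g) :=
      IsLocalization.Away.map _ _ α.toRingHom g
    let _ := θ.toAlgebra
    have : IsScalarTower A (Localization.Away g) (Localization.Away (α g)) := .of_algebraMap_eq fun a => by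
      show _ = θ _
      rw [IsScalarTower.algebraMap_apply A P (Localization.Away g),
        IsScalarTower.algebraMap_apply A B (Localization.Away (α g))]
      exact ((IsLocalization.map_eq _ _).trans (congrArg _ (α.commutes a))).symm
    have hθs : Function.Surjective θ := by
      intro x
      obtain ⟨b, ⟨_, k, rfl⟩, rfl⟩ := IsLocalization.exists_mk'_eq (Submonoid.powers (α g)) x
      obtain ⟨b, rfl⟩ := hα b
      refine ⟨IsLocalization.mk' _ b (⟨g ^ k, k, rfl⟩ : Submonoid.powers g), ?_⟩
      simp [θ, IsLocalization.Away.map, IsLocalization.map_mk']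
    have hθk : RingHom.ker θ = I.map (algebraMap P (Localization.Away g)) :=
      IsLocalization.ker_map (Localization.Away (α g)) α.toRingHom (Submonoid.map_powers α.toRingHom g)
    refine isLCI_trans hA (isLCI_of_surjective (A := Localization.Away g) hθs ?_)
    show LCI.IsKoszulRegularIdeal (RingHom.ker θ)
    have hu : IsUnit (algebraMap P (Localization.Away g) h₁) :=
      isUnit_of_dvd_unit (map_dvd _ (dvd_mul_left h₁ t)) (IsLocalization.Away.algebraMap_isUnit _)
    have heq : I.map (algebraMap P (Localization.Away g)) = Ideal.ofList (f.map (algebraMap P (Localization.Away g))) := by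
      rw [← Ideal.map_ofList]
      refine le_antisymm (Ideal.map_le_iff_le_comap.mpr fun x hx => ?_)
        (Ideal.map_mono (Ideal.span_le.mpr fun z hz => ?_))
      · rw [Ideal.mem_comap, ← Ideal.unit_mul_mem_iff_mem _ hu, ← map_mul]
        exact Ideal.mem_map_of_mem _ (h₁I x hx)
      · obtain ⟨x, hx, rfl⟩ := List.mem_map.mp hz
        exact hyI x hx
    rw [hθk, heq]
    exact isKoszulRegularIdeal_ofList (isKoszulRegularSeq_of_isWeaklyRegular (hreg g (dvd_mul_right t h₁)))

end Algebra

end Groth.KoszulLCI
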